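import Cfsg.Agent.Lib.OddOrder.SideExists
import Cfsg.Agent.Lib.Local.Sigma.PairNeighbourCompl
import Cfsg.Agent.Lib.Local.Sigma.KappaPartition

/-!
# Disjointness of the supports of a pair

Section 2 of the main line of the odd order theorem: for the two members `M`, `L` of a pair the sets
`Ã (M)`, `Ã (L)` are disjoint and avoid the conjugates of `Ẑ`.
-/

set_option autoImplicit false
set_option linter.style.haveILetI false

namespace Cfsg.Lib.OddOrder

open Subgroup Cfsg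
open Cfsg.Lib.Local.Sigma Cfsg.Lib.Local.Uniq
open scoped commutatorElement

universe u

variable {G : Type u} [Group G] [Finite G] {M L K U : Subgroup G}

theorem exists_normalizer_le (hG : IsMinSimpleOddOrder G) {r : ℕ} [Fact r.Prime] {R : Subgroup G}
    (hR : IsPGroup r R) (hR1 : R ≠ ⊥) : ∃ H : Subgroup G, IsCoatom H ∧ normalizer (R : Set G) ≤ H := by
  refine exists_coatom fun e => ?_
  haveI := hG.2.1
  haveI : R.Normal := normalizer_eq_top_iff.1 e
  rcases (inferInstance : R.Normal).eq_bot_or_eq_top with h | h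
  · exact hR1 h
  · exact ne_top_of_isPGroup hG hR h

/-- The primes of `U` are outside `σ` of the partner. -/
theorem not_mem_sigma_partner (hG : IsMinSimpleOddOrder G) (hM : IsCoatom M)
    (hU : IsSigmaDecomposition M K U) (hK1 : K ≠ ⊥) (hL : Pair M K L) {r : ℕ} (hr : r.Prime)
    (hd : r ∣ Nat.card U) : r ∉ sigma L := by
  haveI : Fact r.Prime := ⟨hr⟩
  have hU1 : U ≠ ⊥ := fun e => hr.not_dvd_one (by rwa [e, card_bot] at hd)
  obtain ⟨R⟩ : Nonempty (Sylow r U) := inferInstance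
  have hR1 : ((R : Subgroup U).map U.subtype : Subgroup G) ≠ ⊥ := fun e => by
    have h1 : r ∣ Nat.card ((R : Subgroup U).map U.subtype : Subgroup G) := by
      rw [card_map_of_injective U.subtype_injective, R.card_eq_multiplicity]
      exact dvd_pow_self r (hr.factorization_pos_of_dvd Nat.card_pos.ne' hd).ne'
    rw [e, card_bot] at h1
    exact hr.not_dvd_one h1
  obtain ⟨H, hH, hle⟩ := exists_normalizer_le hG (R.isPGroup'.map U.subtype) hR1
  have hN : Neighbour M K U L H := ⟨hG, hM, hU, hK1, hU1, hL, hH, r, inferInstance, hd, R, hle⟩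
  intro hrL
  obtain ⟨g, hg⟩ := sigma_disjoint hG hL.coatom hH hrL (hN.U_sigma hr hd)
  exact hN.not_conj_L g hg

/-- A prime outside `σ (M)` of an element of `A (M)` divides `|U|`. -/
theorem dvd_card_U (hG : IsMinSimpleOddOrder G) (hM : IsCoatom M) (hU : IsSigmaDecomposition M K U)
    {a : G} (ha : a ∈ typeA M) {t : ℕ} (ht : t.Prime) (hd : t ∣ orderOf a) (hσ : t ∉ sigma M) :
    t ∣ Nat.card U := by
  have h1 := (hd.trans (Subgroup.orderOf_dvd_natCard _ (mixed_facts hG hM hU ha).1.2)).trans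
    (sup_comm U (sigmaCore M) ▸ card_sup_dvd (hU.compl.1.trans (le_normalizer_sigmaCore M)))
  exact (ht.dvd_mul.1 h1).resolve_left fun h => hσ (sigmaCore_isPiSub M t ht h)

theorem order_dvd_mul_supportR (hG : IsMinSimpleOddOrder G) (hM : IsCoatom M) {a r : G}
    (ha : a ∈ sigmaCore M) (ha1 : a ≠ 1) (hr : r ∈ supportR M a) : orderOf a ∣ orderOf (a * r) := by
  have hc : Commute a r :=
    (supportR_le_centralizer hG hM ha ha1 hr).symm
  rw [hc.orderOf_mul_eq_mul_orderOf_of_coprime (Nat.coprime_of_dvd fun t ht h1 h2 =>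
    (supportR_prime hG hM ha ha1 hr ht h2).1
      (sigmaCore_isPiSub M t ht (h1.trans (Subgroup.orderOf_dvd_natCard _ ha))))]
  exact dvd_mul_right _ _

/-- The elements of `Ã (M)`: conjugates of `a R (a)` with `a ∈ M_σ#`, or of mixed elements. -/
theorem tilde_cases (hG : IsMinSimpleOddOrder G) (hM : IsCoatom M) (hU : IsSigmaDecomposition M K U)
    {A : Set G} (hA : A ⊆ typeA M) {g : G} (hg : g ∈ tildeOf M A) :
    g ∈ tildeOf M ((sigmaCore M : Set G) \ {1}) ∨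
      ∃ a ∈ A, a ∉ sigmaCore M ∧ centralizer ({a} : Set G) ≤ M ∧ ∃ y : G, g = y * a * y⁻¹ := by
  obtain ⟨a, ha, r, hr, y, rfl⟩ := hg
  obtain ⟨-, ha1, -, hC⟩ := mixed_facts hG hM hU (hA ha)
  by_cases hσ : a ∈ sigmaCore M
  · exact Or.inl ⟨a, ⟨hσ, ha1⟩, r, hr, y, rfl⟩
  · have hr1 : r = 1 := by rwa [supportR_of_le (hC hσ).1, mem_bot] at hr
    exact Or.inr ⟨a, ha, hσ, (hC hσ).1, y, by rw [hr1, mul_one]⟩

/-- A mixed element of `A (M)` is conjugate to no mixed element of `A (L)`. -/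
theorem mixed_ne (hG : IsMinSimpleOddOrder G) (hM : IsCoatom M) (hU : IsSigmaDecomposition M K U)
    (hK1 : K ≠ ⊥) (hL : Pair M K L) {a b y : G} (ha : a ∈ typeA M) (haσ : a ∉ sigmaCore M)
    (hC : centralizer ({a} : Set G) ≤ M) {KL UL : Subgroup G} (hUL : IsSigmaDecomposition L KL UL)
    (hb : b ∈ typeA L) : a ≠ y * b * y⁻¹ := by
  intro he
  obtain ⟨⟨-, z, hz, hz1, hbz⟩, -⟩ := (mixed_facts hG hL.coatom hUL hb).1
  obtain ⟨t, ht, htd⟩ := Nat.exists_prime_and_dvd (n := orderOf z) fun e => hz1 (orderOf_eq_one_iff.1 e)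
  haveI : Fact t.Prime := ⟨ht⟩
  have htL : t ∈ sigma L := sigmaCore_isPiSub L t ht (htd.trans (Subgroup.orderOf_dvd_natCard _ hz))
  have htM : t ∉ sigma M := fun h => hL.sigma_ne hG hM hU.hall hK1 h htL
  set k := y * (z ^ (orderOf z / t)) * y⁻¹ with hk
  have hko : orderOf k = t := by rw [hk, orderOf_conj, orderOf_pow_orderOf_div (orderOf_pos z).ne' htd]
  have hka : k * a = a * k := by
    have h1 : Commute (z ^ (orderOf z / t)) b := ((show Commute b z from hbz).pow_right _).symm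
    rw [hk, he]
    exact h1.map (MulAut.conj y).toMonoidHom |>.eq
  have hkM : k ∈ M := hC (mem_centralizer_singleton_iff.2 hka)
  have htκ : t ∈ kappa M := by
    have h1 : t ∣ Nat.card M := hko ▸ Subgroup.orderOf_dvd_natCard _ hkM
    rw [← card_of_isComplIn hU.compl] at h1
    rcases ht.dvd_mul.1 h1 with h2 | h2
    · exact absurd htL (not_mem_sigma_partner hG hM hU hK1 hL ht h2)
    · rcases ht.dvd_mul.1 (h2.trans ((sup_comm K (sigmaCore M)) ▸
        card_sup_dvd (hU.hall.1.trans (le_normalizer_sigmaCore M)))) with h3 | h3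
      · exact absurd (sigmaCore_isPiSub M t ht h3) htM
      · exact hU.hall.2.1 t ht h3
  obtain ⟨c, hc, hcK⟩ := exists_conj_le_hall (π := kappa M) (hG.2.2.2 M hM.1) hU.hall.1 hU.hall.2.1
    hU.hall.2.2 (zpowers_le.2 hkM : zpowers k ≤ M) fun s hs hd => by
      rw [Nat.card_zpowers, hko] at hd
      exact (Nat.prime_dvd_prime_iff_eq hs ht).1 hd ▸ htκ
  have hk' : c * k * c⁻¹ ∈ K := hcK (mem_cj (mem_zpowers k))
  have hk1 : c * k * c⁻¹ ≠ 1 := fun e => ht.ne_one (by rw [← hko, conj_eq_one_iff.1 e, orderOf_one])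
  obtain ⟨V', hV', hKV'⟩ := exists_invariant_compl hG hM hU hK1
  have hP := typeP_of_compl hG hM hU hK1 hV' hKV'
  have haD : a ∈ ⁅M, M⁆ := (derived_eq_decomp hG hM hU hK1).ge (mixed_facts hG hM hU ha).1.2
  have h2 : c * a * c⁻¹ ∈ kstar M K := by
    rw [← hP.W₂_centralizer _ hk' hk1, Subgroup.mem_inf]
    refine ⟨(mem_normalizer_iff.1 ((Subgroup.le_normalizer.trans
      (Cfsg.Lib.Local.FreeAction.normalizer_le_normalizer_commutator M)) hc) a).1 haD,
      mem_centralizer_singleton_iff.2 ?_⟩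
    rw [conj_mul, conj_mul, hka]
  exact haσ ((mem_normalizer_iff.1 (le_normalizer_sigmaCore M hc) a).2 h2.1)

/-- A conjugate of a mixed element avoids `M̃_σ` of the partner. -/
theorem mixed_notMem (hG : IsMinSimpleOddOrder G) (hM : IsCoatom M) (hU : IsSigmaDecomposition M K U)
    (hK1 : K ≠ ⊥) (hL : Pair M K L) {b y : G} (hb : b ∈ typeA M) :
    y * b * y⁻¹ ∉ tildeOf L ((sigmaCore L : Set G) \ {1}) := by
  rintro ⟨a, ⟨ha, ha1⟩, r, hr, y', he⟩
  obtain ⟨t, ht, htd⟩ := Nat.exists_prime_and_dvd (n := orderOf a) fun e => ha1 (orderOf_eq_one_iff.1 e)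
  have htL : t ∈ sigma L := sigmaCore_isPiSub L t ht (htd.trans (Subgroup.orderOf_dvd_natCard _ ha))
  have htb : t ∣ orderOf b := by
    rw [← orderOf_conj y b, he, orderOf_conj]
    exact htd.trans (order_dvd_mul_supportR hG hL.coatom ha ha1 hr)
  exact not_mem_sigma_partner hG hM hU hK1 hL ht (dvd_card_U hG hM hU hb ht htb fun h =>
    hL.sigma_ne hG hM hU.hall hK1 h htL) htL

/-- The supports of the two members of a pair are disjoint. -/
theorem tilde_typeA_disjoint (hG : IsMinSimpleOddOrder G) (hM : IsCoatom M) (hU : IsSigmaDecomposition M K U)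
    (hK1 : K ≠ ⊥) (hL : Pair M K L) {A B : Set G} (hA : A ⊆ typeA M) (hB : B ⊆ typeA L) :
    tildeOf M A ∩ tildeOf L B = ∅ := by
  obtain ⟨UL, hUL⟩ := exists_decomp hG hL.coatom hL.hall
  have hKL1 := kstar_ne_bot hG hM hU.hall hK1
  have hne : ∀ g : G, L ≠ cj g M := fun g e => by
    obtain ⟨t, ht, htd⟩ := Nat.exists_prime_and_dvd (n := Nat.card (sigmaCore M)) fun h =>
      sigmaCore_ne_bot hG hM (eq_bot_of_card_eq _ h)
    have h1 := sigmaCore_isPiSub M t ht htd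
    exact hL.sigma_ne hG hM hU.hall hK1 h1 (by rw [e, sigma_cj]; exact h1)
  refine Set.eq_empty_iff_forall_notMem.2 fun g ⟨h1, h2⟩ => ?_
  rcases tilde_cases hG hM hU hA h1 with h1 | ⟨a, ha, haσ, hC, y, rfl⟩
  · rcases tilde_cases hG hL.coatom hUL hB h2 with h2 | ⟨b, hb, -, -, y', rfl⟩
    · exact tilde_disjoint hG hM hL.coatom hne h1 h2
    · exact mixed_notMem hG hL.coatom hUL hKL1 (hL.symm hM hU.hall) (hB hb) h1
  · rcases tilde_cases hG hL.coatom hUL hB h2 with h2 | ⟨b, hb, -, -, y', he⟩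
    · exact mixed_notMem hG hM hU hK1 hL (hA ha) h2
    · exact mixed_ne hG hM hU hK1 hL (y := y⁻¹ * y') (hA ha) haσ hC hUL (hB hb)
        (by
          calc a = y⁻¹ * (y * a * y⁻¹) * y := by group
            _ = _ := by rw [he]; group)

/-- The support of a member avoids the conjugates of `Ẑ`. -/
theorem outer_notMem_tilde_typeA (hG : IsMinSimpleOddOrder G) (hM : IsCoatom M)
    (hU : IsSigmaDecomposition M K U) (hK1 : K ≠ ⊥) {A : Set G} (hA : A ⊆ typeA M) {z : G}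
    (hz : z ∈ outer (zgrp M K)) (c : G) : c * z * c⁻¹ ∉ tildeOf M A := by
  intro h
  rcases tilde_cases hG hM hU hA h with h | ⟨a, ha, -, -, y, he⟩
  · exact outer_notMem_tilde hG ⟨hM, K, hU.hall, hK1, rfl⟩ hz hM c h
  · obtain ⟨t, ht, hd, hκ⟩ := outer_kappa hG hM hU hK1 hz
    refine (mixed_facts hG hM hU (hA ha)).2.2.1 t ht ?_ hκ
    rwa [← orderOf_conj y a, ← he, orderOf_conj]

/-- The elements of `A₀ (M)` in `M'` are in `A (M)`. -/
theorem mem_typeA_of_derived (hG : IsMinSimpleOddOrder G) (hM : IsCoatom M) {a : G}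
    (ha : a ∈ typeA0 M) (haD : a ∈ ⁅M, M⁆) : a ∈ typeA M := by
  by_contra hA
  obtain ⟨K', U', hU'⟩ := exists_decomposition hG hM
  obtain ⟨hK1, m, hm, w, hw, rfl⟩ := outer_facts hG hM hU' ha hA
  obtain ⟨t, ht, hd, hκ⟩ := outer_kappa hG hM hU' hK1 hw
  haveI : Fact t.Prime := ⟨ht⟩
  exact decomp_prime hG hM hU' ((derived_eq_decomp hG hM hU' hK1).le haD) ht (by rwa [orderOf_conj]) hκ

variable {S T W₁ W₂ V : Subgroup G}

/-- In data of type P, `W₁` is a Hall `κ`-subgroup and `W₂ = C_{M_σ} (W₁)`. -/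
theorem typeP_kappa (hG : IsMinSimpleOddOrder G) (hM : IsCoatom M) (hP : IsTypePWith M W₁ U W₂) :
    IsPiHallOf (kappa M) W₁ M ∧ kstar M W₁ = W₂ := by
  obtain ⟨K', U', hU'⟩ := exists_decomposition hG hM
  have hK1 := ne_bot_of_typeP hG hM hU' hP
  obtain ⟨V', hV', hKV'⟩ := exists_invariant_compl hG hM hU' hK1
  have hP' := typeP_of_compl hG hM hU' hK1 hV' hKV'
  have hW1M : W₁ ≤ M := hP.W₁_compl.2.1
  have hcard : Nat.card W₁ = Nat.card K' := Nat.eq_of_mul_eq_mul_left Nat.card_pos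
    ((card_of_isComplIn hP.W₁_compl).trans (card_of_isComplIn hP'.W₁_compl).symm)
  have hHall : IsPiHallOf (kappa M) W₁ M := by
    refine ⟨hW1M, fun t ht hd => hU'.hall.2.1 t ht (hcard ▸ hd), fun t ht htk hd => ?_⟩
    have e : W₁.relIndex M = K'.relIndex M := Nat.eq_of_mul_eq_mul_left Nat.card_pos
      ((Cfsg.Lib.Core.card_mul_relIndex hW1M).trans ((congrArg (· * K'.relIndex M) hcard).trans
        (Cfsg.Lib.Core.card_mul_relIndex hU'.hall.1)).symm)
    exact hU'.hall.2.2 t ht htk (e ▸ hd)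
  obtain ⟨U'', hU''⟩ := exists_decomp hG hM hHall
  obtain ⟨V'', hV'', hKV''⟩ := exists_invariant_compl hG hM hU'' hP.W₁_ne
  have hP'' := typeP_of_compl hG hM hU'' hP.W₁_ne hV'' hKV''
  obtain ⟨x, hx, hx1⟩ := W₁.bot_or_exists_ne_one.resolve_left hP.W₁_ne
  exact ⟨hHall, (hP''.W₂_centralizer x hx hx1).symm.trans (hP.W₂_centralizer x hx hx1)⟩

/-- Mirror-image data of type P make a pair. -/
theorem pair_of_typeP (hG : IsMinSimpleOddOrder G) (hS : IsCoatom S) (hT : IsCoatom T)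
    (hPS : IsTypePWith S W₁ U W₂) (hPT : IsTypePWith T W₂ V W₁) : Pair S W₁ T := by
  obtain ⟨-, e1⟩ := typeP_kappa hG hS hPS
  obtain ⟨h2, e2⟩ := typeP_kappa hG hT hPT
  exact ⟨hT, e1.symm ▸ h2, by rw [e1, e2]⟩

/-- Section 2: disjointness, in terms of the data of type P. -/
theorem pair_disjoint (hG : IsMinSimpleOddOrder G) (hS : IsCoatom S) (hT : IsCoatom T)
    (hPS : IsTypePWith S W₁ U W₂) (hPT : IsTypePWith T W₂ V W₁) {A B : Set G}
    (hA : A ⊆ typeA S) (hB : B ⊆ typeA T) :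
    tildeOf S A ∩ tildeOf T B = ∅ ∧
      ∀ (y w : G), w ∈ W₁ ⊔ W₂ → w ∉ W₁ → w ∉ W₂ →
        y * w * y⁻¹ ∉ tildeOf S A ∧ y * w * y⁻¹ ∉ tildeOf T B := by
  have hL := pair_of_typeP hG hS hT hPS hPT
  obtain ⟨hHS, e1⟩ := typeP_kappa hG hS hPS
  obtain ⟨hHT, e2⟩ := typeP_kappa hG hT hPT
  obtain ⟨U₁, hU₁⟩ := exists_decomp hG hS hHS
  obtain ⟨V₁, hV₁⟩ := exists_decomp hG hT hHT
  refine ⟨tilde_typeA_disjoint hG hS hU₁ hPS.W₁_ne hL hA hB, fun y w hw hw1 hw2 => ⟨?_, ?_⟩⟩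
  · refine outer_notMem_tilde_typeA hG hS hU₁ hPS.W₁_ne hA ?_ y
    rw [hL.outer_eq hG hS hHS hPS.W₁_ne, zgrp, e1]
    exact ⟨hw, fun h => h.elim hw1 hw2⟩
  · refine outer_notMem_tilde_typeA hG hT hV₁ hPT.W₁_ne hB ?_ y
    rw [(pair_of_typeP hG hT hS hPT hPS).outer_eq hG hT hHT hPT.W₁_ne, zgrp, e2, sup_comm]
    exact ⟨hw, fun h => h.elim hw2 hw1⟩

/-- The set of a side is in `A (M)` when `N ≤ M'`. -/
theorem Side.subset_typeA {N K₀ : Subgroup G} {u : ℕ} (hG : IsMinSimpleOddOrder G)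
    (h : Side M W₁ W₂ N K₀ u) (hN : N ≤ ⁅M, M⁆) : (N : Set G) \ (K₀ : Set G) ⊆ typeA M :=
  fun _ ha => mem_typeA_of_derived hG h.coatom (h.subset_A0 ha) (hN ha.1)

/-- Section 2 for a pair of sides. -/
theorem side_disjoint {N K₀ N' K₀' : Subgroup G} {u v : ℕ} (hG : IsMinSimpleOddOrder G)
    (hPS : IsTypePWith S W₁ U W₂) (hPT : IsTypePWith T W₂ V W₁) (hs : Side S W₁ W₂ N K₀ u)
    (ht : Side T W₂ W₁ N' K₀' v) (hN : N ≤ ⁅S, S⁆) (hN' : N' ≤ ⁅T, T⁆) :
    tildeOf S ((N : Set G) \ (K₀ : Set G)) ∩ tildeOf T ((N' : Set G) \ (K₀' : Set G)) = ∅ ∧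
      ∀ (y w : G), w ∈ W₁ ⊔ W₂ → w ∉ W₁ → w ∉ W₂ →
        y * w * y⁻¹ ∉ tildeOf S ((N : Set G) \ (K₀ : Set G)) ∧
          y * w * y⁻¹ ∉ tildeOf T ((N' : Set G) \ (K₀' : Set G)) :=
  pair_disjoint hG hs.coatom ht.coatom hPS hPT (hs.subset_typeA hG hN) (ht.subset_typeA hG hN')

end Cfsg.Lib.OddOrder
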