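import Mathlib

/-!
# A nondegenerate alternating form lives on a group of square order
-/

set_option autoImplicit false
set_option linter.style.haveILetI false

namespace Cfsg.Lib.OddOrder

open Subgroup

universe u

/-- A finite abelian group with a nondegenerate alternating pairing to `ℂˣ` has square order. -/
theorem isSquare_card_of_alternating {V : Type u} [CommGroup V] [Finite V] (B : V →* V →* ℂˣ)
    (halt : ∀ x, B x x = 1) (hnd : ∀ x, (∀ y, B x y = 1) → x = 1) : IsSquare (Nat.card V) := by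
  classical
  have hskew : ∀ x y, B x y = (B y x)⁻¹ := fun x y => by
    have h := halt (x * y)
    simp only [map_mul, MonoidHom.mul_apply, halt, one_mul, mul_one] at h
    exact eq_inv_of_mul_eq_one_left ((mul_comm _ _).trans h)
  let T : Set (Subgroup V) := {W | ∀ x ∈ W, ∀ y ∈ W, B x y = 1}
  obtain ⟨W, hW⟩ := (Set.toFinite T).exists_maximal ⟨⊥, fun x hx y _ => by
    rw [mem_bot.1 hx, map_one, MonoidHom.one_apply]⟩
  have hperp : ∀ x, (∀ w ∈ W, B x w = 1) → x ∈ W := by
    intro x hx
    have hwx : ∀ w ∈ W, B w x = 1 := fun w hw => by rw [hskew, hx w hw, inv_one]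
    refine hW.2 (y := W ⊔ zpowers x) (fun a ha b hb => ?_) le_sup_left (mem_sup_right (mem_zpowers x))
    obtain ⟨a₁, ha₁, _, ⟨i, rfl⟩, rfl⟩ := mem_sup.1 ha
    obtain ⟨b₁, hb₁, _, ⟨j, rfl⟩, rfl⟩ := mem_sup.1 hb
    simp only [map_mul, MonoidHom.mul_apply, map_zpow, hW.1 a₁ ha₁ b₁ hb₁, hwx a₁ ha₁, one_zpow, one_mul,
      MonoidHom.zpow_apply, hx b₁ hb₁, halt]
  -- restriction to `W` of the pairing, on `V ⧸ W`
  let l : V ⧸ W →* (W →* ℂˣ) := QuotientGroup.lift W
    { toFun := fun x => (B x).comp W.subtype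
      map_one' := MonoidHom.ext fun w => by simp
      map_mul' := fun a b => MonoidHom.ext fun w => by simp }
    fun w hw => MonoidHom.ext fun v => hW.1 w hw v v.2
  have hl : Function.Injective l := (MonoidHom.ker_eq_bot_iff l).1 (eq_bot_iff.2 fun a ha => by
    obtain ⟨x, rfl⟩ := QuotientGroup.mk_surjective a
    exact mem_bot.2 ((QuotientGroup.eq_one_iff x).2 (hperp x fun w hw => DFunLike.congr_fun ha ⟨w, hw⟩)))
  let r : W →* (V ⧸ W →* ℂˣ) :=
    { toFun := fun w => QuotientGroup.lift W (B w) fun v hv => hW.1 w w.2 v hv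
      map_one' := MonoidHom.ext fun a => by
        obtain ⟨x, rfl⟩ := QuotientGroup.mk_surjective a
        simp
      map_mul' := fun v w => MonoidHom.ext fun a => by
        obtain ⟨x, rfl⟩ := QuotientGroup.mk_surjective a
        show B ((v : V) * w) x = B v x * B w x
        rw [map_mul, MonoidHom.mul_apply] }
  have hr : Function.Injective r := (MonoidHom.ker_eq_bot_iff r).1 (eq_bot_iff.2 fun w hw =>
    mem_bot.2 (Subtype.ext (hnd w fun y => DFunLike.congr_fun hw (y : V ⧸ W))))
  haveI : NeZero (Monoid.exponent W) := ⟨Monoid.exponent_ne_zero_of_finite⟩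
  haveI : NeZero (Monoid.exponent (V ⧸ W)) := ⟨Monoid.exponent_ne_zero_of_finite⟩
  haveI : Finite (W →* ℂˣ) := Finite.of_equiv W
    (CommGroup.monoidHom_mulEquiv_of_hasEnoughRootsOfUnity W ℂ).some.symm.toEquiv
  haveI : Finite (V ⧸ W →* ℂˣ) := Finite.of_equiv (V ⧸ W)
    (CommGroup.monoidHom_mulEquiv_of_hasEnoughRootsOfUnity (V ⧸ W) ℂ).some.symm.toEquiv
  have h1 := Nat.card_le_card_of_injective l hl
  have h2 := Nat.card_le_card_of_injective r hr
  rw [CommGroup.card_monoidHom_of_hasEnoughRootsOfUnity] at h1 h2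
  exact ⟨Nat.card W, by rw [card_eq_card_quotient_mul_card_subgroup W, le_antisymm h1 h2]⟩

end Cfsg.Lib.OddOrder
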