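import Cfsg.Agent.Lib.OddOrder.SideExists
import Cfsg.Agent.Lib.OddOrder.AltSquare
import Cfsg.Agent.Lib.Local.AppC.FreeField

/-!
# The structure of a full side

Section 4 of the main line of the odd order theorem: when `u (p - 1) + 1 = p ^ q` and `[N, N] = K₀`, the group
`H = M_F = N` is elementary abelian of order `p ^ q`, `K₀ = 1`, and `U` is cyclic, fixed-point-free on `H`, of
order `u`; `H` is the additive group of a field of `p ^ q` elements on which `U` acts by scalars, `W₂` being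
the prime field.
-/

set_option autoImplicit false
set_option linter.style.haveILetI false

namespace Cfsg.Lib.OddOrder

open Subgroup Cfsg
open Cfsg.Lib.Local.Sigma
open scoped commutatorElement

universe u

variable {G : Type u} [Group G] [Finite G] {M W₁ U W₂ : Subgroup G}

namespace SideHyp

/-- `D = 1`. -/
theorem D_eq_bot (h : SideHyp M W₁ U W₂) (hK : ⁅sideN M U, sideN M U⁆ = sideK M U) : sideD M U = ⊥ := by
  set D := sideD M U with hD
  by_contra hne
  haveI hsol : Group.IsSolvable D :=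
    Cfsg.Lib.Coprime.isSolvable_of_le (h.D_le.trans h.U_le) (h.minSimple.2.2.2 M h.coatom.1)
  have hlt : ⁅D, D⁆ < D := by
    refine lt_of_le_of_ne (Cfsg.Lib.Coprime.commutator_le_of_le_normalizer Subgroup.le_normalizer) fun e => ?_
    haveI : Nontrivial D := (nontrivial_iff_ne_bot D).2 hne
    refine (Group.IsSolvable.commutator_lt_top_of_nontrivial D).ne (map_injective D.subtype_injective ?_)
    rw [map_subtype_commutator, e, ← MonoidHom.range_eq_map, range_subtype]
  obtain ⟨x, hx, hxD⟩ := SetLike.exists_of_lt hlt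
  set Z := fittingHallOf M ⊔ ⁅D, D⁆ with hZ
  have hDH : D ≤ normalizer (fittingHallOf M : Set G) := (h.D_le.trans h.U_le).trans h.M_le_normalizer_H
  have hNZ : sideN M U ≤ normalizer (Z : Set G) := by
    refine sup_le (le_sup_left.trans Subgroup.le_normalizer) fun d hd => mem_normalizer_of_forall fun z hz => ?_
    suffices hle : Z ≤ Z.comap (MulAut.conj d).toMonoidHom from hle hz
    refine sup_le (fun a ha => mem_sup_left ((mem_normalizer_iff.1 (hDH hd) a).1 ha))
      (commutator_le.2 fun a ha b hb => ?_)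
    show d * ⁅a, b⁆ * d⁻¹ ∈ Z
    rw [conj_commutatorElement']
    exact mem_sup_right (commutator_mem_commutator (D.mul_mem (D.mul_mem hd ha) (D.inv_mem hd))
      (D.mul_mem (D.mul_mem hd hb) (D.inv_mem hd)))
  haveI : (Z.subgroupOf (sideN M U)).Normal := subgroupOf_normal_of hNZ
  set π := QuotientGroup.mk' (Z.subgroupOf (sideN M U))
  have hπ : ∀ z : sideN M U, (z : G) ∈ Z → π z = 1 := fun z hz =>
    (QuotientGroup.eq_one_iff z).2 (mem_subgroupOf.2 hz)
  have hNle : ⁅sideN M U, sideN M U⁆ ≤ Z := by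
    refine commutator_le.2 fun a ha b hb => ?_
    obtain ⟨a₁, ha₁, d, hd, rfl⟩ := h.N_elem ha
    obtain ⟨b₁, hb₁, e, he, rfl⟩ := h.N_elem hb
    let A : sideN M U := ⟨a₁, mem_sup_left ha₁⟩
    let B : sideN M U := ⟨b₁, mem_sup_left hb₁⟩
    let D' : sideN M U := ⟨d, mem_sup_right hd⟩
    let E' : sideN M U := ⟨e, mem_sup_right he⟩
    have h1 : π ⁅A * D', B * E'⁆ = 1 := by
      rw [map_commutatorElement, map_mul, map_mul, hπ A (mem_sup_left ha₁), hπ B (mem_sup_left hb₁),
        one_mul, one_mul, ← map_commutatorElement]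
      exact hπ _ (mem_sup_right (commutator_mem_commutator hd he))
    exact mem_subgroupOf.1 ((QuotientGroup.eq_one_iff _).1 h1)
  obtain ⟨a, ha, c, hc, hac⟩ := Cfsg.Lib.Coprime.exists_mul_of_mem_sup (hlt.le.trans hDH)
    (hNle (hK.ge (mem_sup_right hx)))
  have ha1 : a = 1 := mem_bot.1 (h.typeP.U_compl.2.2.1.le ⟨ha, by
    rw [show a = x * c⁻¹ by rw [hac]; group]
    exact U.mul_mem (h.D_le hx) (U.inv_mem (h.D_le (hlt.le hc)))⟩)
  exact hxD (by rw [hac, ha1, one_mul]; exact hc)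

/-- The structure of a full side. -/
theorem full_structure (h : SideHyp M W₁ U W₂)
    (hfull : (sideD M U).relIndex U * (Nat.card W₂ - 1) + 1 = Nat.card W₂ ^ Nat.card W₁)
    (hK : ⁅sideN M U, sideN M U⁆ = sideK M U) :
    sideN M U = fittingHallOf M ∧ sideK M U = ⊥ ∧ IsElementaryAbelian (Nat.card W₂) (fittingHallOf M) ∧
      Nat.card (fittingHallOf M) = Nat.card W₂ ^ Nat.card W₁ ∧
      Nat.card U = (sideD M U).relIndex U ∧ IsCyclic U ∧
      (∀ v ∈ U, v ≠ 1 → ∀ x ∈ fittingHallOf M, v * x = x * v → x = 1) ∧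
      Nat.card U * (Nat.card W₂ - 1) = Nat.card W₂ ^ Nat.card W₁ - 1 ∧
      Nat.Coprime ((Nat.card W₂ ^ Nat.card W₁ - 1) / (Nat.card W₂ - 1)) (Nat.card W₂ - 1) ∧
      ∃ (F : Type u) (_ : Field F) (_ : Fintype F), Fintype.card F = Nat.card W₂ ^ Nat.card W₁ ∧
        ∃ f ψ : G → F, Set.BijOn f (fittingHallOf M : Set G) Set.univ ∧
          (∀ x ∈ fittingHallOf M, ∀ z ∈ fittingHallOf M, f (x * z) = f x + f z) ∧
          (∀ v ∈ U, ψ v ≠ 0 ∧ ∀ x ∈ fittingHallOf M, f (v * x * v⁻¹) = ψ v * f x) ∧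
          (∀ v ∈ U, ∀ w ∈ U, ψ (v * w) = ψ v * ψ w) ∧ Set.InjOn ψ (U : Set G) ∧
          ∀ x ∈ fittingHallOf M, (f x ^ Nat.card W₂ = f x ↔ x ∈ W₂) := by
  classical
  have hDb := h.D_eq_bot hK
  have hN : sideN M U = fittingHallOf M := by rw [sideN, hDb, sup_bot_eq]
  have hK0 : sideK M U = sideH₀ M U := by rw [sideK, hDb, sup_bot_eq]
  rw [hN, hK0] at hK
  obtain ⟨hMn, hder, hlt, hW2, hidx, -⟩ := h.factor
  set H := fittingHallOf M with hH
  set p := Nat.card W₂ with hp
  set q := Nat.card W₁ with hq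
  haveI : Fact p.Prime := ⟨h.p_prime⟩
  obtain ⟨htrans, hfree⟩ : (∀ x ∈ H, x ∉ sideH₀ M U → ∀ y ∈ H, y ∉ sideH₀ M U →
        ∃ v ∈ U, ∃ c : ℕ, (v * x * v⁻¹) ^ c * y⁻¹ ∈ sideH₀ M U) ∧
      ∀ v ∈ U, ∀ c : ℕ, ∀ x ∈ H, x ∉ sideH₀ M U → v * x * v⁻¹ * (x ^ c)⁻¹ ∈ sideH₀ M U → v = 1 := by
    rcases h.u_cases with ⟨-, h1, h2⟩ | hle
    · exact ⟨h1, fun v hv c x hx hx0 hc => mem_bot.1 (hDb.le (h2 v hv c x hx hx0 hc))⟩
    · exfalso
      have h2 : 0 < (sideD M U).relIndex U * (p - 1) := by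
        have h1 : 1 < p ^ q := Nat.one_lt_pow h.q_prime.pos.ne' h.p_prime.one_lt
        omega
      replace hle : 3 * ((sideD M U).relIndex U * (p - 1)) + 1 ≤ p ^ q := mul_assoc 3 _ (p - 1) ▸ hle
      omega
  have hHM : H ≤ M := h.H_le_derived.trans h.derived_le
  have hUH : U ≤ normalizer (H : Set G) := h.U_le.trans h.M_le_normalizer_H
  have hcU : ∀ z ∈ ⁅H, H⁆, ∀ v ∈ U, v * z = z * v := fun z hz v hv =>
    mem_centralizer_iff.1 (hder hz).2 v hv
  -- `H` is of class at most two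
  haveI hnil := (Cfsg.Lib.Local.TypeP.fittingHallOf_hall M).1
  have hHHle : ⁅H, H⁆ ≤ H := Cfsg.Lib.Coprime.commutator_le_of_le_normalizer Subgroup.le_normalizer
  have hUHeq : ⁅H, U⁆ = H := by
    have hle : ⁅H, U⁆ ≤ H := Cfsg.Lib.Coprime.commutator_le_of_le_normalizer hUH
    have h1 : H ≤ ⁅H, U⁆ ⊔ sideH₀ M U :=
      (Cfsg.Lib.Coprime.commutator_sup_centralizer_eq hUH h.coprime_HU.symm (Or.inr h.solvable_H)).ge
    have htop : (⁅H, U⁆).subgroupOf H ⊔ frattini H = ⊤ := by
      refine eq_top_iff.2 (le_trans ?_ (sup_le_sup_left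
        (Cfsg.Lib.Char.commutator_le_frattini_of_nilpotent hnil) _))
      have hc : commutator ↥H = (⁅H, H⁆).subgroupOf H := by
        apply map_injective H.subtype_injective
        rw [map_subtype_commutator, map_subgroupOf_eq_of_le hHHle]
      rw [hc, ← subgroupOf_sup hle hHHle, top_le_iff, subgroupOf_eq_top]
      exact h1.trans (sup_le_sup_left hK.ge _)
    have := frattini_nongenerating htop
    rw [subgroupOf_eq_top] at this
    exact le_antisymm hle this
  have hcent : ∀ z ∈ ⁅H, H⁆, ∀ x ∈ H, x * z = z * x := by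
    have h3 : ⁅⁅H, U⁆, ⁅H, H⁆⁆ = ⊥ := by
      refine commutator_commutator_eq_bot_of_rotate ?_ ?_
      · rw [show ⁅U, ⁅H, H⁆⁆ = ⊥ from Cfsg.Lib.Core.commutator_eq_bot_iff_forall.2
          fun a ha b hb => hcU b hb a ha]
        exact commutator_bot_left _
      · refine Cfsg.Lib.Core.commutator_eq_bot_iff_forall.2 fun a ha b hb => (hcU a ?_ b hb).symm
        exact commutator_mono hHHle le_rfl ha
    rw [hUHeq] at h3
    exact fun z hz x hx => Cfsg.Lib.Core.commutator_eq_bot_iff_forall.1 h3 x hx z hz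
  have hmulL : ∀ a ∈ H, ∀ b ∈ H, ∀ c ∈ H, ⁅a * b, c⁆ = ⁅a, c⁆ * ⁅b, c⁆ := fun a ha b hb c hc => by
    have hz := commutator_mem_commutator hb hc
    have hz' := hcent _ hz _ (hHHle (commutator_mem_commutator ha hc))
    calc ⁅a * b, c⁆ = a * ⁅b, c⁆ * a⁻¹ * ⁅a, c⁆ := by simp [commutatorElement_def, mul_assoc]
      _ = ⁅b, c⁆ * ⁅a, c⁆ := by rw [hcent _ hz a ha, mul_inv_cancel_right]
      _ = _ := hz'.symm
  -- `H` is abelian
  have habel : ⁅H, H⁆ = ⊥ := by
    by_contra hne
    obtain ⟨z, hz, hz1⟩ := (bot_or_exists_ne_one _).resolve_left hne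
    haveI : IsMulCommutative ↥(⁅H, H⁆) :=
      ⟨⟨fun a b => Subtype.ext (hcent _ b.2 _ (hHHle a.2))⟩⟩
    letI : CommGroup ↥(⁅H, H⁆) :=
      { (inferInstance : Group ↥(⁅H, H⁆)) with mul_comm := fun a b => Subtype.ext (hcent _ b.2 _ (hHHle a.2)) }
    haveI : NeZero (Monoid.exponent ↥(⁅H, H⁆)) := ⟨Monoid.exponent_ne_zero_of_finite⟩
    obtain ⟨χ, hχ⟩ := CommGroup.exists_apply_ne_one_of_hasEnoughRootsOfUnity ↥(⁅H, H⁆) ℂ
      (a := ⟨z, hz⟩) (fun e => hz1 (congrArg Subtype.val e))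
    haveI : ((sideH₀ M U).subgroupOf H).Normal := subgroupOf_normal_of (hHM.trans hMn)
    letI : CommGroup (↥H ⧸ (sideH₀ M U).subgroupOf H) :=
      { (inferInstance : Group (↥H ⧸ (sideH₀ M U).subgroupOf H)) with mul_comm := quotient_comm hder }
    let c : H → H → ↥(⁅H, H⁆) := fun a b => ⟨⁅(a : G), (b : G)⁆, commutator_mem_commutator a.2 b.2⟩
    have hcL : ∀ a b d, c (a * b) d = c a d * c b d := fun a b d =>
      Subtype.ext (hmulL _ a.2 _ b.2 _ d.2)
    have hcinv : ∀ a b, c b a = (c a b)⁻¹ := fun a b => Subtype.ext (commutatorElement_inv _ _).symm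
    have hcR : ∀ a b d, c a (b * d) = c a b * c a d := fun a b d => by
      rw [hcinv (b * d) a, hcL, hcinv b a, hcinv d a, mul_inv]
    have hkill : ∀ a : H, (a : G) ∈ sideH₀ M U → ∀ b, c a b = 1 := fun a ha b => Subtype.ext
      (commutatorElement_eq_one_iff_mul_comm.2 (hcent _ (hK.ge ha) _ b.2).symm)
    let B₀ : H →* (↥H ⧸ (sideH₀ M U).subgroupOf H →* ℂˣ) :=
      { toFun := fun a => QuotientGroup.lift _
          { toFun := fun b => χ (c a b)
            map_one' := by rw [show c a 1 = 1 from Subtype.ext (by simp [c]), map_one]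
            map_mul' := fun b d => by rw [hcR, map_mul] }
          fun b hb => by
            show χ (c a b) = 1
            rw [hcinv b a, hkill b (mem_subgroupOf.1 hb), inv_one, map_one]
        map_one' := MonoidHom.ext fun b => by
          obtain ⟨b, rfl⟩ := QuotientGroup.mk_surjective b
          show χ (c 1 b) = 1
          rw [show c 1 b = 1 from Subtype.ext (by simp [c]), map_one]
        map_mul' := fun a a' => MonoidHom.ext fun b => by
          obtain ⟨b, rfl⟩ := QuotientGroup.mk_surjective b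
          show χ (c (a * a') b) = χ (c a b) * χ (c a' b)
          rw [hcL, map_mul] }
    let B := QuotientGroup.lift ((sideH₀ M U).subgroupOf H) B₀ fun a ha => MonoidHom.ext fun b => by
      obtain ⟨b, rfl⟩ := QuotientGroup.mk_surjective b
      show χ (c a b) = 1
      rw [hkill a (mem_subgroupOf.1 ha), map_one]
    have halt : ∀ x, B x x = 1 := fun x => by
      obtain ⟨a, rfl⟩ := QuotientGroup.mk_surjective x
      show χ (c a a) = 1
      rw [show c a a = 1 from Subtype.ext (commutatorElement_self _), map_one]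
    have hnd : ∀ x, (∀ y, B x y = 1) → x = 1 := by
      intro x hx
      obtain ⟨a, rfl⟩ := QuotientGroup.mk_surjective x
      by_contra ha
      have ha0 : (a : G) ∉ sideH₀ M U := fun e => ha ((QuotientGroup.eq_one_iff a).2 (mem_subgroupOf.2 e))
      have hconjc : ∀ (v : G) (hv : v ∈ U) (b d : H) (hb : v * b * v⁻¹ ∈ H),
          χ (c ⟨v * b * v⁻¹, hb⟩ d) = χ (c b ⟨v⁻¹ * d * v, (mem_normalizer_iff''.1 (hUH hv) _).1 d.2⟩) := by
        intro v hv b d hb
        refine congrArg χ (Subtype.ext ?_)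
        show ⁅v * b * v⁻¹, (d : G)⁆ = ⁅(b : G), v⁻¹ * d * v⁆
        have h1 : ⁅v * b * v⁻¹, (d : G)⁆ = v * ⁅(b : G), v⁻¹ * d * v⁆ * v⁻¹ := by
          rw [conj_commutatorElement', show v * (v⁻¹ * d * v) * v⁻¹ = (d : G) by group]
        rw [h1, hcU _ (commutator_mem_commutator b.2 ((mem_normalizer_iff''.1 (hUH hv) _).1 d.2)) v hv,
          mul_inv_cancel_right]
      have hall : ∀ b d : H, χ (c b d) = 1 := by
        intro b d
        by_cases hb : (b : G) ∈ sideH₀ M U
        · rw [hkill b hb, map_one]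
        obtain ⟨v, hv, k, hk⟩ := htrans a a.2 ha0 b b.2 hb
        have hva : v * a * v⁻¹ ∈ H := (mem_normalizer_iff.1 (hUH hv) _).1 a.2
        have hpow : ∀ n : ℕ, χ (c (⟨_, hva⟩ ^ n) d) = 1 := fun n => by
          induction n with
          | zero => rw [pow_zero, show c 1 d = 1 from Subtype.ext (by simp [c]), map_one]
          | succ n ih =>
            rw [pow_succ, hcL, map_mul, ih, one_mul, hconjc v hv a d hva]
            exact hx ((⟨v⁻¹ * d * v, (mem_normalizer_iff''.1 (hUH hv) _).1 d.2⟩ : H) :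
              ↥H ⧸ (sideH₀ M U).subgroupOf H)
        have h1 := hkill ((⟨_, hva⟩ : H) ^ k * b⁻¹) (by simpa using hk) d
        have h2 : χ (c ((⟨_, hva⟩ : H) ^ k) d) = χ (c b d) := by
          conv_lhs => rw [show (⟨_, hva⟩ : H) ^ k = (⟨_, hva⟩ : H) ^ k * b⁻¹ * b by group, hcL, h1, one_mul]
        rw [← h2, hpow]
      refine hχ ?_
      have hgen : ⁅H, H⁆ ≤ χ.ker.map (⁅H, H⁆).subtype := commutator_le.2 fun x hx y hy =>
        ⟨c ⟨x, hx⟩ ⟨y, hy⟩, hall _ _, rfl⟩
      obtain ⟨w, hw, hwz⟩ := hgen hz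
      rwa [← show w = ⟨z, hz⟩ from Subtype.ext hwz]
    have hsq := isSquare_card_of_alternating B halt hnd
    rw [← Subgroup.index_eq_card, show ((sideH₀ M U).subgroupOf H).index = p ^ q from hidx] at hsq
    obtain ⟨r, hr⟩ := hsq
    obtain ⟨k, -, hk⟩ := (Nat.dvd_prime_pow h.p_prime).1 (Dvd.intro r hr.symm : r ∣ p ^ q)
    rw [hk, ← pow_add] at hr
    have hqe := Nat.pow_right_injective h.p_prime.two_le hr
    obtain ⟨j, hj⟩ : Odd q := Cfsg.Lib.Local.Uniq.odd_subgroup h.minSimple W₁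
    omega
  have hH0 : sideH₀ M U = ⊥ := hK ▸ habel
  rw [hH0] at htrans hfree hidx hlt
  simp only [mem_bot] at htrans hfree
  have hcardH : Nat.card H = p ^ q := by rw [← hidx, relIndex_bot_left]
  have hHc : IsMulCommutative H := ⟨⟨fun a b => Subtype.ext
    (Cfsg.Lib.Core.commutator_eq_bot_iff_forall.1 habel a a.2 b b.2)⟩⟩
  obtain ⟨e, heW, he1⟩ := W₂.bot_or_exists_ne_one.resolve_left fun e => h.p_prime.ne_one (show Nat.card W₂ = 1 by rw [e, card_bot])
  have heH : e ∈ H := h.W₂_le_H heW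
  have hep : e ^ p = 1 := congrArg Subtype.val (pow_card_eq_one' (x := (⟨e, heW⟩ : W₂)))
  have hexp : ∀ x ∈ H, x ^ p = 1 := by
    intro x hx
    by_cases hx1 : x = 1
    · rw [hx1, one_pow]
    obtain ⟨v, -, c, hc⟩ := htrans e heH he1 x hx hx1
    rw [← mul_inv_eq_one.1 hc, ← pow_mul, mul_comm, pow_mul, conj_pow, hep, mul_one, mul_inv_cancel, one_pow]
  have hfpf : ∀ v ∈ U, v ≠ 1 → ∀ x ∈ H, v * x = x * v → x = 1 := fun v hv hv1 x hx hc => by
    by_contra hx1
    exact hv1 (hfree v hv 1 x hx hx1 (by rw [pow_one, hc]; group))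
  have hUc : IsMulCommutative U := ⟨⟨fun a b => Subtype.ext (by
    have := hDb.le (h.derived_U_le_D (commutator_mem_commutator a.2 b.2))
    exact commutatorElement_eq_one_iff_mul_comm.1 (mem_bot.1 this))⟩⟩
  have hUcard : Nat.card U = (sideD M U).relIndex U := by rw [hDb, relIndex_bot_left]
  have hUmul : Nat.card U * (p - 1) = p ^ q - 1 := by rw [hUcard]; omega
  have hcop : Nat.Coprime ((p ^ q - 1) / (p - 1)) (p - 1) := by
    rw [← hUmul, Nat.mul_div_cancel _ (by have := h.p_prime.two_le; omega)]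
    refine Nat.coprime_of_dvd fun t ht h1 h2 => ?_
    haveI : Fact t.Prime := ⟨ht⟩
    have hfi : fullIndex p q * (p - 1) + 1 = p ^ q := fullIndex_mul_of_pos h.p_prime.pos q
    have hu : Nat.card U = fullIndex p q :=
      Nat.eq_of_mul_eq_mul_right (by have := h.p_prime.two_le; omega) (by omega : Nat.card U * (p - 1) = fullIndex p q * (p - 1))
    have hpt : (p : ZMod t) = 1 := by
      have h3 : ((p - 1 : ℕ) : ZMod t) = 0 := (ZMod.natCast_eq_zero_iff _ _).2 h2
      rw [Nat.cast_sub h.p_prime.one_le, Nat.cast_one, sub_eq_zero] at h3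
      exact h3
    have hq0 : (q : ZMod t) = 0 := by
      have h3 : ((Nat.card U : ℕ) : ZMod t) = 0 := (ZMod.natCast_eq_zero_iff _ _).2 h1
      rw [hu, fullIndex] at h3
      push_cast at h3
      simpa [hpt] using h3
    have htq : t = q := (Nat.prime_dvd_prime_iff_eq ht h.q_prime).1 ((ZMod.natCast_eq_zero_iff _ _).1 hq0)
    exact ht.ne_one (Nat.eq_one_of_dvd_coprimes h.coprime_W₁U (htq ▸ dvd_rfl : t ∣ q) h1)
  -- the field
  letI : CommGroup ↥H := { (inferInstance : Group ↥H) with mul_comm := fun a b => hHc.is_comm.comm a b }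
  obtain ⟨K, hKc, hbij, hKinj, hact⟩ := Cfsg.Lib.Local.AppC.FreeField.exists_ring H U hHc hUc hUH
    (fun W hWH hW => by
      by_contra hne
      rw [not_or] at hne
      obtain ⟨x, hx, hx1⟩ := W.bot_or_exists_ne_one.resolve_left hne.1
      refine hne.2 (le_antisymm hWH fun y hy => ?_)
      by_cases hy1 : y = 1
      · rw [hy1]; exact one_mem W
      obtain ⟨v, hv, c, hc⟩ := htrans x (hWH hx) hx1 y hy hy1
      rw [← mul_inv_eq_one.1 hc]
      exact pow_mem (hW v hv x hx) c) e heH he1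
  letI hKcomm : CommRing K :=
    { (inferInstance : Ring K) with mul_comm := fun a b => Subtype.ext (hKc a a.2 b b.2) }
  haveI : Finite K := Finite.of_injective _ hbij.1
  haveI : Nontrivial K := ⟨⟨0, 1, fun e0 => he1 (by
    have := congrArg (fun k : K => ((Additive.toMul ((k : AddMonoid.End (Additive ↥H))
      (Additive.ofMul (⟨e, heH⟩ : H))) : ↥H) : G)) e0
    exact this.symm)⟩⟩
  haveI : NoZeroDivisors K := ⟨fun {a b} hab => by
    by_cases ha : a = 0
    · exact Or.inl ha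
    refine Or.inr (hbij.1 ?_)
    refine hKinj a a.2 (fun e0 => ha (Subtype.ext e0)) ?_
    show ((a * b : K) : AddMonoid.End (Additive ↥H)) (Additive.ofMul ⟨e, heH⟩) = _
    rw [hab]
    exact (map_zero (a : AddMonoid.End (Additive ↥H))).symm⟩
  haveI : IsDomain K := NoZeroDivisors.to_isDomain K
  letI hFld : Field K := (Finite.isField_of_domain K).toField
  haveI : Fintype K := Fintype.ofFinite K
  let ev : K ≃ ↥H := (Equiv.ofBijective _ hbij).trans Additive.toMul
  have hev : ∀ k : K, ev k = Additive.toMul ((k : AddMonoid.End (Additive ↥H)) (Additive.ofMul ⟨e, heH⟩)) :=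
    fun k => rfl
  let f : G → K := fun x => if hx : x ∈ H then ev.symm ⟨x, hx⟩ else 0
  have hf : ∀ x (hx : x ∈ H), f x = ev.symm ⟨x, hx⟩ := fun x hx => dif_pos hx
  have hfev : ∀ x (hx : x ∈ H) (k : K), ev k = ⟨x, hx⟩ → f x = k := fun x hx k hk => by
    rw [hf x hx, ← hk, ev.symm_apply_apply]
  choose kk hkK hkk using hact
  let ψ : G → K := fun v => if hv : v ∈ U then ⟨kk v hv, hkK v hv⟩ else 1
  have hψ : ∀ v (hv : v ∈ U), ψ v = ⟨kk v hv, hkK v hv⟩ := fun v hv => dif_pos hv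
  have hfadd : ∀ x ∈ H, ∀ z ∈ H, f (x * z) = f x + f z := by
    intro x hx z hz
    refine hfev _ (mul_mem hx hz) _ ?_
    rw [hev, Subring.coe_add]
    show ev (f x) * ev (f z) = _
    rw [hf x hx, hf z hz, ev.apply_symm_apply, ev.apply_symm_apply]
    rfl
  have hψf : ∀ v ∈ U, ∀ x ∈ H, f (v * x * v⁻¹) = ψ v * f x := by
    intro v hv x hx
    refine hfev _ ((mem_normalizer_iff.1 (hUH hv) x).1 hx) _ (Subtype.ext ?_)
    rw [hev, Subring.coe_mul, hψ v hv]
    show ((Additive.toMul ((kk v hv) (Additive.ofMul (ev (f x)))) : ↥H) : G) = _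
    rw [hkk v hv, hf x hx, ev.apply_symm_apply]
  have hev1 : f e = 1 := hfev e heH 1 rfl
  have hψ0 : ∀ v ∈ U, ψ v ≠ 0 := fun v hv e0 => by
    have h1 := hψf v hv e heH
    rw [e0, zero_mul, hf _ ((mem_normalizer_iff.1 (hUH hv) e).1 heH)] at h1
    have h2 : (⟨v * e * v⁻¹, (mem_normalizer_iff.1 (hUH hv) e).1 heH⟩ : H) = ev 0 := by
      rw [← h1, ev.apply_symm_apply]
    exact he1 (conj_eq_one_iff.1 (congrArg Subtype.val h2))
  have hfinj : Set.InjOn f (H : Set G) := fun x hx z hz hxz => by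
    rw [hf x hx, hf z hz] at hxz
    exact congrArg Subtype.val (ev.symm.injective hxz)
  have hψmul : ∀ v ∈ U, ∀ w ∈ U, ψ (v * w) = ψ v * ψ w := by
    intro v hv w hw
    have h1 := hψf (v * w) (mul_mem hv hw) e heH
    have h2 := hψf v hv (w * e * w⁻¹) ((mem_normalizer_iff.1 (hUH hw) e).1 heH)
    rw [hψf w hw e heH, hev1, mul_one] at h2
    rw [hev1, mul_one, show v * w * e * (v * w)⁻¹ = v * (w * e * w⁻¹) * v⁻¹ by group, h2] at h1
    exact h1.symm
  have hψinj : Set.InjOn ψ (U : Set G) := by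
    intro v hv w hw hvw
    have h1 := hψf v hv e heH
    rw [hvw, ← hψf w hw e heH] at h1
    have h2 := hfinj ((mem_normalizer_iff.1 (hUH hv) e).1 heH) ((mem_normalizer_iff.1 (hUH hw) e).1 heH) h1
    refine (inv_mul_eq_one.1 ?_).symm
    by_contra hne
    refine he1 (hfpf (w⁻¹ * v) (U.mul_mem (U.inv_mem hw) hv) hne e heH ?_)
    calc w⁻¹ * v * e = w⁻¹ * (v * e * v⁻¹) * v := by group
      _ = w⁻¹ * (w * e * w⁻¹) * v := by rw [h2]
      _ = e * (w⁻¹ * v) := by group
  haveI : IsCyclic U := by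
    let g : U →* K :=
      { toFun := fun v => ψ v
        map_one' := by
          have h1 := hψmul 1 (one_mem U) 1 (one_mem U)
          rw [mul_one] at h1
          exact (mul_eq_left₀ (hψ0 1 (one_mem U))).1 h1.symm
        map_mul' := fun a b => hψmul a a.2 b b.2 }
    exact isCyclic_of_injective_ringHom g fun a b hab => Subtype.ext (hψinj a.2 b.2 hab)
  refine ⟨hN, by rw [hK0, hH0], ⟨hHc, hexp⟩, hcardH, hUcard, inferInstance, hfpf, hUmul, hcop, K, hFld,
    inferInstance, ?_, f, ψ, ⟨fun _ _ => Set.mem_univ _, hfinj, fun k _ => ⟨ev k, (ev k).2, hfev _ _ _ rfl⟩⟩,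
    hfadd, fun v hv => ⟨hψ0 v hv, hψf v hv⟩, hψmul, hψinj, fun x hx => ?_⟩
  · rw [← Nat.card_eq_fintype_card, Nat.card_congr ev, hcardH]
  -- the prime field is `W₂`
  have hfpow : ∀ n : ℕ, f (e ^ n) = n := fun n => by
    induction n with
    | zero =>
      have h0 := hfadd 1 (one_mem H) 1 (one_mem H)
      rw [mul_one] at h0
      rw [pow_zero, Nat.cast_zero]
      exact left_eq_add.1 h0
    | succ n ih => rw [pow_succ, hfadd _ (pow_mem heH n) e heH, ih, hev1, Nat.cast_succ]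
  haveI : CharP K p := (CharP.charP_iff_prime_eq_zero h.p_prime).2 (by
    rw [← hfpow, hep, ← pow_zero e, hfpow, Nat.cast_zero])
  have hback : ∀ y ∈ W₂, f y ^ p = f y := by
    intro y hy
    obtain ⟨n, rfl⟩ : ∃ n : ℕ, e ^ n = y := by
      have hz : zpowers e = W₂ := eq_of_le_of_card_ge (zpowers_le.2 heW)
        (by rw [Nat.card_zpowers, orderOf_eq_prime hep he1])
      exact (isOfFinOrder_of_finite e).mem_powers_iff_mem_zpowers.2 (hz.ge hy)
    rw [hfpow, ← frobenius_def, map_natCast]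
  refine ⟨fun hxp => ?_, fun hx2 => hback x hx2⟩
  let S : Finset K := Finset.univ.filter fun t => t ^ p = t
  haveI : Fintype W₂ := Fintype.ofFinite _
  let T : Finset K := Finset.univ.image fun y : W₂ => f y
  have hT : T.card = p := by
    rw [Finset.card_image_of_injective _ fun a b hab => Subtype.ext (hfinj (h.W₂_le_H a.2) (h.W₂_le_H b.2) hab),
      Finset.card_univ, ← Nat.card_eq_fintype_card]
  have hTS : T ⊆ S := fun t ht => by
    obtain ⟨y, -, rfl⟩ := Finset.mem_image.1 ht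
    exact Finset.mem_filter.2 ⟨Finset.mem_univ _, hback y y.2⟩
  have hS : S.card ≤ p := by
    have hsub : S ⊆ ((Polynomial.X : Polynomial K) ^ p - Polynomial.X).roots.toFinset := fun t ht => by
      rw [Multiset.mem_toFinset, Polynomial.mem_roots (FiniteField.X_pow_card_sub_X_ne_zero K h.p_prime.one_lt)]
      show Polynomial.eval t (Polynomial.X ^ p - Polynomial.X) = 0
      rw [Polynomial.eval_sub, Polynomial.eval_pow, Polynomial.eval_X, (Finset.mem_filter.1 ht).2, sub_self]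
    refine (Finset.card_le_card hsub).trans ((Multiset.toFinset_card_le _).trans ?_)
    exact (Polynomial.card_roots' _).trans (le_of_eq (FiniteField.X_pow_card_sub_X_natDegree_eq K h.p_prime.one_lt))
  have hxS : f x ∈ T := (Finset.eq_of_subset_of_card_le hTS (hT ▸ hS)).symm ▸
    Finset.mem_filter.2 ⟨Finset.mem_univ _, hxp⟩
  obtain ⟨y, -, hy⟩ := Finset.mem_image.1 hxS
  rw [← hfinj (h.W₂_le_H y.2) hx hy]
  exact y.2

end SideHyp

end Cfsg.Lib.OddOrder
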