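import Cfsg.Agent.Lib.OddOrder.Ctx
import Cfsg.Agent.Lib.OddOrder.FullSide
import Cfsg.Agent.Lib.OddOrder.Disjoint
import Cfsg.Agent.Lib.OddOrder12.NotAll
import Cfsg.Agent.S1502

/-!
# Existence of a pair and of its data

A minimal simple group of odd order without maximal subgroups of type V has a pair `S`, `T`, one member of type
II, both with `U ≠ 1` and `|W₁| < |W₂|` primes; hence the data of `PairCtx`.
-/

set_option autoImplicit false
set_option linter.style.haveILetI false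

namespace Cfsg.Lib.OddOrder

open Subgroup Cfsg
open Cfsg.Lib.Local.Sigma Cfsg.Lib.Local.Uniq
open scoped commutatorElement

universe u

variable {G : Type u} [Group G] [Finite G]

/-- The side hypotheses of a member of a pair which is not of type V. -/
theorem sideHyp_of_decomp (hG : IsMinSimpleOddOrder G) {M K U : Subgroup G} (hM : IsCoatom M)
    (hU : IsSigmaDecomposition M K U) (hK1 : K ≠ ⊥) (hV : ¬ IsOfTypeV M)
    (hp : (Nat.card ↥(kstar M K)).Prime) :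
    ∃ V : Subgroup G, SideHyp M K V (kstar M K) ∧ (IsOfTypeII M ∨ IsOfTypeIII M ∨ IsOfTypeIV M) := by
  have hne : U ≠ ⊥ ∨ fittingHallOf M ≠ sigmaCore M := by
    by_contra h
    rw [not_or, not_ne_iff, not_ne_iff] at h
    exact hV (exists_typeV hG hM hU hK1 h.1 h.2)
  obtain ⟨V, hVc, hKV⟩ := exists_invariant_compl hG hM hU hK1
  refine ⟨V, ⟨hG, hM, typeP_of_compl hG hM hU hK1 hVc hKV, fun e => ?_, card_prime hG hM hU hK1 hne, hp⟩, ?_⟩
  · have h1 : ⁅M, M⁆ = fittingHallOf M := le_antisymm (fun z hz => by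
      obtain ⟨a, ha, b, hb, rfl⟩ := hVc.2.2.2 z hz
      rw [e, mem_bot] at hb
      rwa [hb, mul_one]) hVc.1
    have h2 := derived_eq_decomp hG hM hU hK1
    have hU1 : U = ⊥ := eq_bot_iff.2 fun x hx => hU.compl.2.2.1.le
      ⟨hx, mem_sup_right (fittingHallOf_le hG hM (h1.le (h2.ge (mem_sup_left hx))))⟩
    rcases hne with h | h
    · exact h hU1
    · exact h (by rw [← h1, derived_eq_of_bot hG hM hU hK1 hU1])
  · by_cases hU1 : U = ⊥
    · exact Or.inr (exists_typeIII_or_IV hG hM hU hK1 hU1 (hne.resolve_left fun h => h hU1))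
    · exact Or.inl (exists_typeII hG hM hU hK1 hU1)

/-- A pair. -/
theorem exists_pair_side (hG : IsMinSimpleOddOrder G)
    (hV : ∀ M : Subgroup G, IsCoatom M → ¬ IsOfTypeV M) :
    ∃ S T W₁ W₂ U V : Subgroup G, SideHyp S W₁ U W₂ ∧ SideHyp T W₂ V W₁ ∧ Nat.card W₁ < Nat.card W₂ ∧
      (IsOfTypeII S ∨ IsOfTypeII T) ∧ (IsOfTypeII S ∨ IsOfTypeIII S ∨ IsOfTypeIV S) ∧
      (IsOfTypeII T ∨ IsOfTypeIII T ∨ IsOfTypeIV T) := by
  obtain ⟨M, hM, hκ⟩ := Cfsg.Lib.FT12.exists_kappa_nonempty hG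
  obtain ⟨K, U, hU⟩ := exists_decomposition hG hM
  have hK1 : K ≠ ⊥ := fun e => by
    obtain ⟨t, ht⟩ := Set.nonempty_iff_ne_empty.2 hκ
    exact hU.hall.2.2 t ht.1 ht (by rw [e, relIndex_bot_left]; exact ht.2.1)
  obtain ⟨L, hL, hP1, -⟩ := exists_pair hG hM hU.hall hK1
  obtain ⟨UL, hUL⟩ := exists_decomp hG hL.coatom hL.hall
  have hL1 := kstar_ne_bot hG hM hU.hall hK1
  have prime : ∀ {X KX UX : Subgroup G}, IsCoatom X → IsSigmaDecomposition X KX UX → KX ≠ ⊥ →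
      (Nat.card KX).Prime := fun {X KX UX} hX hUX hKX =>
    card_prime hG hX hUX hKX (by
      by_contra h
      rw [not_or, not_ne_iff, not_ne_iff] at h
      exact hV X hX (exists_typeV hG hX hUX hKX h.1 h.2))
  obtain ⟨VS, hS, tS⟩ := sideHyp_of_decomp hG hM hU hK1 (hV M hM) (prime hL.coatom hUL hL1)
  obtain ⟨VT, hT, tT⟩ := sideHyp_of_decomp hG hL.coatom hUL hL1 (hV L hL.coatom)
    (hL.eq ▸ prime hM hU hK1)
  rw [← hL.eq] at hT
  have hII : IsOfTypeII M ∨ IsOfTypeII L := by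
    rcases hP1 with h | h
    · exact Or.inl (exists_typeII hG hM hU hK1 fun e => h (isP1_of_bot hG hM hU e))
    · exact Or.inr (exists_typeII hG hL.coatom hUL hL1 fun e => h (isP1_of_bot hG hL.coatom hUL e))
  rcases lt_or_gt_of_ne hS.card_ne with h | h
  · exact ⟨M, L, K, kstar M K, VS, VT, hS, hT, h, hII, tS, tT⟩
  · exact ⟨L, M, kstar M K, K, VT, VS, hT, hS, h, hII.symm, tT, tS⟩

/-- The data of a pair from two sides, with either choice of `K₀` on each side. -/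
theorem pairCtx_of {G : Type u} [Group G] [Fintype G] {S T W₁ W₂ U V Ks Kt : Subgroup G}
    {χ : (↥(W₁ ⊔ W₂) →* ℂˣ) → (G → ℂ)} (hS : SideHyp S W₁ U W₂) (hT : SideHyp T W₂ V W₁)
    (hKs : Ks = sideK S U ∨ Ks = ⁅sideN S U, sideN S U⁆)
    (hKt : Kt = sideK T V ∨ Kt = ⁅sideN T V, sideN T V⁆) (hχ : IsCyclicTIFamily W₁ W₂ χ) :
    PairCtx S T W₁ W₂ U V (sideN S U) Ks (sideN T V) Kt ((sideD S U).relIndex U) ((sideD T V).relIndex V) χ where
  minimal := hS.minSimple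
  typeS := hS.typeP
  typeT := hT.typeP
  sideS := by
    rcases hKs with rfl | rfl
    · exact hS.side
    · exact hS.side_derived
  sideT := by
    rcases hKt with rfl | rfl
    · exact hT.side
    · exact hT.side_derived
  derivedS := hS.N_le_derived
  derivedT := hT.N_le_derived
  family := hχ

/-- The index of `[N, N]` in `N` is `p ^ q` or at least three times that. -/
theorem SideHyp.relIndex_derived {M W₁ U W₂ : Subgroup G} (h : SideHyp M W₁ U W₂) :
    (⁅sideN M U, sideN M U⁆ = sideK M U ∧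
        (⁅sideN M U, sideN M U⁆).relIndex (sideN M U) = Nat.card W₂ ^ Nat.card W₁) ∨
      3 * Nat.card W₂ ^ Nat.card W₁ ≤ (⁅sideN M U, sideN M U⁆).relIndex (sideN M U) := by
  by_cases he : ⁅sideN M U, sideN M U⁆ = sideK M U
  · exact Or.inl ⟨he, he ▸ h.relIndex_K⟩
  refine Or.inr ?_
  have hle := h.derived_N_le
  have hK : sideK M U ≤ sideN M U := sup_le_sup_right inf_le_left _
  rw [← relIndex_mul_relIndex _ _ _ hle hK, h.relIndex_K]
  refine Nat.mul_le_mul_right _ ?_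
  have hne : (⁅sideN M U, sideN M U⁆).relIndex (sideK M U) ≠ 1 := fun e1 =>
    he (le_antisymm hle (relIndex_eq_one.1 e1))
  obtain ⟨j, hj⟩ : Odd ((⁅sideN M U, sideN M U⁆).relIndex (sideK M U)) :=
    (Cfsg.Lib.Local.Uniq.odd_subgroup h.minSimple (sideK M U)).of_dvd_nat
      (Dvd.intro_left _ (Cfsg.Lib.Core.card_mul_relIndex hle))
  omega

/-- The data of a pair. -/
theorem exists_ctx {G : Type u} [Group G] [Fintype G] (hG : IsMinSimpleOddOrder G)
    (hV : ∀ M : Subgroup G, IsCoatom M → ¬ IsOfTypeV M) :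
    ∃ (S T W₁ W₂ U V : Subgroup G) (χ : (↥(W₁ ⊔ W₂) →* ℂˣ) → (G → ℂ)),
      SideHyp S W₁ U W₂ ∧ SideHyp T W₂ V W₁ ∧ Nat.card W₁ < Nat.card W₂ ∧
      (IsOfTypeII S ∨ IsOfTypeII T) ∧ (IsOfTypeII S ∨ IsOfTypeIII S ∨ IsOfTypeIV S) ∧
      (IsOfTypeII T ∨ IsOfTypeIII T ∨ IsOfTypeIV T) ∧
      PairCtx S T W₁ W₂ U V (sideN S U) (sideK S U) (sideN T V) (sideK T V) ((sideD S U).relIndex U)
        ((sideD T V).relIndex V) χ ∧
      PairCtx S T W₁ W₂ U V (sideN S U) ⁅sideN S U, sideN S U⁆ (sideN T V) ⁅sideN T V, sideN T V⁆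
        ((sideD S U).relIndex U) ((sideD T V).relIndex V) χ := by
  obtain ⟨S, T, W₁, W₂, U, V, hS, hT, hlt, hII, tS, tT⟩ := exists_pair_side hG hV
  obtain ⟨χ, hχ⟩ := Cfsg.Agent.S1502.result W₁ W₂ hS.typeP.selfNormalizing
    (Cfsg.Lib.Local.Uniq.odd_subgroup hG _)
  exact ⟨S, T, W₁, W₂, U, V, χ, hS, hT, hlt, hII, tS, tT, pairCtx_of hS hT (Or.inl rfl) (Or.inl rfl) hχ,
    pairCtx_of hS hT (Or.inr rfl) (Or.inr rfl) hχ⟩

end Cfsg.Lib.OddOrder
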