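import Cfsg.Agent.Lib.OddOrder.RegionQ
import Cfsg.Agent.Lib.OddOrder.PairExists
import Cfsg.Agent.Lib.Char.CoherenceUnion

/-!
# The region of a member of type III or IV with full side

For such a member `M` the set `A = M' ∖ M_F` carries a region of index `|W₁|` with kernel quotient `M' / M_F` of order
`|U|`; its hit set misses both supports of the pair, the TI set and the sets `M̃_σ` of the non-conjugate maximal
subgroups.  Hence the member of a full pair with the smaller `|W₁|` is of type II.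
-/

set_option autoImplicit false
set_option linter.unusedSectionVars false
set_option linter.style.haveILetI false

namespace Cfsg.Lib.OddOrder

open Subgroup Cfsg Cfsg.Lib.Char Cfsg.Lib.Char.FT
open Cfsg.Lib.Local.Sigma Cfsg.Lib.Local.Uniq
open scoped ComplexConjugate commutatorElement Classical

universe u

/-- A Dade hypothesis restricted to an invariant subset. -/
theorem dade_subset {G : Type u} [Group G] {A B : Set G} {L : Subgroup G} {H : G → Subgroup G}
    (hD : DadeHypothesis A L H) (hBA : B ⊆ A) (hinv : ∀ x ∈ L, ∀ b ∈ B, x * b * x⁻¹ ∈ B) :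
    DadeHypothesis B L H :=
  ⟨fun h1 => hD.one_not_mem (hBA h1), fun _ hb => hD.subset (hBA hb), hinv,
    fun a ha g hg => hD.fusion a (hBA ha) g (hBA hg), fun a ha => hD.le_centralizer a (hBA ha),
    fun a ha => hD.conj_mem_H a (hBA ha), fun a ha => hD.inf_eq_bot a (hBA ha),
    fun a ha => hD.sup_eq a (hBA ha), fun a ha b hb => hD.coprime a (hBA ha) b (hBA hb)⟩

/-- Two disjoint pieces of one Dade set have disjoint hit sets. -/
theorem hitSet_disjoint_of_subset {G : Type u} [Group G] [Finite G] {A B C : Set G} {L : Subgroup G}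
    {H : G → Subgroup G} (hD : DadeHypothesis A L H) (hB : B ⊆ A) (hC : C ⊆ A)
    (hinv : ∀ x ∈ L, ∀ b ∈ B, x * b * x⁻¹ ∈ B) (hBC : ∀ b ∈ B, b ∉ C) {g : G} (h1 : g ∈ hitSet B H) :
    g ∉ hitSet C H := by
  rintro ⟨c, hc, v, hv, y, hy⟩
  obtain ⟨b, hb, u, hu, x, hx⟩ := h1
  obtain ⟨z, hz, hzb⟩ := hD.conj_in_L (g := y * x⁻¹) (hB hb) (hC hc) hu hv (by
    rw [← hx, ← hy]; group)
  exact hBC c (hzb ▸ hinv z hz b hb) hc

/-- The Dade map on the combinations of the members that vanish at `1`. -/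
theorem RegionData.isometry {G : Type u} [Group G] [Fintype G] {A : Set G} {L : Subgroup G} [Fintype L]
    {H : G → Subgroup G} {K N : Subgroup L} [K.Normal] [N.Normal] (d : RegionData A L H K N) :
    IsLinearIsometryOn (zspanOn (irrBetween K N) {1}ᶜ) (dadeIsometry A L H) ∧
      ∀ α ∈ zspanOn (irrBetween K N) {1}ᶜ, dadeIsometry A L H α 1 = 0 := by
  refine ⟨⟨fun α _ β _ => ?_, fun α _ n => ?_, fun α ha β hb => ?_, fun α ha => ?_⟩, fun α _ => ?_⟩
  · funext g
    simp only [dadeIsometry, Pi.add_apply]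
    split_ifs <;> simp
  · funext g
    simp only [dadeIsometry, Pi.smul_apply]
    split_ifs <;> simp
  · exact classInner_dadeIsometry_dadeIsometry d.dade (d.props ha.1).1 (d.support ha) (d.props hb.1).1
  · exact isGeneralizedCharacter_dadeIsometry d.dade (d.props ha.1).2.2.1 (d.support ha)
  · refine dadeIsometry_eq_zero_of_notMem ?_
    rintro ⟨a, ha, u, hu, x, e⟩
    have e' : a * u = 1 := by rw [← e]; group
    have hu' : u = a⁻¹ := eq_inv_of_mul_eq_one_right e'
    have h := d.dade.inf_eq_bot a ha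
    have h2 : a⁻¹ ∈ H a ⊓ (L ⊓ centralizer ({a} : Set G)) :=
      ⟨hu' ▸ hu, L.inv_mem (d.dade.subset ha), (centralizer ({a} : Set G)).inv_mem (mem_centralizer_singleton_iff.2 rfl)⟩
    rw [h, mem_bot, inv_eq_one] at h2
    exact d.dade.one_not_mem (h2 ▸ ha)

theorem full_u_gt {p q u : ℕ} (hp : 3 ≤ p) (hq : 3 ≤ q) (hu : u * (p - 1) + 1 = p ^ q) : q + 1 < u := by
  have h : (q + 1) * (p - 1) + 1 < p ^ q := by
    clear hu
    obtain ⟨r, rfl⟩ : ∃ r, p = r + 1 := ⟨p - 1, by omega⟩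
    simp only [Nat.add_sub_cancel]
    induction q, hq using Nat.le_induction with
    | base => nlinarith [Nat.mul_le_mul_right (r + 1) (Nat.mul_le_mul hp hp)]
    | succ n hn ih =>
      have e : (r + 1) ^ (n + 1) = (r + 1) ^ n * r + (r + 1) ^ n := by ring
      have h1 : r ≤ (r + 1) ^ n * r := Nat.le_mul_of_pos_left _ (by positivity)
      rw [e]
      nlinarith
  by_contra hle
  have := Nat.mul_le_mul_right (p - 1) (not_lt.1 hle)
  omega

section Sets

variable {G : Type u} [Group G]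

/-- `M' ∖ M_F`. -/
def threeSet (M : Subgroup G) : Set G := ↑(⁅M, M⁆ : Subgroup G) \ (fittingHallOf M : Set G)

/-- `M'` inside `M`. -/
abbrev threeK (M : Subgroup G) : Subgroup M := (⁅M, M⁆).subgroupOf M

/-- `M_F` inside `M`. -/
abbrev threeN (M : Subgroup G) : Subgroup M := (fittingHallOf M).subgroupOf M

instance threeN_normal (M : Subgroup G) : (threeN M).Normal := by
  rw [threeN, fittingHallOf, subgroupOf_map_subtype_eq]
  infer_instance
where
  subgroupOf_map_subtype_eq {M : Subgroup G} {X : Subgroup M} : (X.map M.subtype).subgroupOf M = X :=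
    comap_map_eq_self_of_injective M.subtype_injective X

instance threeK_normal (M : Subgroup G) : (threeK M).Normal := by
  rw [threeK, ← map_subtype_commutator, show ((commutator ↥M).map M.subtype).subgroupOf M = commutator ↥M from
    comap_map_eq_self_of_injective M.subtype_injective _]
  infer_instance

end Sets

namespace SideHyp

section Local

variable {G : Type u} [Group G] [Fintype G] {M W₁ U W₂ : Subgroup G}

theorem derived_sigmaCore (h : SideHyp M W₁ U W₂) (h34 : IsOfTypeIII M ∨ IsOfTypeIV M) :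
    ⁅M, M⁆ = sigmaCore M := by
  obtain ⟨K', U', hU'⟩ := exists_decomposition h.minSimple h.coatom
  obtain ⟨hK1, hU1, -⟩ := (typeIII_or_IV_iff h.minSimple h.coatom hU').mp h34
  exact derived_eq_of_bot h.minSimple h.coatom hU' hK1 hU1

theorem threeSet_subset (h : SideHyp M W₁ U W₂) (h34 : IsOfTypeIII M ∨ IsOfTypeIV M) :
    threeSet M ⊆ typeA M := by
  intro a ha
  obtain ⟨K', U', hU'⟩ := exists_decomposition h.minSimple h.coatom
  have hnI : ¬ IsOfTypeI M := fun hI =>
    ne_bot_of_typeP h.minSimple h.coatom hU' h.typeP (eq_bot_of_typeI h.minSimple h.coatom hU' hI).1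
  have ha1 : a ≠ 1 := fun e => ha.2 (e ▸ one_mem _)
  rw [typeA, if_neg hnI]
  exact ⟨ha.1, ha1, a, by rw [typeCore, if_pos h34]; exact ha.1, ha1, rfl⟩

theorem threeSet_conj (h : SideHyp M W₁ U W₂) {x : G} (hx : x ∈ M) {a : G} (ha : a ∈ threeSet M) :
    x * a * x⁻¹ ∈ threeSet M := by
  refine ⟨(mem_normalizer_iff.1 ((le_normalizer.trans
    (Cfsg.Lib.Local.FreeAction.normalizer_le_normalizer_commutator M)) hx) a).1 ha.1, fun hF => ha.2 ?_⟩
  exact (mem_normalizer_iff.1 (h.M_le_normalizer_H hx) a).2 hF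

/-- The index of `M'` and the order of `M' / M_F`. -/
theorem three_index (h : SideHyp M W₁ U W₂) :
    (threeK M).index = Nat.card W₁ ∧ (threeN M).relIndex (threeK M) = Nat.card U := by
  constructor
  · have h1 := card_of_isComplIn h.typeP.W₁_compl
    have h2 := (threeK M).card_mul_index
    rw [Nat.card_congr (subgroupOfEquivOfLe h.derived_le).toEquiv, ← h1] at h2
    exact Nat.eq_of_mul_eq_mul_left Nat.card_pos h2
  · rw [threeN, threeK, relIndex_subgroupOf h.derived_le]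
    have h1 := card_of_isComplIn h.typeP.U_compl
    have h2 : Nat.card (fittingHallOf M) * (fittingHallOf M).relIndex ⁅M, M⁆ = Nat.card ↥⁅M, M⁆ :=
      Cfsg.Lib.Core.card_mul_relIndex h.H_le_derived
    rw [← h1] at h2
    exact Nat.eq_of_mul_eq_mul_left Nat.card_pos h2

/-- Modulo `M_F` only `M'` centralizes an element of `M' ∖ M_F`. -/
theorem three_free (h : SideHyp M W₁ U W₂) (hU : IsMulCommutative U) :
    ∀ k ∈ threeK M, k ∉ threeN M → ∀ x : M, x * k * x⁻¹ * k⁻¹ ∈ threeN M → x ∈ threeK M := by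
  intro k hk hkN x hxk
  set π := QuotientGroup.mk' (threeN M)
  have hπ : ∀ z : M, π z = 1 ↔ z ∈ threeN M := fun z => QuotientGroup.eq_one_iff z
  obtain ⟨a, ha, b, hb, hab⟩ := h.typeP.W₁_compl.2.2.2 x x.2
  obtain ⟨f, hf, c, hc, hfc⟩ := h.typeP.U_compl.2.2.2 k hk
  obtain ⟨f', hf', c', hc', hfc'⟩ := h.typeP.U_compl.2.2.2 a ha
  by_contra hxK
  have hb1 : b ≠ 1 := fun e => hxK (mem_subgroupOf.2 (by rw [hab, e, mul_one]; exact ha))
  let C : M := ⟨c, h.U_le hc⟩
  let C' : M := ⟨c', h.U_le hc'⟩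
  let B : M := ⟨b, h.W₁_le hb⟩
  have hk' : π k = π C := by
    rw [show k = (⟨f, h.derived_le (h.H_le_derived hf)⟩ : M) * C from Subtype.ext hfc, map_mul,
      (hπ _).2 (mem_subgroupOf.2 hf), one_mul]
  have hx' : π x = π C' * π B := by
    rw [show x = (⟨f', h.derived_le (h.H_le_derived hf')⟩ : M) * C' * B from Subtype.ext (by
      show (x : G) = f' * c' * b; rw [hab, hfc']), map_mul, map_mul, (hπ _).2 (mem_subgroupOf.2 hf'), one_mul]
  have hcomm : Commute C C' := Subtype.ext (congrArg (fun z : U => (z : G))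
    (mul_comm' (⟨c, hc⟩ : U) ⟨c', hc'⟩))
  have h1 : π (B * C * B⁻¹ * C⁻¹) = 1 := by
    have e := (hπ _).2 hxk
    rw [map_mul, map_mul, map_mul, map_inv, map_inv, hk', hx'] at e
    simp only [map_mul, map_inv]
    have e2 : π C' * π C = π C * π C' := by rw [← map_mul, ← map_mul, hcomm.eq]
    calc π B * π C * (π B)⁻¹ * (π C)⁻¹
        = (π C')⁻¹ * (π C' * π B * π C * (π C' * π B)⁻¹ * (π C)⁻¹) * (π C * π C') * (π C)⁻¹ := by group
      _ = 1 := by rw [e, ← e2]; group
  have h2 : b * c * b⁻¹ * c⁻¹ ∈ fittingHallOf M := mem_subgroupOf.1 ((hπ _).1 h1)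
  have h3 : b * c * b⁻¹ * c⁻¹ ∈ U :=
    mul_mem ((mem_normalizer_iff.1 (h.typeP.U_normal hb) c).1 hc) (inv_mem hc)
  have h4 : b * c * b⁻¹ * c⁻¹ = 1 := mem_bot.1 (h.typeP.U_compl.2.2.1.le ⟨h2, h3⟩)
  have hc1 : c = 1 := h.free_U hc hb hb1 (by
    have : b * c * b⁻¹ = c := mul_inv_eq_one.1 h4
    calc c * b = b * c * b⁻¹ * b := by rw [this]
      _ = b * c := by group)
  exact hkN (mem_subgroupOf.2 (by rw [hfc, hc1, mul_one]; exact hf))

/-- The hit set of `M' ∖ M_F` lies in `M̃_σ`, so misses that of a non-conjugate maximal subgroup. -/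
theorem three_disjoint_sigma (h : SideHyp M W₁ U W₂) (h34 : IsOfTypeIII M ∨ IsOfTypeIV M) {L : Subgroup G}
    (hL : IsCoatom L) (hne : ∀ g : G, L ≠ cj g M) (g : G) (h1 : g ∈ hitSet (threeSet M) (supportR M))
    (h2 : g ∈ hitSet ((sigmaCore L : Set G) \ {1}) (supportR L)) : False := by
  rw [hitSet_eq_tildeOf] at h1 h2
  refine tilde_disjoint h.minSimple h.coatom hL hne ?_ h2
  obtain ⟨a, ha, r, hr, y, e⟩ := h1
  exact ⟨a, ⟨(h.derived_sigmaCore h34).le ha.1, fun e => ha.2 (by rw [show a = 1 from e]; exact one_mem _)⟩, r, hr, y, e⟩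

/-- The hit set of `M' ∖ M_F` misses the TI set and both supports. -/
theorem three_avoid (h : SideHyp M W₁ U W₂) (h34 : IsOfTypeIII M ∨ IsOfTypeIV M) {T V : Subgroup G}
    (hT : SideHyp T W₂ V W₁) {Nm Km : Subgroup G} (hNm : Nm ≤ fittingHallOf M)
    (hsub : sideSet Nm Km ⊆ typeA0 M) {B : Set G} (hB : B ⊆ typeA T) {g : G}
    (hg : g ∈ hitSet (threeSet M) (supportR M)) :
    g ∉ tiSet W₁ W₂ ∧ g ∉ hitSet (sideSet Nm Km) (supportR M) ∧ g ∉ hitSet B (supportR T) := by
  obtain ⟨hd, hW⟩ := pair_disjoint h.minSimple h.coatom hT.coatom h.typeP hT.typeP (h.threeSet_subset h34) hB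
  have hg' : g ∈ tildeOf M (threeSet M) := hitSet_eq_tildeOf M (threeSet M) ▸ hg
  refine ⟨fun hti => ?_, ?_, fun h2 => ?_⟩
  · obtain ⟨x, hx, hx1, hx2⟩ := mem_tiSet.1 hti
    exact (hW x⁻¹ _ hx hx1 hx2).1 (by simpa [mul_assoc] using hg')
  · exact hitSet_disjoint_of_subset (dade_A0 h.minSimple h.coatom)
      (fun _ ha => Or.inl (h.threeSet_subset h34 ha)) hsub (fun x hx b hb => h.threeSet_conj hx hb)
      (fun b hb hb' => hb.2 (hNm hb'.1)) hg
  · exact (hd ▸ (⟨hg', hitSet_eq_tildeOf T B ▸ h2⟩ : g ∈ tildeOf M (threeSet M) ∩ tildeOf T B) :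
      g ∈ (∅ : Set G))

end Local

section Region

variable {G : Type u} [Group G] [Fintype G] {M W₁ U W₂ : Subgroup G} [Fintype M]

/-- The region of a member of type III or IV with full side. -/
theorem exists_region_three (h : SideHyp M W₁ U W₂) (h34 : IsOfTypeIII M ∨ IsOfTypeIV M)
    (hfull : (sideD M U).relIndex U * (Nat.card W₂ - 1) + 1 = Nat.card W₂ ^ Nat.card W₁)
    (hK : ⁅sideN M U, sideN M U⁆ = sideK M U) :
    ∃ (τ₁ : (M → ℂ) → (G → ℂ)) (ζ : M → ℂ),
      RegionData (threeSet M) M (supportR M) (threeK M) (threeN M) ∧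
        RegionExt (threeSet M) M (supportR M) (threeK M) (threeN M) τ₁ ∧
        ζ ∈ irrBetween (threeK M) (threeN M) ∧ ζ 1 = ((threeK M).index : ℂ) ∧
        (threeK M).index = Nat.card W₁ ∧ (threeN M).relIndex (threeK M) = Nat.card U := by
  obtain ⟨-, -, -, -, hUu, hcyc, -, hUp, -⟩ := h.full_structure hfull hK
  haveI hUab : IsMulCommutative U := by
    haveI := hcyc
    exact IsCyclic.isMulCommutative
  obtain ⟨hidx, hrel⟩ := h.three_index
  have hD : DadeHypothesis (threeSet M) M (supportR M) :=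
    dade_subset (dade_A0 h.minSimple h.coatom) (fun _ ha => Or.inl (h.threeSet_subset h34 ha))
      fun x hx b hb => h.threeSet_conj hx hb
  have hle : threeN M ≤ threeK M := comap_mono h.H_le_derived
  have hA : ∀ x : M, (x : G) ∈ threeSet M ↔ x ∈ threeK M ∧ x ∉ threeN M := fun x => by
    simp only [threeSet, Set.mem_sdiff, SetLike.mem_coe, threeK, threeN, mem_subgroupOf]
  have hfree := h.three_free hUab
  have d := regionData_of_quotient hD hle hA hfree
  -- the degrees
  have hdeg : ∀ χ ∈ irrBetween (threeK M) (threeN M), χ 1 = ((threeK M).index : ℂ) := by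
    intro χ hχ
    haveI : Fintype (M ⧸ threeN M) := Fintype.ofFinite _
    set Kb := (threeK M).map (QuotientGroup.mk' (threeN M))
    haveI : Kb.Normal := Normal.map inferInstance _ (QuotientGroup.mk'_surjective _)
    haveI := Fintype.ofFinite Kb
    obtain ⟨η, hη, he⟩ := exists_deflate_irr (threeN M) hχ.1.1 hχ.2
    have hmem : ∀ y : M, QuotientGroup.mk' (threeN M) y ∈ Kb ↔ y ∈ threeK M := fun y => by
      refine ⟨fun ⟨k, hk, e⟩ => ?_, fun h => mem_map_of_mem _ h⟩
      simpa using mul_mem hk (hle (QuotientGroup.eq.1 e))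
    have hC : ∀ k ∈ Kb, k ≠ 1 → centralizer ({k} : Set (M ⧸ threeN M)) ≤ Kb := by
      rintro _ ⟨k, hk, rfl⟩ hk1 z hz
      obtain ⟨y, rfl⟩ := QuotientGroup.mk'_surjective _ z
      refine (hmem y).2 (hfree k hk (fun h => hk1 ((QuotientGroup.eq_one_iff k).2 h)) y
        ((QuotientGroup.eq_one_iff _).1 ?_))
      have h1 := mem_centralizer_singleton_iff.1 hz
      show QuotientGroup.mk' (threeN M) (y * k * y⁻¹ * k⁻¹) = 1
      rw [map_mul, map_mul, map_mul, map_inv, map_inv, h1]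
      group
    have hne : ∃ k ∈ Kb, η k ≠ η 1 := by
      obtain ⟨k, hk, hne⟩ := hχ.1.2
      refine ⟨_, mem_map_of_mem _ hk, ?_⟩
      rw [QuotientGroup.mk'_apply, he, show (1 : M ⧸ threeN M) = ((1 : M) : M ⧸ threeN M) from rfl, he]
      exact hne
    obtain ⟨φ, hφ, hφe⟩ := Cfsg.Agent.S1528.result Kb hC η hη hne
    have hcommK : ∀ a b : Kb, a * b = b * a := by
      rintro ⟨_, ka, hka, rfl⟩ ⟨_, kb, hkb, rfl⟩
      apply Subtype.ext
      obtain ⟨fa, hfa, ca, hca, ea⟩ := h.typeP.U_compl.2.2.2 ka hka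
      obtain ⟨fb, hfb, cb, hcb, eb⟩ := h.typeP.U_compl.2.2.2 kb hkb
      have hπ : ∀ (f c : G) (hf : f ∈ fittingHallOf M) (hc : c ∈ U) (k : M), (k : G) = f * c →
          QuotientGroup.mk' (threeN M) k = QuotientGroup.mk' (threeN M) ⟨c, h.U_le hc⟩ := fun f c hf hc k e => by
        rw [show k = (⟨f, h.derived_le (h.H_le_derived hf)⟩ : M) * ⟨c, h.U_le hc⟩ from Subtype.ext e, map_mul,
          show QuotientGroup.mk' (threeN M) (⟨f, h.derived_le (h.H_le_derived hf)⟩ : M) = 1 from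
            (QuotientGroup.eq_one_iff _).2 (mem_subgroupOf.2 hf), one_mul]
      show QuotientGroup.mk' (threeN M) ka * QuotientGroup.mk' (threeN M) kb =
        QuotientGroup.mk' (threeN M) kb * QuotientGroup.mk' (threeN M) ka
      rw [hπ fa ca hfa hca ka ea, hπ fb cb hfb hcb kb eb, ← map_mul, ← map_mul]
      exact congrArg _ (Subtype.ext (congrArg (fun z : U => (z : G)) (mul_comm' (⟨ca, hca⟩ : U) ⟨cb, hcb⟩)))
    have e1 : η 1 = (Kb.index : ℂ) := by
      rw [hφe, indFun_apply_one, degree_eq_one_of_comm hcommK hφ, mul_one]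
    rw [show χ 1 = η 1 from (he 1).symm, e1]
    refine congrArg Nat.cast (index_map_eq _ (QuotientGroup.mk'_surjective _) ?_)
    rwa [QuotientGroup.ker_mk']
  -- at least two members
  have hfin := irrBetween_finite (threeK M) (threeN M)
  have hsum := d.sum_sq
  rw [Finset.sum_congr rfl (g := fun _ => ((threeK M).index : ℂ) * (threeK M).index) fun ξ hξ => by
    rw [hdeg ξ (hfin.mem_toFinset.1 hξ)], Finset.sum_const, nsmul_eq_mul] at hsum
  have hcard : (hfin.toFinset.card : ℂ) * (threeK M).index + 1 = ((threeN M).relIndex (threeK M) : ℂ) := by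
    have he : ((threeK M).index : ℂ) ≠ 0 := Nat.cast_ne_zero.2 index_ne_zero_of_finite
    refine mul_left_cancel₀ he ?_
    linear_combination hsum
  have hcard' : hfin.toFinset.card * Nat.card W₁ + 1 = Nat.card U := by
    rw [← hidx, ← hrel]; exact_mod_cast hcard
  have hbig : Nat.card W₁ + 1 < Nat.card U := by
    have hp3 := three_le_card_of_odd h.minSimple.1 h.typeP.selfNormalizing.2.1
    have hq3 := three_le_card_of_odd h.minSimple.1 h.typeP.selfNormalizing.1
    refine full_u_gt hp3 hq3 ?_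
    rw [hUu]; exact hfull
  have htwo : 1 < hfin.toFinset.card := by
    by_contra hle
    have := Nat.mul_le_mul_right (Nat.card W₁) (not_lt.1 hle)
    omega
  obtain ⟨a, ha, b, hb, hab⟩ := Finset.one_lt_card.1 htwo
  obtain ⟨hiso, hiso1⟩ := d.isometry
  have hcoh := coherent_of_equal_degree hfin.toFinset (fun χ hχ => (hfin.mem_toFinset.1 hχ).1.1)
    ⟨a, ha, b, hb, hab⟩
    (fun φ hφ ψ hψ => by rw [hdeg φ (hfin.mem_toFinset.1 hφ), hdeg ψ (hfin.mem_toFinset.1 hψ)])
    (τ := dadeIsometry (threeSet M) M (supportR M))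
    (by rwa [hfin.coe_toFinset]) (by rwa [hfin.coe_toFinset])
  rw [hfin.coe_toFinset] at hcoh
  obtain ⟨-, τ₁, hτ1, hτ2⟩ := hcoh
  exact ⟨τ₁, a, d, ⟨hτ1, hτ2⟩, hfin.mem_toFinset.1 ha, hdeg a (hfin.mem_toFinset.1 ha), hidx, hrel⟩

end Region

end SideHyp

section Pair

variable {G : Type u} [Group G] [Fintype G] {S T W₁ W₂ U V Ns Ks Nt Kt : Subgroup G} {u v : ℕ}
  {χ : (↥(W₁ ⊔ W₂) →* ℂˣ) → (G → ℂ)}

/-- The region of `S` lies in the rest set. -/
theorem SideHyp.three_subset_restSet (hS : SideHyp S W₁ U W₂) (hT : SideHyp T W₂ V W₁)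
    (c : PairCtx S T W₁ W₂ U V Ns Ks Nt Kt u v χ) (h34 : IsOfTypeIII S ∨ IsOfTypeIV S)
    (hNs : Ns ≤ fittingHallOf S) : hitSet (threeSet S) (supportR S) ⊆ restSet S T W₁ W₂ Ns Ks Nt Kt :=
  fun _ hg => hS.three_avoid h34 hT hNs c.sideS.subset_A0 (c.sideT.subset_typeA c.minimal c.derivedT) hg

/-- The region of `T` lies in the rest set. -/
theorem SideHyp.three_subset_restSet' (hS : SideHyp S W₁ U W₂) (hT : SideHyp T W₂ V W₁)
    (c : PairCtx S T W₁ W₂ U V Ns Ks Nt Kt u v χ) (h34 : IsOfTypeIII T ∨ IsOfTypeIV T)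
    (hNt : Nt ≤ fittingHallOf T) : hitSet (threeSet T) (supportR T) ⊆ restSet S T W₁ W₂ Ns Ks Nt Kt :=
  fun _ hg =>
    let ⟨h1, h2, h3⟩ := hT.three_avoid h34 hS hNt c.sideT.subset_A0 (c.sideS.subset_typeA c.minimal c.derivedS) hg
    ⟨fun h => h1 (by rwa [tiSet_comm]), h3, h2⟩

/-- For a full pair with `|W₁| < |W₂|` the member `S` is of type II. -/
theorem not_typeIII_of_full (hS : SideHyp S W₁ U W₂) (hT : SideHyp T W₂ V W₁)
    (c : PairCtx S T W₁ W₂ U V (sideN S U) Ks Nt Kt ((sideD S U).relIndex U) v χ)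
    (hfull : (sideD S U).relIndex U * (Nat.card W₂ - 1) + 1 = Nat.card W₂ ^ Nat.card W₁)
    (hK : ⁅sideN S U, sideN S U⁆ = sideK S U)
    (hvfull : v * (Nat.card W₁ - 1) + 1 = Nat.card W₁ ^ Nat.card W₂)
    (hnS : Ks.relIndex (sideN S U) = Nat.card W₂ ^ Nat.card W₁) (hnT : Kt.relIndex Nt = Nat.card W₁ ^ Nat.card W₂)
    (hlt : Nat.card W₁ < Nat.card W₂) : ¬ (IsOfTypeIII S ∨ IsOfTypeIV S) := by
  intro h34
  haveI := Fintype.ofFinite S
  haveI := Fintype.ofFinite T
  haveI := Fintype.ofFinite ↥((sideN S U).subgroupOf S)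
  haveI := Fintype.ofFinite ↥(Nt.subgroupOf T)
  obtain ⟨hN, -, -, -, hUu, -⟩ := hS.full_structure hfull hK
  obtain ⟨τ₁, ζ, d, hτ, hζ, hd, he, hm⟩ := hS.exists_region_three h34 hfull hK
  exact no_region_q c hfull hvfull hnS hnT hlt d hτ hζ hd (hS.three_subset_restSet hT c h34 hN.le) he
    (by rw [hm, hUu])

end Pair

end Cfsg.Lib.OddOrder
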