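import Cfsg.Agent.Lib.OddOrder.FinalStep
import Cfsg.Agent.Lib.OddOrder.TypeThree

/-!
# The main line

A minimal simple group of odd order without maximal subgroups of type V has none, given the regions attached to
the neighbours of the members of type II of a full pair.
-/

set_option autoImplicit false
set_option linter.unusedSectionVars false
set_option linter.style.haveILetI false

namespace Cfsg.Lib.OddOrder

open Cfsg Cfsg.Lib.Char Cfsg.Lib.Char.FT
open scoped Classical commutatorElement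

universe u'

variable {G : Type u'} [Group G] [Fintype G]

/-- The standing hypotheses of a full pair. -/
structure FullPair (S T W₁ W₂ U V : Subgroup G) (χ : (↥(W₁ ⊔ W₂) →* ℂˣ) → (G → ℂ)) : Prop where
  sideS : SideHyp S W₁ U W₂
  sideT : SideHyp T W₂ V W₁
  lt : Nat.card W₁ < Nat.card W₂
  fullS : (sideD S U).relIndex U * (Nat.card W₂ - 1) + 1 = Nat.card W₂ ^ Nat.card W₁
  derS : ⁅sideN S U, sideN S U⁆ = sideK S U
  fullT : (sideD T V).relIndex V * (Nat.card W₁ - 1) + 1 = Nat.card W₁ ^ Nat.card W₂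
  derT : ⁅sideN T V, sideN T V⁆ = sideK T V
  u_eq : Nat.card U * (Nat.card W₂ - 1) + 1 = Nat.card W₂ ^ Nat.card W₁
  v_eq : Nat.card V * (Nat.card W₁ - 1) + 1 = Nat.card W₁ ^ Nat.card W₂
  ctx : PairCtx S T W₁ W₂ U V (fittingHallOf S) ⊥ (fittingHallOf T) ⊥ (Nat.card U) (Nat.card V) χ
  nS : (⊥ : Subgroup G).relIndex (fittingHallOf S) = Nat.card W₂ ^ Nat.card W₁
  nT : (⊥ : Subgroup G).relIndex (fittingHallOf T) = Nat.card W₁ ^ Nat.card W₂

variable {S T W₁ W₂ U V : Subgroup G} {χ : (↥(W₁ ⊔ W₂) →* ℂˣ) → (G → ℂ)}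

/-- The hit set of `M_σ ∖ 1`. -/
def sigmaHit (L : Subgroup G) : Set G := hitSet ((Cfsg.sigmaCore L : Set G) \ {1}) (Cfsg.supportR L)

/-- The rest set of a full pair. -/
def fullRest (S T W₁ W₂ : Subgroup G) : Set G :=
  restSet S T W₁ W₂ (fittingHallOf S) ⊥ (fittingHallOf T) ⊥

/-- A member of type III or IV has a region. -/
theorem FullPair.hasRegion_three_S (P : FullPair S T W₁ W₂ U V χ) (h34 : IsOfTypeIII S ∨ IsOfTypeIV S) :
    HasRegion (fullRest S T W₁ W₂) (hitSet (threeSet S) (supportR S)) (Nat.card W₁) (Nat.card U) := by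
  haveI := Fintype.ofFinite S
  obtain ⟨τ₁, ζ, d, hτ, hζ, hd, he, hm⟩ := P.sideS.exists_region_three h34 P.fullS P.derS
  haveI : (threeK S).Normal := inferInstance
  exact ⟨_, S, inferInstance, _, _, _, inferInstance, inferInstance, τ₁, ζ, d, hτ, hζ, hd, rfl,
    P.sideS.three_subset_restSet P.sideT P.ctx h34 le_rfl, he, hm⟩

theorem FullPair.hasRegion_three_T (P : FullPair S T W₁ W₂ U V χ) (h34 : IsOfTypeIII T ∨ IsOfTypeIV T) :
    HasRegion (fullRest S T W₁ W₂) (hitSet (threeSet T) (supportR T)) (Nat.card W₂) (Nat.card V) := by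
  haveI := Fintype.ofFinite T
  obtain ⟨τ₁, ζ, d, hτ, hζ, hd, he, hm⟩ := P.sideT.exists_region_three h34 P.fullT P.derT
  exact ⟨_, T, inferInstance, _, _, _, inferInstance, inferInstance, τ₁, ζ, d, hτ, hζ, hd, rfl,
    P.sideS.three_subset_restSet' P.sideT P.ctx h34 le_rfl, he, hm⟩

/-- What is needed of the neighbours. -/
structure Neighbours (S T W₁ W₂ U V : Subgroup G) : Prop where
  ofS : IsOfTypeII S → ∃ (L : Subgroup G) (h : ℕ), IsCoatom L ∧ (∀ g : G, L ≠ Cfsg.Lib.Local.Sigma.cj g T) ∧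
    ((HasRegion (fullRest S T W₁ W₂) (sigmaHit L) (Nat.card W₁) h ∧ Nat.card U ≤ h) ∨
      (HasRegion (fullRest S T W₁ W₂) (sigmaHit L) (Nat.card W₂ * Nat.card W₁) h ∧
        (2 * (Nat.card W₂ * Nat.card W₁) + 1) * Nat.card U ≤ h ∧
        (IsOfTypeII T → ∃ (X : Set G) (e' h' : ℕ), HasRegion (fullRest S T W₁ W₂) X e' h' ∧
          e' ≤ Nat.card W₂ * Nat.card W₁ ∧ Nat.card V ≤ h' ∧ ∀ g, g ∈ sigmaHit L → g ∈ X → False)))

/-- A full pair with neighbours does not exist. -/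
theorem FullPair.absurd (P : FullPair S T W₁ W₂ U V χ)
    (tS : IsOfTypeII S ∨ IsOfTypeIII S ∨ IsOfTypeIV S) (tT : IsOfTypeII T ∨ IsOfTypeIII T ∨ IsOfTypeIV T)
    (hN : Neighbours S T W₁ W₂ U V) : False := by
  haveI := Fintype.ofFinite S
  haveI := Fintype.ofFinite T
  rcases tS with h2 | h34
  · obtain ⟨L, h, hL, hne, ⟨hR, hh⟩ | ⟨hR, hh, hT2⟩⟩ := hN.ofS h2
    · exact absurd_index_q P.ctx P.u_eq P.v_eq P.nS P.nT P.lt hR hh
    · rcases tT with hT | h34
      · obtain ⟨X, e', h', hR', he', hh', hdis⟩ := hT2 hT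
        exact absurd_two_regions P.ctx P.u_eq P.v_eq P.nS P.nT P.lt hR hh hR' he' hh' hdis
      · refine absurd_two_regions P.ctx P.u_eq P.v_eq P.nS P.nT P.lt hR hh (P.hasRegion_three_T h34)
          (Nat.le_mul_of_pos_right _ Nat.card_pos) le_rfl fun g h1 h2 => ?_
        exact P.sideT.three_disjoint_sigma h34 hL hne g h2 h1
  · exact absurd_index_q P.ctx P.u_eq P.v_eq P.nS P.nT P.lt (P.hasRegion_three_S h34) le_rfl

/-- The main line. -/
theorem not_minSimple_of (hG : Cfsg.IsMinSimpleOddOrder G)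
    (hV : ∀ M : Subgroup G, IsCoatom M → ¬ IsOfTypeV M)
    (hN : ∀ (S T W₁ W₂ U V : Subgroup G) (χ : (↥(W₁ ⊔ W₂) →* ℂˣ) → (G → ℂ)),
      FullPair S T W₁ W₂ U V χ → Neighbours S T W₁ W₂ U V) : False := by
  obtain ⟨S, T, W₁, W₂, U, V, χ, hS, hT, hlt, -, tS, tT, ⟨hu, hKS⟩, ⟨hv, hKT⟩, hu', hv', c, hnS, hnT⟩ :=
    exists_full_pair hG hV
  have P : FullPair S T W₁ W₂ U V χ := ⟨hS, hT, hlt, hu, hKS, hv, hKT, hu', hv', c, hnS, hnT⟩
  exact P.absurd tS tT (hN S T W₁ W₂ U V χ P)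

end Cfsg.Lib.OddOrder
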