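import Cfsg.Agent.Lib.OddOrder.SideMoments

/-!
# The data of a pair

The standing data of the character theoretic part: a pair `S`, `T` with a side each and the cyclic TI family of
`W₁ W₂`; the family seen from `T`; averages over pieces of `G`.
-/

set_option autoImplicit false
set_option linter.unusedSectionVars false
set_option linter.style.haveILetI false

namespace Cfsg.Lib.OddOrder

open Cfsg Cfsg.Lib.Char Cfsg.Lib.Char.FT
open scoped ComplexConjugate Classical

universe u'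

variable {G : Type u'} [Group G] [Fintype G]

/-- The standing data of a pair. -/
structure PairCtx (S T W₁ W₂ U V Ns Ks Nt Kt : Subgroup G) (u v : ℕ)
    (χ : (↥(W₁ ⊔ W₂) →* ℂˣ) → (G → ℂ)) : Prop where
  minimal : Cfsg.IsMinSimpleOddOrder G
  typeS : Cfsg.IsTypePWith S W₁ U W₂
  typeT : Cfsg.IsTypePWith T W₂ V W₁
  sideS : Side S W₁ W₂ Ns Ks u
  sideT : Side T W₂ W₁ Nt Kt v
  derivedS : Ns ≤ ⁅S, S⁆
  derivedT : Nt ≤ ⁅T, T⁆
  family : IsCyclicTIFamily W₁ W₂ χ

variable {W₁ W₂ : Subgroup G}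

/-- The conjugates of the elements of `W` outside `W₁ ∪ W₂`. -/
def tiSet (W₁ W₂ : Subgroup G) : Set G := {g | ¬ OffTI W₁ W₂ g}

/-- What is left of `G` outside the TI set and the two supports. -/
def restSet (S T W₁ W₂ Ns Ks Nt Kt : Subgroup G) : Set G :=
  {g | g ∉ tiSet W₁ W₂ ∧ g ∉ hitSet (sideSet Ns Ks) (Cfsg.supportR S) ∧
    g ∉ hitSet (sideSet Nt Kt) (Cfsg.supportR T)}

/-- The family seen from the other side. -/
noncomputable def famSwap (χ : (↥(W₁ ⊔ W₂) →* ℂˣ) → (G → ℂ)) : (↥(W₂ ⊔ W₁) →* ℂˣ) → (G → ℂ) :=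
  fun ω => χ (ω.comp (MulEquiv.subgroupCongr (sup_comm W₁ W₂)).toMonoidHom)

theorem muOn_mono {A B : Set G} (hAB : A ⊆ B) {f : G → ℝ} (hf : ∀ g ∈ B, 0 ≤ f g) : muOn A f ≤ muOn B f := by
  refine mul_le_mul_of_nonneg_left (Finset.sum_le_sum fun g _ => ?_) (by positivity)
  by_cases hA : g ∈ A
  · rw [if_pos hA, if_pos (hAB hA)]
  · rw [if_neg hA]
    split_ifs with hB
    · exact hf g hB
    · exact le_rfl

theorem muOn_nonneg {A : Set G} {f : G → ℝ} (hf : ∀ g ∈ A, 0 ≤ f g) : 0 ≤ muOn A f := by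
  refine mul_nonneg (by positivity) (Finset.sum_nonneg fun g _ => ?_)
  split_ifs with hA
  · exact hf g hA
  · exact le_rfl

theorem muOn_add (A : Set G) (f g : G → ℝ) : muOn A (fun x => f x + g x) = muOn A f + muOn A g := by
  rw [muOn, muOn, muOn, ← mul_add, ← Finset.sum_add_distrib]
  exact congrArg _ (Finset.sum_congr rfl fun x _ => by split_ifs <;> simp)

theorem muOn_smul (A : Set G) (c : ℝ) (f : G → ℝ) : muOn A (fun x => c * f x) = c * muOn A f := by
  simp only [muOn, Finset.mul_sum]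
  exact Finset.sum_congr rfl fun x _ => by split_ifs <;> ring

theorem muOn_congr {A : Set G} {f g : G → ℝ} (h : ∀ x ∈ A, f x = g x) : muOn A f = muOn A g := by
  rw [muOn, muOn]
  refine congrArg _ (Finset.sum_congr rfl fun x _ => ?_)
  split_ifs with hx
  · exact h x hx
  · rfl

theorem muOn_union {A B : Set G} (hAB : A ∩ B = ∅) (f : G → ℝ) : muOn (A ∪ B) f = muOn A f + muOn B f := by
  rw [muOn, muOn, muOn, ← mul_add, ← Finset.sum_add_distrib]
  refine congrArg _ (Finset.sum_congr rfl fun x _ => ?_)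
  have hx : ¬ (x ∈ A ∧ x ∈ B) := fun h => (hAB ▸ h : x ∈ (∅ : Set G))
  by_cases hA : x ∈ A <;> by_cases hB : x ∈ B <;> simp_all [Set.mem_union]

theorem muOn_univ (f : G → ℂ) : muOn Set.univ (fun g => ‖f g‖ ^ 2) = (classInner f f).re ∧
    muOn Set.univ (fun g => (f g).re) = (classInner f fun _ => 1).re := by
  constructor
  · rw [classInner_self, Complex.ofReal_re, muOn]
    simp
  · rw [classInner, muOn, show (Nat.card G : ℂ)⁻¹ = ((Nat.card G : ℝ)⁻¹ : ℝ) by push_cast; ring,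
      Complex.re_ofReal_mul, Complex.re_sum]
    simp

end Cfsg.Lib.OddOrder
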