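import Cfsg.Agent.Lib.OddOrder.Parity
import Cfsg.Agent.Lib.Char.FT.Frobenius
import Cfsg.Agent.Lib.Char.FT.Eta
import Cfsg.Agent.Lib.Char.SignedIrr

/-!
# A Dade region of Frobenius type and its bridge

`L` is a subgroup of `G` with normal subgroups `N ≤ K`, the Dade hypothesis holds for `A = K \ N`, and the irreducible
characters between `N` and `K` vanish off `K` (for `N = ⊥` this is a Frobenius group with kernel `K`).  `τ₁` is a
coherent extension of the Dade map to their integral combinations and `ζ` one of them of degree `e = [L : K]`.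
With `m = [K : N]` and `β` the Dade image of `e · 1_K - ζ`:

* the region has measure `(m - 1) / (e m)`; a class function `F` orthogonal to all `τ₁ ξ` has the mean value
  `⟨F, β⟩` on it, and the mean of `r F² + s F` (`F` real, `r ≥ 0`) is at least that of this constant;
* `β` has norm `e + 1` and principal coefficient `1`; `β + τ₁ ζ` is real;
* a class function `T` vanishing on the region with `c = ⟨T, τ₁ ζ⟩` has `c² (m - 1) / e ≤ |T|²`;
* the members are orthogonal to the principal character, to a cyclic TI family whose TI set misses the region,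
  and to the members of a disjoint region.
-/

set_option autoImplicit false
set_option linter.unusedSectionVars false
set_option linter.style.haveILetI false

namespace Cfsg.Lib.OddOrder

open Cfsg Cfsg.Lib.Char Cfsg.Lib.Char.FT
open scoped ComplexConjugate

universe u

section Defs

variable {G : Type u} [Group G]

/-- The union of the conjugates of the cosets `a H a`. -/
def hitSet (A : Set G) (H : G → Subgroup G) : Set G :=
  {g | ∃ a ∈ A, ∃ u ∈ H a, ∃ x : G, x * g * x⁻¹ = a * u}

open Classical in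
/-- The average over `G` of `f` cut down to the hit set. -/
noncomputable def regionMu [Fintype G] (A : Set G) (H : G → Subgroup G) (f : G → ℂ) : ℂ :=
  (Nat.card G : ℂ)⁻¹ * ∑ g, if g ∈ hitSet A H then f g else 0

open Classical in
/-- The character induced from the principal character of a normal subgroup. -/
noncomputable def kerFun {L : Type u} [Group L] (K : Subgroup L) : L → ℂ :=
  fun x => if x ∈ K then (K.index : ℂ) else 0

/-- The bridge. -/
noncomputable def bridge (A : Set G) (L : Subgroup G) (H : G → Subgroup G) (K : Subgroup L) (ζ : L → ℂ) :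
    G → ℂ :=
  dadeIsometry A L H (kerFun K - ζ)

/-- The measure of the region. -/
noncomputable def regionMeas {L : Type u} [Group L] (K N : Subgroup L) : ℝ :=
  ((N.relIndex K : ℝ) - 1) / (K.index * N.relIndex K)

/-- The hypotheses on a region. -/
structure RegionData (A : Set G) (L : Subgroup G) [Fintype L] (H : G → Subgroup G) (K N : Subgroup L) : Prop where
  dade : DadeHypothesis A L H
  le : N ≤ K
  mem_iff : ∀ x : L, (x : G) ∈ A ↔ x ∈ K ∧ x ∉ N
  vanish : ∀ ξ ∈ irrBetween K N, ∀ x : L, x ∉ K → ξ x = 0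

/-- `τ₁` extends the Dade map to the integral combinations of the characters between `N` and `K`. -/
def RegionExt [Fintype G] (A : Set G) (L : Subgroup G) [Fintype L] (H : G → Subgroup G) (K N : Subgroup L)
    (τ₁ : (L → ℂ) → (G → ℂ)) : Prop :=
  IsLinearIsometryOn (zspan (irrBetween K N)) τ₁ ∧
    ∀ α ∈ zspanOn (irrBetween K N) {1}ᶜ, τ₁ α = dadeIsometry A L H α

end Defs

variable {G : Type u} [Group G] {A : Set G} {L : Subgroup G} [Fintype L] {H : G → Subgroup G}
  {K N : Subgroup L} [K.Normal] [N.Normal]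

theorem regionData_of_frobData (d : FrobData A L H K) : RegionData A L H K ⊥ where
  dade := d.dade
  le := bot_le
  mem_iff x := by rw [d.mem_iff x, Subgroup.mem_bot]
  vanish ξ hξ := (frobKernel_degree d.free hξ.1.1 hξ.1.2).2

theorem regionExt_of_extends [Fintype G] {τ₁ : (L → ℂ) → (G → ℂ)} (hτ : Extends A L H K τ₁) :
    RegionExt A L H K ⊥ τ₁ := by
  rw [RegionExt, irrBetween_bot]
  exact hτ

/-- The region of a subgroup with a Frobenius quotient. -/
theorem regionData_of_quotient (hD : DadeHypothesis A L H) (hNK : N ≤ K)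
    (hA : ∀ x : L, (x : G) ∈ A ↔ x ∈ K ∧ x ∉ N)
    (hfree : ∀ k ∈ K, k ∉ N → ∀ x : L, x * k * x⁻¹ * k⁻¹ ∈ N → x ∈ K) : RegionData A L H K N where
  dade := hD
  le := hNK
  mem_iff := hA
  vanish ξ hξ x hx := by
    classical
    haveI : Fintype (L ⧸ N) := Fintype.ofFinite _
    haveI : (K.map (QuotientGroup.mk' N)).Normal :=
      Subgroup.Normal.map inferInstance _ (QuotientGroup.mk'_surjective N)
    obtain ⟨η, hη, he⟩ := exists_deflate_irr N hξ.1.1 hξ.2
    have hmem : ∀ y : L, (QuotientGroup.mk' N y) ∈ K.map (QuotientGroup.mk' N) ↔ y ∈ K := fun y => by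
      refine ⟨fun ⟨k, hk, e⟩ => ?_, fun h => Subgroup.mem_map_of_mem _ h⟩
      have h1 : k⁻¹ * y ∈ N := QuotientGroup.eq.1 e
      simpa using mul_mem hk (hNK h1)
    have hC : ∀ k ∈ K.map (QuotientGroup.mk' N), k ≠ 1 →
        Subgroup.centralizer ({k} : Set (L ⧸ N)) ≤ K.map (QuotientGroup.mk' N) := by
      rintro _ ⟨k, hk, rfl⟩ hk1 q hq
      obtain ⟨y, rfl⟩ := QuotientGroup.mk'_surjective N q
      refine (hmem y).2 (hfree k hk (fun h => hk1 ((QuotientGroup.eq_one_iff k).2 h)) y ?_)
      refine (QuotientGroup.eq_one_iff _).1 ?_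
      have h1 := Subgroup.mem_centralizer_singleton_iff.1 hq
      show QuotientGroup.mk' N (y * k * y⁻¹ * k⁻¹) = 1
      rw [map_mul, map_mul, map_mul, map_inv, map_inv, h1]
      group
    have hne : ∃ k ∈ K.map (QuotientGroup.mk' N), η k ≠ η 1 := by
      obtain ⟨k, hk, hne⟩ := hξ.1.2
      refine ⟨_, Subgroup.mem_map_of_mem _ hk, ?_⟩
      rw [QuotientGroup.mk'_apply, he, show (1 : L ⧸ N) = ((1 : L) : L ⧸ N) from rfl, he]
      exact hne
    rw [← he x]
    exact (frobKernel_degree hC hη hne).2 _ fun h => hx ((hmem x).1 h)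

/-- A member of degree `[L : K]`, for a nilpotent kernel. -/
theorem exists_member_of_frobData (d : FrobData A L H K) (hnil : Group.IsNilpotent K) :
    ∃ ζ ∈ irrBetween K (⊥ : Subgroup L), ζ 1 = (K.index : ℂ) := by
  haveI := Fintype.ofFinite K
  haveI := hnil
  haveI : Nontrivial K := (Subgroup.nontrivial_iff_ne_bot _).2 d.ne_bot
  have hlt := Group.IsSolvable.commutator_lt_top_of_nontrivial K
  have h1 : Nat.card (K →* ℂˣ) ≠ 1 := by
    rw [card_linear_eq_index, Ne, Subgroup.index_eq_one]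
    exact hlt.ne
  obtain ⟨φ, hφ⟩ : ∃ φ : K →* ℂˣ, φ ≠ 1 := by
    by_contra hno
    push Not at hno
    exact h1 (Nat.card_eq_one_iff_exists.2 ⟨1, hno⟩)
  rw [irrBetween_bot, irrNontrivialOn_eq_induced d.free]
  refine ⟨_, ⟨fun y => (φ y : ℂ), isIrrCharacter_linear φ, fun e => hφ (MonoidHom.ext fun y => Units.ext ?_),
    fun a ha => ?_, rfl⟩, ?_⟩
  · exact congrFun e y
  · rw [show a = 1 from Subtype.ext (Subgroup.mem_bot.1 ha)]
  · rw [indFun_apply_one, map_one, Units.val_one, mul_one]

namespace RegionData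

theorem props (d : RegionData A L H K N) {α : L → ℂ} (hα : α ∈ zspan (irrBetween K N)) :
    IsClassFunction L α ∧ (∀ x : L, x ∉ K → α x = 0) ∧ IsGeneralizedCharacter L α ∧
      ∀ x ∈ N, α x = α 1 := by
  refine Submodule.span_induction (fun χ hχ => ?_) ?_ (fun a b _ _ ha hb => ?_) (fun z a _ ha => ?_) hα
  · exact ⟨hχ.1.1.isClassFunction, d.vanish χ hχ, hχ.1.1.isCharacter.isGeneralized, hχ.2⟩
  · exact ⟨fun x y => rfl, fun x _ => rfl, isGeneralizedCharacter_zero, fun x _ => rfl⟩
  · exact ⟨isClassFunction_add ha.1 hb.1, fun x hx => by simp [ha.2.1 x hx, hb.2.1 x hx], ha.2.2.1.add hb.2.2.1,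
      fun x hx => by simp [ha.2.2.2 x hx, hb.2.2.2 x hx]⟩
  · rw [← Int.cast_smul_eq_zsmul ℂ]
    exact ⟨fun x y => by simp [ha.1 x y], fun x hx => by simp [ha.2.1 x hx], ha.2.2.1.intCast_smul z,
      fun x hx => by simp [ha.2.2.2 x hx]⟩

theorem support (d : RegionData A L H K N) {α : L → ℂ} (hα : α ∈ zspanOn (irrBetween K N) {1}ᶜ) :
    ∀ x : L, (x : G) ∉ A → α x = 0 := fun x hx => by
  by_cases hK : x ∈ K
  · have hN : x ∈ N := by_contra fun h => hx ((d.mem_iff x).2 ⟨hK, h⟩)
    rw [(d.props hα.1).2.2.2 x hN]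
    exact (mem_zspanOn_one.1 hα).2
  · exact (d.props hα.1).2.1 x hK

/-- Two members, weighted to cancel at `1`. -/
theorem exists_diff (d : RegionData A L H K N) {χ ξ : L → ℂ} (hχ : χ ∈ irrBetween K N)
    (hξ : ξ ∈ irrBetween K N) :
    ∃ a b : ℤ, χ 1 = a ∧ ξ 1 = b ∧ b ≠ 0 ∧
      (b : ℂ) • χ - (a : ℂ) • ξ ∈ zspanOn (irrBetween K N) {1}ᶜ := by
  obtain ⟨a, -, ha⟩ := hχ.1.1.exists_degree
  obtain ⟨b, hb0, hb⟩ := hξ.1.1.exists_degree
  refine ⟨a, b, by simpa using ha, by simpa using hb, by simpa using hb0.ne',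
    mem_zspanOn_one.2 ⟨zspan_sub (zspan_intCast_smul (mem_zspan_self hχ) _)
      (zspan_intCast_smul (mem_zspan_self hξ) _), ?_⟩⟩
  simp [ha, hb, mul_comm]

theorem conj_mem_iff (d : RegionData A L H K N) (l x : L) :
    ((l * x * l⁻¹ : L) : G) ∈ A ↔ (x : G) ∈ A := by
  refine ⟨fun h => ?_, fun h => d.dade.conj_mem l l.2 _ h⟩
  have := d.dade.conj_mem (l : G)⁻¹ (inv_mem l.2) _ h
  simpa [mul_assoc] using this

theorem isClassFunction_cut (d : RegionData A L H K N) {f : L → ℂ} (hf : IsClassFunction L f)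
    [DecidablePred fun x : L => (x : G) ∈ A] :
    IsClassFunction L (fun x => if (x : G) ∈ A then f x else 0) := fun x l => by
  simp only [d.conj_mem_iff l x, hf x l]

end RegionData

theorem isClassFunction_kerFun {L : Type u} [Group L] (K : Subgroup L) [hK : K.Normal] :
    IsClassFunction L (kerFun K) := fun x l => by
  classical
  have : l * x * l⁻¹ ∈ K ↔ x ∈ K := ⟨fun h => by simpa [mul_assoc] using hK.conj_mem _ h l⁻¹,
    fun h => hK.conj_mem _ h l⟩
  simp only [kerFun, this]

theorem isGeneralizedCharacter_kerFun {L : Type u} [Group L] [Fintype L] (K : Subgroup L) [K.Normal] :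
    IsGeneralizedCharacter L (kerFun K) := by
  classical
  haveI := Fintype.ofFinite K
  have : kerFun K = indFun K (fun _ => (1 : ℂ)) := funext fun x => by
    by_cases hx : x ∈ K
    · rw [show x = ((⟨x, hx⟩ : K) : L) from rfl, indFun_normal_apply, Finset.sum_const, Finset.card_univ,
        nsmul_eq_mul, mul_one, kerFun, if_pos hx, ← Nat.card_eq_fintype_card, ← K.card_mul_index, Nat.cast_mul,
        inv_mul_cancel_left₀ (Nat.cast_ne_zero.2 Nat.card_pos.ne')]
    · rw [indFun_normal_of_notMem K _ hx, kerFun, if_neg hx]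
  rw [this]
  exact (isCharacter_indFun (H := K) isCharacter_one).isGeneralized

theorem classInner_kerFun_one {L : Type u} [Group L] [Fintype L] (K : Subgroup L) [K.Normal] :
    classInner (kerFun K) (fun _ => 1) = 1 ∧ classInner (kerFun K) (kerFun K) = (K.index : ℂ) := by
  classical
  have hk : ((Finset.univ.filter (· ∈ K)).card : ℂ) = Nat.card K := by
    rw [Nat.card_eq_fintype_card, Fintype.card_subtype]
  have hL : (Nat.card L : ℂ) ≠ 0 := Nat.cast_ne_zero.2 Nat.card_pos.ne'
  have hm : (Nat.card K : ℂ) * K.index = Nat.card L := by exact_mod_cast K.card_mul_index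
  constructor
  · simp only [classInner, kerFun, map_one, mul_one]
    rw [← Finset.sum_filter, Finset.sum_const, nsmul_eq_mul, hk, hm, inv_mul_cancel₀ hL]
  · simp only [classInner, kerFun, apply_ite (starRingEnd ℂ), Complex.conj_natCast, map_zero, ite_mul, zero_mul,
      mul_ite, mul_zero]
    rw [Finset.sum_congr rfl (g := fun x : L => if x ∈ K then (K.index : ℂ) * K.index else 0)
      fun x _ => by by_cases hx : x ∈ K <;> simp [hx], ← Finset.sum_filter, Finset.sum_const, nsmul_eq_mul, hk,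
      ← mul_assoc, ← mul_assoc, mul_assoc (Nat.card L : ℂ)⁻¹, hm, inv_mul_cancel₀ hL, one_mul]

section Members

theorem RegionData.inner_one_member {ζ : L → ℂ} (hζ : ζ ∈ irrBetween K N) :
    classInner ζ (fun _ => 1) = 0 :=
  classInner_irr_ne hζ.1.1 isIrrCharacter_one fun e => by
    obtain ⟨k, -, hk⟩ := hζ.1.2
    exact hk (by rw [e])

theorem RegionData.inner_kerFun_member (d : RegionData A L H K N) {ζ : L → ℂ} (hζ : ζ ∈ irrBetween K N) :
    classInner ζ (kerFun K) = 0 := by
  classical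
  rw [← mul_zero (K.index : ℂ), ← RegionData.inner_one_member hζ, classInner, classInner, mul_left_comm,
    Finset.mul_sum (a := (K.index : ℂ))]
  refine congrArg (HMul.hMul _) (Finset.sum_congr rfl fun x _ => ?_)
  by_cases hx : x ∈ K
  · rw [kerFun, if_pos hx, Complex.conj_natCast, map_one, mul_one, mul_comm]
  · rw [d.vanish ζ hζ x hx, zero_mul, zero_mul, mul_zero]

theorem RegionData.relIndex_ne_zero (_d : RegionData A L H K N) : N.relIndex K ≠ 0 :=
  fun h => Subgroup.index_ne_zero_of_finite (H := N.subgroupOf K) h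

open Classical in
/-- The degree weighted sum of the members on `K`. -/
theorem RegionData.sum_between (d : RegionData A L H K N) {x : L} (hx : x ∈ K) :
    ∑ ξ ∈ (irrBetween_finite K N).toFinset, ξ 1 * ξ x =
      (if x ∈ N then (K.index : ℂ) * N.relIndex K else 0) - K.index := by
  have hsub : Finset.univ.filter (fun η : IrrCharacter L => ∀ k ∈ K, (η : L → ℂ) k = (η : L → ℂ) 1) ⊆
      Finset.univ.filter (fun η : IrrCharacter L => ∀ k ∈ N, (η : L → ℂ) k = (η : L → ℂ) 1) :=
    fun η hη => Finset.mem_filter.2 ⟨Finset.mem_univ _, fun k hk => (Finset.mem_filter.1 hη).2 k (d.le hk)⟩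
  have hN : ∑ η ∈ Finset.univ.filter (fun η : IrrCharacter L => ∀ k ∈ N, (η : L → ℂ) k = (η : L → ℂ) 1),
      (η : L → ℂ) 1 * (η : L → ℂ) x = if x ∈ N then (K.index : ℂ) * N.relIndex K else 0 := by
    haveI := Fintype.ofFinite (L ⧸ N)
    rw [Finset.sum_subtype _ (p := fun η : IrrCharacter L => ∀ k ∈ N, (η : L → ℂ) k = (η : L → ℂ) 1)
      (by simp), ← Fintype.sum_equiv (irrQuotientEquiv N)
        (fun η : IrrCharacter (L ⧸ N) => (η : L ⧸ N → ℂ) 1 * (η : L ⧸ N → ℂ) x) _ fun η => rfl,
      sum_degree_mul, ← Subgroup.index_eq_card, ← Subgroup.relIndex_mul_index d.le]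
    by_cases hxN : x ∈ N
    · rw [if_pos hxN, if_pos ((QuotientGroup.eq_one_iff x).2 hxN)]
      push_cast
      ring
    · rw [if_neg hxN, if_neg (mt (QuotientGroup.eq_one_iff x).1 hxN)]
  have hK : ∑ η ∈ Finset.univ.filter (fun η : IrrCharacter L => ∀ k ∈ K, (η : L → ℂ) k = (η : L → ℂ) 1),
      (η : L → ℂ) 1 * (η : L → ℂ) x = (K.index : ℂ) := by
    rw [← sum_sq_trivialOn K]
    exact Finset.sum_congr rfl fun η hη => by rw [(Finset.mem_filter.1 hη).2 x hx, pow_two]
  rw [← hN, ← hK, ← Finset.sum_sdiff_eq_sub hsub]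
  refine (Finset.sum_bij (fun (η : IrrCharacter L) _ => (η : L → ℂ)) (fun η hη => ?_)
    (fun a _ b _ e => Subtype.ext e) (fun ξ hξ => ?_) (fun η _ => rfl)).symm
  · obtain ⟨h1, h2⟩ := Finset.mem_sdiff.1 hη
    refine (Set.Finite.mem_toFinset _).2 ⟨⟨η.2, ?_⟩, (Finset.mem_filter.1 h1).2⟩
    by_contra h
    exact h2 (Finset.mem_filter.2 ⟨Finset.mem_univ _, fun k hk => not_not.1 fun e => h ⟨k, hk, e⟩⟩)
  · obtain ⟨⟨hi, k, hk, hne⟩, hB⟩ := (Set.Finite.mem_toFinset _).1 hξ
    exact ⟨⟨ξ, hi⟩, Finset.mem_sdiff.2 ⟨Finset.mem_filter.2 ⟨Finset.mem_univ _, hB⟩,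
      fun h => hne ((Finset.mem_filter.1 h).2 k hk)⟩, rfl⟩

open Classical in
/-- The indicator of `A` in terms of the members. -/
theorem RegionData.indicator_eq (d : RegionData A L H K N) :
    ((K.index : ℂ) * N.relIndex K) • (fun x : L => if (x : G) ∈ A then (1 : ℂ) else 0) =
      ((N.relIndex K : ℂ) - 1) • kerFun K - ∑ ξ ∈ (irrBetween_finite K N).toFinset, ξ 1 • ξ := by
  funext x
  simp only [Pi.smul_apply, Pi.sub_apply, Finset.sum_apply, smul_eq_mul, kerFun]
  by_cases hx : x ∈ K
  · rw [d.sum_between hx, if_pos hx]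
    by_cases hN : x ∈ N
    · rw [if_pos hN, if_neg fun h => ((d.mem_iff x).1 h).2 hN]; ring
    · rw [if_neg hN, if_pos ((d.mem_iff x).2 ⟨hx, hN⟩)]; ring
  · rw [if_neg hx, if_neg fun h => hx ((d.mem_iff x).1 h).1,
      Finset.sum_eq_zero fun ξ hξ => by rw [d.vanish ξ ((Set.Finite.mem_toFinset _).1 hξ) x hx, mul_zero]]
    ring

theorem RegionData.sum_sq (d : RegionData A L H K N) :
    ∑ ξ ∈ (irrBetween_finite K N).toFinset, ξ 1 * ξ 1 = (K.index : ℂ) * ((N.relIndex K : ℂ) - 1) := by
  classical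
  rw [d.sum_between K.one_mem, if_pos N.one_mem]
  ring

theorem RegionData.relIndex_gt_one (d : RegionData A L H K N) {ζ : L → ℂ} (hζ : ζ ∈ irrBetween K N) :
    1 < N.relIndex K := by
  by_contra hle
  have h1 : N.relIndex K = 1 := le_antisymm (not_lt.1 hle) (Nat.pos_of_ne_zero d.relIndex_ne_zero)
  obtain ⟨k, hk, hne⟩ := hζ.1.2
  exact hne (hζ.2 k (Subgroup.relIndex_eq_one.1 h1 hk))

open Classical in
/-- A class function whose coefficients on the members are proportional to the degrees: its mean on `A`. -/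
theorem RegionData.inner_indicator (d : RegionData A L H K N) {f : L → ℂ}
    {ζ : L → ℂ} (hζ : ζ ∈ irrBetween K N) (hd : ζ 1 = K.index)
    (hp : ∀ ξ ∈ irrBetween K N, ζ 1 * classInner f ξ = ξ 1 * classInner f ζ) :
    classInner f (fun x : L => if (x : G) ∈ A then (1 : ℂ) else 0) =
      (regionMeas K N : ℂ) * classInner f (kerFun K - ζ) := by
  have he : (K.index : ℂ) ≠ 0 := Nat.cast_ne_zero.2 Subgroup.index_ne_zero_of_finite
  have hm : (N.relIndex K : ℂ) ≠ 0 := Nat.cast_ne_zero.2 d.relIndex_ne_zero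
  have h := congrArg (classInner f) d.indicator_eq
  rw [classInner_smul_right, classInner_sub_right, classInner_smul_right, classInner_sum_right] at h
  simp only [map_sub, map_mul, Complex.conj_natCast, map_one, classInner_smul_right] at h
  have hs : ∑ ξ ∈ (irrBetween_finite K N).toFinset, conj (ξ 1) * classInner f ξ =
      ((N.relIndex K : ℂ) - 1) * classInner f ζ := by
    refine mul_left_cancel₀ he ?_
    rw [Finset.mul_sum, ← mul_assoc, ← d.sum_sq, Finset.sum_mul]
    refine Finset.sum_congr rfl fun ξ hξ => ?_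
    have hξ' := (Set.Finite.mem_toFinset _).1 hξ
    obtain ⟨n, -, hn⟩ := hξ'.1.1.exists_degree
    have := hp ξ hξ'
    rw [hd, hn] at this
    rw [hn, Complex.conj_natCast]
    linear_combination (n : ℂ) * this
  rw [hs] at h
  rw [regionMeas]
  push_cast
  rw [classInner_sub_right, div_mul_eq_mul_div, eq_div_iff (mul_ne_zero he hm)]
  linear_combination h

end Members

variable [Fintype G]

section Bridge

variable {ζ : L → ℂ}

theorem regionMu_congr {f f' : G → ℂ} (h : ∀ g ∈ hitSet A H, f g = f' g) :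
    regionMu A H f = regionMu A H f' := by
  classical
  rw [regionMu, regionMu]
  refine congrArg _ (Finset.sum_congr rfl fun g _ => ?_)
  split_ifs with hg
  · exact h g hg
  · rfl

theorem dadeIsometry_eq_zero_of_notMem {α : L → ℂ} {g : G} (hg : g ∉ hitSet A H) :
    dadeIsometry A L H α g = 0 := by
  rw [dadeIsometry, dif_neg]
  rintro ⟨a, ha, x, u, hu, e⟩
  exact hg ⟨a, ha, u, hu, x, e⟩

/-- A function vanishing on the hit set is orthogonal to the Dade images. -/
theorem inner_dade_eq_zero_of_vanish {T : G → ℂ} (hT : ∀ g ∈ hitSet A H, T g = 0) (α : L → ℂ) :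
    classInner T (dadeIsometry A L H α) = 0 := by
  refine mul_eq_zero_of_right _ (Finset.sum_eq_zero fun g _ => ?_)
  by_cases hg : g ∈ hitSet A H
  · rw [hT g hg, zero_mul]
  · rw [dadeIsometry_eq_zero_of_notMem hg, map_zero, mul_zero]

theorem inner_dade_congr {F F' : G → ℂ} (h : ∀ g ∈ hitSet A H, F g = F' g) (α : L → ℂ) :
    classInner F (dadeIsometry A L H α) = classInner F' (dadeIsometry A L H α) := by
  rw [← sub_eq_zero, ← classInner_sub_left]
  exact inner_dade_eq_zero_of_vanish (fun g hg => by simp [h g hg]) α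

variable (d : RegionData A L H K N)
include d

theorem RegionData.gen_bridgeFn (hζ : ζ ∈ irrBetween K N) : IsGeneralizedCharacter L (kerFun K - ζ) :=
  (isGeneralizedCharacter_kerFun K).sub hζ.1.1.isCharacter.isGeneralized

theorem RegionData.support_bridgeFn (hζ : ζ ∈ irrBetween K N) (hd : ζ 1 = K.index) :
    ∀ x : L, (x : G) ∉ A → (kerFun K - ζ : L → ℂ) x = 0 := fun x hx => by
  classical
  by_cases hK : x ∈ K
  · have hN : x ∈ N := by_contra fun h => hx ((d.mem_iff x).2 ⟨hK, h⟩)
    simp [kerFun, hK, hζ.2 x hN, hd]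
  · simp [kerFun, hK, d.vanish ζ hζ x hK]

theorem RegionData.bridge_gen (hζ : ζ ∈ irrBetween K N) (hd : ζ 1 = K.index) :
    IsGeneralizedCharacter G (bridge A L H K ζ) :=
  isGeneralizedCharacter_dadeIsometry d.dade (d.gen_bridgeFn hζ) (d.support_bridgeFn hζ hd)

theorem RegionData.inner_bridge_one (hζ : ζ ∈ irrBetween K N) (hd : ζ 1 = K.index) :
    classInner (bridge A L H K ζ) (fun _ => 1) = 1 := by
  rw [bridge, classInner_dade_proj d.dade (d.gen_bridgeFn hζ).isClassFunction (d.support_bridgeFn hζ hd)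
    fun _ _ => rfl]
  have h : classInner (kerFun K - ζ) (fun _ => 1) = 1 := by
    rw [classInner_sub_left, (classInner_kerFun_one K).1, RegionData.inner_one_member hζ, sub_zero]
  refine Eq.trans ?_ h
  refine congrArg (_ * ·) (Finset.sum_congr rfl fun x _ => ?_)
  by_cases hx : (x : G) ∈ A
  · rw [dadeProj_one hx]
  · rw [d.support_bridgeFn hζ hd x hx, zero_mul, zero_mul]

theorem RegionData.inner_one_bridge (hζ : ζ ∈ irrBetween K N) (hd : ζ 1 = K.index) :
    classInner (fun _ => 1) (bridge A L H K ζ) = 1 := by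
  rw [← classInner_conj_symm, d.inner_bridge_one hζ hd, map_one]

theorem RegionData.inner_bridge_self (hζ : ζ ∈ irrBetween K N) (hd : ζ 1 = K.index) :
    classInner (bridge A L H K ζ) (bridge A L H K ζ) = (K.index : ℂ) + 1 := by
  rw [bridge, classInner_dadeIsometry_dadeIsometry d.dade (d.gen_bridgeFn hζ).isClassFunction
    (d.support_bridgeFn hζ hd) (d.gen_bridgeFn hζ).isClassFunction, classInner_sub_left, classInner_sub_right,
    classInner_sub_right, (classInner_kerFun_one K).2, classInner_irr_self hζ.1.1, d.inner_kerFun_member hζ,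
    ← classInner_conj_symm ζ (kerFun K), d.inner_kerFun_member hζ, map_zero]
  ring

/-- The value on the region of a virtual character is an integer. -/
theorem RegionData.exists_val_int (hζ : ζ ∈ irrBetween K N) (hd : ζ 1 = K.index) {F : G → ℂ}
    (hF : IsGeneralizedCharacter G F) : ∃ z : ℤ, classInner F (bridge A L H K ζ) = z :=
  hF.exists_int_classInner (d.bridge_gen hζ hd)

open Classical in
/-- The mean over the region is the inner product of the projection with the indicator of `A`. -/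
theorem RegionData.regionMu_eq {F : G → ℂ} (hF : IsClassFunction G F) :
    regionMu A H F = classInner (dadeProj A L H F) (fun x : L => if (x : G) ∈ A then (1 : ℂ) else 0) := by
  have hc : IsClassFunction L (fun x : L => if (x : G) ∈ A then (1 : ℂ) else 0) :=
    d.isClassFunction_cut (f := fun _ => (1 : ℂ)) fun _ _ => rfl
  rw [← classInner_proj_dade d.dade hc (fun x hx => if_neg hx) hF, regionMu, classInner]
  refine congrArg _ (Finset.sum_congr rfl fun g _ => ?_)
  by_cases hg : g ∈ hitSet A H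
  · obtain ⟨a, ha, u, hu, x, e⟩ := hg
    have hg' : g ∈ hitSet A H := ⟨a, ha, u, hu, x, e⟩
    rw [if_pos hg', dadeIsometry_eq d.dade hc (a := ⟨a, d.dade.subset ha⟩) ha hu e, if_pos ha, map_one, mul_one]
  · rw [if_neg hg, dadeIsometry_eq_zero_of_notMem hg, map_zero, mul_zero]

/-- The measure of the region. -/
theorem RegionData.regionMu_one (hζ : ζ ∈ irrBetween K N) (hd : ζ 1 = K.index) :
    regionMu A H (fun _ => 1) = (regionMeas K N : ℂ) := by
  classical
  rw [d.regionMu_eq fun _ _ => rfl, d.inner_indicator hζ hd]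
  · rw [← classInner_proj_dade d.dade (d.gen_bridgeFn hζ).isClassFunction (d.support_bridgeFn hζ hd)
      (χ := fun _ : G => (1 : ℂ)) fun _ _ => rfl]
    exact mul_right_eq_self₀.2 (Or.inl (d.inner_one_bridge hζ hd))
  · intro ξ hξ
    obtain ⟨a, b, ha, hb, -, hα⟩ := d.exists_diff hξ hζ
    have h : classInner (dadeProj A L H fun _ => 1) ((b : ℂ) • ξ - (a : ℂ) • ζ) =
        classInner (fun _ => 1) ((b : ℂ) • ξ - (a : ℂ) • ζ) := by
      refine congrArg (_ * ·) (Finset.sum_congr rfl fun x _ => ?_)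
      by_cases hx : (x : G) ∈ A
      · rw [dadeProj_one hx]
      · rw [d.support hα x hx, map_zero, mul_zero, mul_zero]
    have h0 : ∀ η ∈ irrBetween K N, classInner (fun _ => (1 : ℂ)) η = 0 := fun η hη =>
      classInner_symm_zero (RegionData.inner_one_member hη)
    rw [classInner_sub_right, classInner_sub_right, classInner_smul_right, classInner_smul_right,
      classInner_smul_right, classInner_smul_right, h0 ξ hξ, h0 ζ hζ, map_intCast, map_intCast] at h
    rw [ha, hb]
    linear_combination h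

theorem RegionData.regionMeas_pos (hζ : ζ ∈ irrBetween K N) : 0 < regionMeas K N := by
  have h : (1 : ℝ) < N.relIndex K := by exact_mod_cast d.relIndex_gt_one hζ
  have he : (0 : ℝ) < K.index := by exact_mod_cast Nat.pos_of_ne_zero Subgroup.index_ne_zero_of_finite
  exact div_pos (by linarith) (mul_pos he (by linarith))

end Bridge

variable {τ₁ : (L → ℂ) → (G → ℂ)} {ζ : L → ℂ}

namespace RegionExt

theorem map_sub_smul (hτ : RegionExt A L H K N τ₁) {χ ξ : L → ℂ} (hχ : χ ∈ irrBetween K N)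
    (hξ : ξ ∈ irrBetween K N) (a b : ℤ) :
    τ₁ ((b : ℂ) • χ - (a : ℂ) • ξ) = (b : ℂ) • τ₁ χ - (a : ℂ) • τ₁ ξ := by
  rw [sub_eq_add_neg, sub_eq_add_neg, ← neg_smul, ← neg_smul, ← Int.cast_neg,
    hτ.1.1 _ (zspan_intCast_smul (mem_zspan_self hχ) b) _ (zspan_intCast_smul (mem_zspan_self hξ) _),
    Int.cast_smul_eq_zsmul, Int.cast_smul_eq_zsmul, Int.cast_smul_eq_zsmul, Int.cast_smul_eq_zsmul,
    hτ.1.2.1 _ (mem_zspan_self hχ), hτ.1.2.1 _ (mem_zspan_self hξ)]

theorem inner (hτ : RegionExt A L H K N τ₁) {χ ξ : L → ℂ} (hχ : χ ∈ irrBetween K N)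
    (hξ : ξ ∈ irrBetween K N) [Decidable (χ = ξ)] :
    classInner (τ₁ χ) (τ₁ ξ) = if χ = ξ then 1 else 0 := by
  rw [hτ.1.2.2.1 _ (mem_zspan_self hχ) _ (mem_zspan_self hξ), classInner_irr hχ.1.1 hξ.1.1]
  congr

theorem norm_one (hτ : RegionExt A L H K N τ₁) {χ : L → ℂ} (hχ : χ ∈ irrBetween K N) :
    classInner (τ₁ χ) (τ₁ χ) = 1 := by
  classical rw [hτ.inner hχ hχ, if_pos rfl]

theorem gen (hτ : RegionExt A L H K N τ₁) {χ : L → ℂ} (hχ : χ ∈ irrBetween K N) :
    IsGeneralizedCharacter G (τ₁ χ) := hτ.1.2.2.2 _ (mem_zspan_self hχ)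

theorem irr_or_neg (hτ : RegionExt A L H K N τ₁) {χ : L → ℂ} (hχ : χ ∈ irrBetween K N) :
    IsIrrCharacter G (τ₁ χ) ∨ IsIrrCharacter G (-τ₁ χ) := by
  obtain ⟨ε, μ, rfl | rfl, h⟩ := exists_signed_irr_of_norm_one (hτ.gen hχ) (hτ.norm_one hχ)
  · left; rw [h]; simpa using μ.2
  · right; rw [h]; simpa using μ.2

/-- A function orthogonal to the Dade images of the combinations has proportional coefficients. -/
theorem proportional (hτ : RegionExt A L H K N τ₁) (d : RegionData A L H K N) {F : G → ℂ}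
    (hF : ∀ α ∈ zspanOn (irrBetween K N) {1}ᶜ, classInner F (dadeIsometry A L H α) = 0)
    {ξ : L → ℂ} (hξ : ξ ∈ irrBetween K N) (hζ : ζ ∈ irrBetween K N) :
    ζ 1 * classInner F (τ₁ ξ) = ξ 1 * classInner F (τ₁ ζ) := by
  obtain ⟨a, b, ha, hb, -, hα⟩ := d.exists_diff hξ hζ
  have h := hF _ hα
  rw [← hτ.2 _ hα, hτ.map_sub_smul hξ hζ, classInner_sub_right, classInner_smul_right, classInner_smul_right,
    map_intCast, map_intCast] at h
  rw [ha, hb]
  linear_combination h

variable (hτ : RegionExt A L H K N τ₁) (d : RegionData A L H K N) (hζ : ζ ∈ irrBetween K N)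
  (hd : ζ 1 = K.index)
include hτ d hζ hd

/-- The projection of a class function orthogonal to the family has proportional coefficients. -/
theorem proj_proportional {F : G → ℂ} (hF : IsClassFunction G F)
    (horth : ∀ ξ ∈ irrBetween K N, classInner F (τ₁ ξ) = 0) {ξ : L → ℂ} (hξ : ξ ∈ irrBetween K N) :
    ζ 1 * classInner (dadeProj A L H F) ξ = ξ 1 * classInner (dadeProj A L H F) ζ := by
  obtain ⟨a, b, ha, hb, -, hα⟩ := d.exists_diff hξ hζ
  have h := classInner_proj_dade d.dade (d.props hα.1).1 (d.support hα) hF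
  rw [← hτ.2 _ hα, hτ.map_sub_smul hξ hζ, classInner_sub_right, classInner_smul_right, classInner_smul_right,
    horth ξ hξ, horth ζ hζ, classInner_sub_right, classInner_smul_right, classInner_smul_right,
    map_intCast, map_intCast] at h
  rw [ha, hb]
  linear_combination -h

/-- The exact first moment. -/
theorem regionMu_val {F : G → ℂ} (hF : IsClassFunction G F)
    (horth : ∀ ξ ∈ irrBetween K N, classInner F (τ₁ ξ) = 0) :
    regionMu A H F = (regionMeas K N : ℂ) * classInner F (bridge A L H K ζ) := by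
  rw [d.regionMu_eq hF, d.inner_indicator hζ hd fun ξ hξ => hτ.proj_proportional d hζ hd hF horth hξ, bridge,
    ← classInner_proj_dade d.dade (d.gen_bridgeFn hζ).isClassFunction (d.support_bridgeFn hζ hd) hF]

/-- The second moment. -/
theorem regionMu_sq_ge {F : G → ℂ} (hF : IsClassFunction G F)
    (horth : ∀ ξ ∈ irrBetween K N, classInner F (τ₁ ξ) = 0) :
    regionMeas K N * ‖classInner F (bridge A L H K ζ)‖ ^ 2 ≤
      (Nat.card G : ℝ)⁻¹ * ∑ᶠ g ∈ hitSet A H, ‖F g‖ ^ 2 := by
  classical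
  set v := classInner F (bridge A L H K ζ)
  set one : L → ℂ := fun x => if (x : G) ∈ A then (1 : ℂ) else 0
  refine le_trans ?_ (dadeProj_norm_le d.dade hF)
  have h1 : classInner (dadeProj A L H F) one = (regionMeas K N : ℂ) * v :=
    (d.regionMu_eq hF).symm.trans (hτ.regionMu_val d hζ hd hF horth)
  have h2 : classInner one one = (regionMeas K N : ℂ) := by
    rw [← d.regionMu_one hζ hd, d.regionMu_eq fun _ _ => rfl]
    refine congrArg (_ * ·) (Finset.sum_congr rfl fun x _ => ?_)
    by_cases hx : (x : G) ∈ A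
    · simp only [one, if_pos hx, dadeProj_one hx]
    · simp only [one, if_neg hx, dadeProj_of_notMem _ hx]
  have h := classInner_self_nonneg (dadeProj A L H F - v • one)
  rw [classInner_sub_left, classInner_sub_right, classInner_sub_right, classInner_smul_left, classInner_smul_right,
    classInner_smul_right, classInner_smul_left, h2, h1, ← classInner_conj_symm (dadeProj A L H F) one, h1,
    map_mul, Complex.conj_ofReal] at h
  simp only [Complex.sub_re, Complex.mul_re, Complex.mul_im, Complex.conj_re, Complex.conj_im, Complex.ofReal_re,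
    Complex.ofReal_im] at h
  rw [Complex.sq_norm, Complex.normSq_apply]
  linarith

/-- The mean of `r |F|² + s Re F` is at least that of the real part of the value. -/
theorem regionMu_norm_ge {F : G → ℂ} (hF : IsClassFunction G F)
    (horth : ∀ ξ ∈ irrBetween K N, classInner F (τ₁ ξ) = 0) {c : ℝ}
    (hc : classInner F (bridge A L H K ζ) = c) {r : ℝ} (hr : 0 ≤ r) (s : ℝ) :
    regionMeas K N * (r * c ^ 2 + s * c) ≤
      (Nat.card G : ℝ)⁻¹ * ∑ᶠ g ∈ hitSet A H, (r * ‖F g‖ ^ 2 + s * (F g).re) := by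
  classical
  have h2 := hτ.regionMu_sq_ge d hζ hd hF horth
  have h1 := congrArg Complex.re (hτ.regionMu_val d hζ hd hF horth)
  rw [hc, Complex.norm_real, Real.norm_eq_abs, sq_abs] at h2
  rw [hc, regionMu, ← Complex.ofReal_natCast, ← Complex.ofReal_inv, Complex.re_ofReal_mul, Complex.re_sum,
    ← Complex.ofReal_mul, Complex.ofReal_re] at h1
  simp only [apply_ite Complex.re, Complex.zero_re, ← Finset.sum_filter] at h1
  simp only [finsum_mem_eq_toFinset_sum, Set.toFinset_ofPred] at h2 ⊢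
  rw [show (hitSet A H).toFinset = Finset.univ.filter (· ∈ hitSet A H) by ext; simp] at h2 ⊢
  rw [Finset.sum_add_distrib, ← Finset.mul_sum, ← Finset.mul_sum]
  have h3 := mul_le_mul_of_nonneg_left h2 hr
  have h4 := congrArg (s * ·) h1
  nlinarith [h3, h4]

/-- The mean of `r F² + s F` is at least that of the value. -/
theorem regionMu_quad_ge {F : G → ℂ} (hF : IsClassFunction G F)
    (horth : ∀ ξ ∈ irrBetween K N, classInner F (τ₁ ξ) = 0) (hreal : conjFun F = F) {c : ℝ}
    (hc : classInner F (bridge A L H K ζ) = c) {r : ℝ} (hr : 0 ≤ r) (s : ℝ) :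
    regionMeas K N * (r * c ^ 2 + s * c) ≤
      (Nat.card G : ℝ)⁻¹ * ∑ᶠ g ∈ hitSet A H, (r * (F g).re ^ 2 + s * (F g).re) := by
  classical
  have h2 := hτ.regionMu_sq_ge d hζ hd hF horth
  have h1 := congrArg Complex.re (hτ.regionMu_val d hζ hd hF horth)
  rw [hc, Complex.norm_real, Real.norm_eq_abs, sq_abs] at h2
  rw [hc, regionMu, ← Complex.ofReal_natCast, ← Complex.ofReal_inv, Complex.re_ofReal_mul, Complex.re_sum,
    ← Complex.ofReal_mul, Complex.ofReal_re] at h1
  have hn : ∀ g, ‖F g‖ ^ 2 = (F g).re ^ 2 := fun g => by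
    rw [Complex.sq_norm, Complex.normSq_apply, Complex.conj_eq_iff_im.1 (congrFun hreal g)]
    ring
  simp only [apply_ite Complex.re, Complex.zero_re, ← Finset.sum_filter] at h1
  simp only [finsum_mem_eq_toFinset_sum, Set.toFinset_ofPred, hn] at h2 ⊢
  rw [show (hitSet A H).toFinset = Finset.univ.filter (· ∈ hitSet A H) by ext; simp] at h2 ⊢
  rw [Finset.sum_add_distrib, ← Finset.mul_sum, ← Finset.mul_sum]
  have h3 := mul_le_mul_of_nonneg_left h2 hr
  have h4 := congrArg (s * ·) h1
  nlinarith [h3, h4]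

/-- The coefficients of the bridge on the family. -/
theorem inner_bridge_tau {ξ : L → ℂ} (hξ : ξ ∈ irrBetween K N) [Decidable (ξ = ζ)] :
    (K.index : ℂ) * (classInner (τ₁ ξ) (bridge A L H K ζ) + if ξ = ζ then 1 else 0) =
      ξ 1 * (classInner (τ₁ ζ) (bridge A L H K ζ) + 1) := by
  classical
  obtain ⟨a, b, ha, hb, -, hα⟩ := d.exists_diff hξ hζ
  have h : classInner (τ₁ ((b : ℂ) • ξ - (a : ℂ) • ζ)) (bridge A L H K ζ) =
      classInner ((b : ℂ) • ξ - (a : ℂ) • ζ) (kerFun K - ζ) := by
    rw [hτ.2 _ hα]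
    exact classInner_dadeIsometry_dadeIsometry d.dade (d.props hα.1).1 (d.support hα)
      (d.gen_bridgeFn hζ).isClassFunction
  rw [hτ.map_sub_smul hξ hζ, classInner_sub_left, classInner_smul_left, classInner_smul_left,
    classInner_sub_left, classInner_smul_left, classInner_smul_left, classInner_sub_right, classInner_sub_right,
    d.inner_kerFun_member hξ, d.inner_kerFun_member hζ, classInner_irr hξ.1.1 hζ.1.1,
    classInner_irr_self hζ.1.1] at h
  rw [← hd, ha, hb]
  split_ifs at h ⊢ <;> linear_combination h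

/-- The Bessel inequality for the bridge: `d = ⟨τ₁ ζ, β⟩ + 1` and an orthonormal family orthogonal to the `τ₁ ξ`. -/
theorem bridge_bessel {D : ℤ} (hD : classInner (τ₁ ζ) (bridge A L H K ζ) = (D : ℂ) - 1)
    {ι : Type u} [Fintype ι] (φ : ι → G → ℂ) (hon : ∀ i j, i ≠ j → classInner (φ i) (φ j) = 0)
    (h1 : ∀ i, classInner (φ i) (φ i) = 1) (horth : ∀ i, ∀ ξ ∈ irrBetween K N, classInner (φ i) (τ₁ ξ) = 0) :
    (∑ i, ‖classInner (bridge A L H K ζ) (φ i)‖ ^ 2) +
        ((D : ℝ) ^ 2 * ((N.relIndex K : ℝ) - 1) / K.index - 2 * D + 1) ≤ K.index + 1 := by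
  classical
  have he : (K.index : ℂ) ≠ 0 := Nat.cast_ne_zero.2 Subgroup.index_ne_zero_of_finite
  set T := (irrBetween_finite K N).toFinset
  have hT : ∀ a : T, (a : L → ℂ) ∈ irrBetween K N := fun a => (Set.Finite.mem_toFinset _).1 a.2
  have h := sum_norm_sq_le (X := G) (Finset.univ : Finset (ι ⊕ T)) (Sum.elim φ fun a => τ₁ a) (by
      rintro (i | a) - (j | b) -
      · by_cases e : i = j
        · subst e; simp [h1]
        · simp [hon i j e, e]
      · simp [horth i _ (hT b)]
      · simp [classInner_symm_zero (horth j _ (hT a))]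
      · show classInner (τ₁ (a : L → ℂ)) (τ₁ (b : L → ℂ)) = _
        rw [hτ.inner (hT a) (hT b)]
        simp only [Sum.inr.injEq, Subtype.ext_iff]) (bridge A L H K ζ)
  rw [d.inner_bridge_self hζ hd, Fintype.sum_sum_type] at h
  simp only [Sum.elim_inl, Sum.elim_inr, Complex.add_re, Complex.natCast_re, Complex.one_re] at h
  rw [Finset.sum_coe_sort T fun ξ => ‖classInner (bridge A L H K ζ) (τ₁ ξ)‖ ^ 2] at h
  have hterm : ∀ ξ ∈ T, ((‖classInner (bridge A L H K ζ) (τ₁ ξ)‖ ^ 2 : ℝ) : ℂ) =
      (D : ℂ) ^ 2 / (K.index : ℂ) ^ 2 * (ξ 1 * ξ 1) + if ξ = ζ then 1 - 2 * (D : ℂ) else 0 := by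
    intro ξ hξ
    have hξ' := (Set.Finite.mem_toFinset _).1 hξ
    obtain ⟨z, hz⟩ := (hτ.gen hξ').exists_int_classInner (d.bridge_gen hζ hd)
    rw [← classInner_conj_symm, Complex.norm_conj, hz, Complex.ofReal_pow, ← Complex.mul_conj', map_intCast]
    have e := hτ.inner_bridge_tau d hζ hd hξ'
    rw [hz, hD, sub_add_cancel] at e
    rw [div_mul_eq_mul_div, div_add' _ _ _ (pow_ne_zero 2 he), eq_div_iff (pow_ne_zero 2 he)]
    split_ifs at e ⊢ with hξζ
    · subst hξζ
      rw [hd] at e ⊢
      have e' := mul_left_cancel₀ he e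
      rw [show (D : ℂ) = z + 1 from e'.symm]
      ring
    · linear_combination ((z : ℂ) * K.index + D * ξ 1) * e
  have hs : ((∑ ξ ∈ T, ‖classInner (bridge A L H K ζ) (τ₁ ξ)‖ ^ 2 : ℝ) : ℂ) =
      (((D : ℝ) ^ 2 * ((N.relIndex K : ℝ) - 1) / K.index - 2 * D + 1 : ℝ) : ℂ) := by
    rw [Complex.ofReal_sum, Finset.sum_congr rfl hterm, Finset.sum_add_distrib, ← Finset.mul_sum, d.sum_sq,
      Finset.sum_ite_eq', if_pos ((Set.Finite.mem_toFinset _).2 hζ)]
    push_cast
    field_simp
    ring
  rw [Complex.ofReal_inj.1 hs] at h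
  exact h

open Classical in
/-- The projection of `τ₁ ζ` less the restriction of `ζ`. -/
theorem sum_psi_ge {D : ℤ} (hD : classInner (τ₁ ζ) (bridge A L H K ζ) = (D : ℂ) - 1) :
    1 - (K.index : ℝ) / N.relIndex K - 2 * D / N.relIndex K + regionMeas K N * (D : ℝ) ^ 2 ≤
      (Nat.card G : ℝ)⁻¹ * ∑ᶠ g ∈ hitSet A H, ‖τ₁ ζ g‖ ^ 2 := by
  have he : (K.index : ℂ) ≠ 0 := Nat.cast_ne_zero.2 Subgroup.index_ne_zero_of_finite
  have hm : (N.relIndex K : ℂ) ≠ 0 := Nat.cast_ne_zero.2 d.relIndex_ne_zero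
  have hψ := (hτ.gen hζ).isClassFunction
  refine le_trans ?_ (dadeProj_norm_le d.dade hψ)
  set P := dadeProj A L H (τ₁ ζ)
  set ζA : L → ℂ := fun x => if (x : G) ∈ A then ζ x else 0
  set R : L → ℂ := P - ζA
  set one : L → ℂ := fun x => if (x : G) ∈ A then (1 : ℂ) else 0
  have hR0 : ∀ x : L, (x : G) ∉ A → R x = 0 := fun x hx => by
    simp [R, P, ζA, dadeProj_of_notMem _ hx, hx]
  have hcut : ∀ {α : L → ℂ}, (∀ x : L, (x : G) ∉ A → α x = 0) → classInner ζA α = classInner ζ α := by
    intro α hα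
    refine congrArg (_ * ·) (Finset.sum_congr rfl fun x _ => ?_)
    by_cases hx : (x : G) ∈ A
    · simp [ζA, hx]
    · simp [hα x hx]
  have hα0 := d.support_bridgeFn hζ hd
  -- the inner product with the bridge function
  have hRd : classInner R (kerFun K - ζ) = D := by
    rw [classInner_sub_left, hcut hα0, classInner_sub_right ζ, d.inner_kerFun_member hζ,
      classInner_irr_self hζ.1.1,
      ← classInner_proj_dade d.dade (d.gen_bridgeFn hζ).isClassFunction hα0 hψ, ← bridge, hD]
    ring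
  have hp : ∀ ξ ∈ irrBetween K N, ζ 1 * classInner R ξ = ξ 1 * classInner R ζ := by
    intro ξ hξ
    obtain ⟨a, b, ha, hb, -, hα⟩ := d.exists_diff hξ hζ
    have h : classInner R ((b : ℂ) • ξ - (a : ℂ) • ζ) = 0 := by
      rw [classInner_sub_left, hcut (d.support hα),
        ← classInner_proj_dade d.dade (d.props hα.1).1 (d.support hα) hψ, ← hτ.2 _ hα,
        hτ.1.2.2.1 _ (mem_zspan_self hζ) _ hα.1, sub_self]
    rw [classInner_sub_right, classInner_smul_right, classInner_smul_right, map_intCast, map_intCast] at h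
    rw [ha, hb]
    linear_combination h
  have hR1 : classInner R one = (regionMeas K N : ℂ) * D := by rw [d.inner_indicator hζ hd hp, hRd]
  have hRI : classInner R (kerFun K) = (K.index : ℂ) * ((regionMeas K N : ℂ) * D) := by
    rw [← hR1, classInner, classInner, mul_left_comm, Finset.mul_sum (a := (K.index : ℂ))]
    refine congrArg (HMul.hMul _) (Finset.sum_congr rfl fun x _ => ?_)
    by_cases hx : (x : G) ∈ A
    · simp only [one, kerFun, if_pos hx, if_pos ((d.mem_iff x).1 hx).1, Complex.conj_natCast, map_one]; ring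
    · rw [hR0 x hx]; ring
  have hRζ : classInner R ζA = -((D : ℂ) / N.relIndex K) := by
    have e : classInner R ζA = classInner R ζ := by
      refine congrArg (_ * ·) (Finset.sum_congr rfl fun x _ => ?_)
      by_cases hx : (x : G) ∈ A
      · simp [ζA, hx]
      · simp [hR0 x hx]
    rw [classInner_sub_right, hRI] at hRd
    rw [e, regionMeas] at *
    push_cast at hRd
    field_simp at hRd ⊢
    linear_combination -hRd
  have hζζ : classInner ζA ζA = 1 - (K.index : ℂ) / N.relIndex K := by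
    have hN : classInner ζA ζA = classInner ζ ζ - classInner ζ (fun x => if x ∈ N then ζ x else 0) := by
      rw [← classInner_sub_right]
      refine congrArg (_ * ·) (Finset.sum_congr rfl fun x _ => ?_)
      simp only [ζA, Pi.sub_apply]
      by_cases hK : x ∈ K
      · by_cases hxN : x ∈ N
        · rw [if_neg fun h => ((d.mem_iff x).1 h).2 hxN, if_pos hxN, sub_self, map_zero, mul_zero, mul_zero]
        · rw [if_pos ((d.mem_iff x).2 ⟨hK, hxN⟩), if_neg hxN, sub_zero]
      · rw [if_neg fun h => hK ((d.mem_iff x).1 h).1, d.vanish ζ hζ x hK, zero_mul, zero_mul]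
    rw [hN, classInner_irr_self hζ.1.1]
    congr 1
    rw [classInner, Finset.sum_congr rfl (g := fun x : L => if x ∈ N then (K.index : ℂ) * K.index else 0)
      fun x _ => by
        by_cases hx : x ∈ N
        · simp [hx, hζ.2 x hx, hd]
        · simp [hx],
      ← Finset.sum_filter, Finset.sum_const, nsmul_eq_mul,
      show ((Finset.univ.filter (· ∈ N)).card : ℂ) = Nat.card N by
        rw [Nat.card_eq_fintype_card, Fintype.card_subtype],
      ← N.card_mul_index, ← Subgroup.relIndex_mul_index d.le]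
    have : (Nat.card N : ℂ) ≠ 0 := Nat.cast_ne_zero.2 Nat.card_pos.ne'
    push_cast
    field_simp
  have hone : classInner one one = (regionMeas K N : ℂ) := by
    rw [← d.regionMu_one hζ hd, d.regionMu_eq fun _ _ => rfl]
    refine congrArg (_ * ·) (Finset.sum_congr rfl fun x _ => ?_)
    by_cases hx : (x : G) ∈ A
    · simp only [one, if_pos hx, dadeProj_one hx]
    · simp only [one, if_neg hx, dadeProj_of_notMem _ hx]
  have h := classInner_self_nonneg (R - (D : ℂ) • one)
  rw [classInner_sub_left R, classInner_sub_right R R, classInner_sub_right ((D : ℂ) • one) R, classInner_smul_left,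
    classInner_smul_right, classInner_smul_right, classInner_smul_left, hone, hR1, ← classInner_conj_symm R one,
    hR1, map_mul, Complex.conj_ofReal, map_intCast] at h
  rw [show P = R + ζA from (sub_add_cancel P ζA).symm, classInner_add_left, classInner_add_right,
    classInner_add_right, hζζ, hRζ, ← classInner_conj_symm R ζA, hRζ, map_neg, map_div₀, map_intCast,
    Complex.conj_natCast]
  simp only [Complex.sub_re, Complex.add_re, Complex.neg_re, Complex.mul_re, Complex.ofReal_re, Complex.ofReal_im,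
    Complex.intCast_re, Complex.intCast_im, Complex.div_natCast_re, Complex.natCast_re, Complex.one_re] at h ⊢
  simp only [Complex.mul_im, Complex.ofReal_re, Complex.ofReal_im, Complex.intCast_re, Complex.intCast_im] at h
  ring_nf at h ⊢
  linarith

/-- A class function vanishing on the region. -/
theorem coef_bound {T : G → ℂ} (hT : ∀ g ∈ hitSet A H, T g = 0) {c : ℤ}
    (hc : classInner T (τ₁ ζ) = c) :
    (c : ℝ) ^ 2 * ((N.relIndex K : ℝ) - 1) / K.index ≤ (classInner T T).re := by
  classical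
  have he : (K.index : ℂ) ≠ 0 := Nat.cast_ne_zero.2 Subgroup.index_ne_zero_of_finite
  set S := (irrBetween_finite K N).toFinset
  refine le_trans (le_of_eq ?_) (sum_norm_sq_le S τ₁ (fun a ha b hb => hτ.inner ((Set.Finite.mem_toFinset _).1 ha)
    ((Set.Finite.mem_toFinset _).1 hb)) T)
  apply Complex.ofReal_injective
  rw [Complex.ofReal_sum, Finset.sum_congr rfl
    (g := fun ξ => (c : ℂ) ^ 2 / (K.index : ℂ) ^ 2 * (ξ 1 * ξ 1)) fun ξ hξ => ?_, ← Finset.mul_sum, d.sum_sq]
  · push_cast
    field_simp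
  · have hξ' := (Set.Finite.mem_toFinset _).1 hξ
    have e := hτ.proportional d (fun α _ => inner_dade_eq_zero_of_vanish hT α) hξ' hζ
    obtain ⟨n, -, hn⟩ := hξ'.1.1.exists_degree
    rw [hd, hc, hn] at e
    have : classInner T (τ₁ ξ) = ((n * c / K.index : ℝ) : ℂ) := by
      push_cast
      rw [eq_div_iff he]
      linear_combination e
    rw [this, Complex.norm_real, Real.norm_eq_abs, sq_abs, hn]
    push_cast
    field_simp

end RegionExt

section Real

theorem conjFun_dadeIsometry (α : L → ℂ) :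
    conjFun (dadeIsometry A L H α) = dadeIsometry A L H (conjFun α) := by
  funext g
  simp only [conjFun, dadeIsometry]
  split_ifs <;> simp

theorem dadeIsometry_sub' (α α' : L → ℂ) :
    dadeIsometry A L H (α - α') = dadeIsometry A L H α - dadeIsometry A L H α' := by
  funext g
  simp only [dadeIsometry, Pi.sub_apply]
  split_ifs <;> simp

theorem _root_.Cfsg.IsGeneralizedCharacter.conjFun_gen {F : G → ℂ} (hF : IsGeneralizedCharacter G F) :
    IsGeneralizedCharacter G (conjFun F) := by
  obtain ⟨a, b, ha, hb, rfl⟩ := hF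
  exact ⟨_, _, ha.conjFn, hb.conjFn, funext fun g => by simp [conjFun]⟩

variable (hτ : RegionExt A L H K N τ₁) (d : RegionData A L H K N) (hodd : Odd (Nat.card L))
include hτ d hodd

/-- `τ₁` commutes with complex conjugation. -/
theorem RegionExt.conj_tau {χ : L → ℂ} (hχ : χ ∈ irrBetween K N) :
    conjFun (τ₁ χ) = τ₁ (conjFun χ) := by
  classical
  set χ' := conjFun χ with hχ'd
  have hχ' : χ' ∈ irrBetween K N := irrBetween_conjFun N hχ
  have hne : χ' ≠ χ := irrNontrivialOn_conjFun_ne hodd hχ.1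
  have hα : χ - χ' ∈ zspanOn (irrBetween K N) {1}ᶜ := by
    refine mem_zspanOn_one.2 ⟨zspan_sub (mem_zspan_self hχ) (mem_zspan_self hχ'), ?_⟩
    obtain ⟨n, -, hn⟩ := hχ.1.1.exists_degree
    simp [χ', conjFun, hn]
  set ψ := τ₁ χ
  set ψ' := τ₁ χ'
  have hdiff : τ₁ (χ - χ') = ψ - ψ' := by simpa using hτ.map_sub_smul hχ hχ' 1 1
  have hC : conjFun ψ - conjFun ψ' = ψ' - ψ := by
    have h : conjFun (ψ - ψ') = ψ' - ψ := by
      rw [← hdiff, hτ.2 _ hα, conjFun_dadeIsometry,
        show conjFun (χ - χ') = χ' - χ from funext fun x => by simp [χ', conjFun], dadeIsometry_sub',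
        ← neg_sub, ← dadeIsometry_sub', ← hτ.2 _ hα, hdiff, neg_sub]
    rw [← h]
    funext g
    simp [conjFun]
  have hcψ := (hτ.gen hχ).conjFun_gen
  have n1 : classInner ψ ψ = 1 := hτ.norm_one hχ
  have n1' : classInner ψ' ψ' = 1 := hτ.norm_one hχ'
  have n0 : classInner ψ ψ' = 0 := by rw [hτ.inner hχ hχ', if_neg hne.symm]
  have nc : classInner (conjFun ψ) (conjFun ψ) = 1 := (classInner_conjFn ψ ψ).trans n1
  have nc' : classInner (conjFun ψ') (conjFun ψ) = 0 := (classInner_conjFn ψ' ψ).trans n0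
  have e1 : classInner ψ' (conjFun ψ) - classInner ψ (conjFun ψ) = 1 := by
    rw [← classInner_sub_left, ← hC, classInner_sub_left, nc, nc', sub_zero]
  obtain ⟨i, hi⟩ := (hτ.gen hχ).exists_int_classInner hcψ
  obtain ⟨j, hj⟩ := (hτ.gen hχ').exists_int_classInner hcψ
  have hbound : ∀ {f : G → ℂ} {z : ℤ}, classInner f f = 1 → classInner f (conjFun ψ) = z →
      z * z ≤ 1 := by
    intro f z hf hz
    have := sum_norm_sq_le (Finset.univ : Finset Unit) (fun _ => conjFun ψ) (fun a _ b _ => by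
      rw [nc, if_pos (Subsingleton.elim a b)]) f
    rw [hf, Finset.univ_unique, Finset.sum_singleton, hz, Complex.norm_intCast, sq_abs, Complex.one_re] at this
    exact_mod_cast (by rwa [pow_two] at this : (z : ℝ) * z ≤ 1)
  have hi' := hbound n1 hi
  have hj' := hbound n1' hj
  have hij : j - i = 1 := by
    rw [hi, hj] at e1
    exact_mod_cast e1
  have hine : i ≠ -1 := by
    intro hi1
    have hz : ψ + conjFun ψ = 0 := by
      refine eq_zero_of_classInner_self ?_
      rw [classInner_add_left, classInner_add_right, classInner_add_right, n1, nc, hi, hi1,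
        classInner_symm_int (hi1 ▸ hi)]
      push_cast; ring
    obtain ⟨ε, ν, rfl | rfl, hν⟩ := exists_signed_irr_of_norm_one (hτ.gen hχ) n1
    all_goals
      obtain ⟨n, hn0, hn⟩ := ν.2.exists_degree
      have := congrFun hz 1
      simp [ψ, hν, conjFun, hn] at this
      omega
  have hj1 : j = 1 := by
    have : -1 ≤ i := by nlinarith
    have : j ≤ 1 := by nlinarith
    omega
  refine (sub_eq_zero.1 (eq_zero_of_classInner_self ?_)).symm
  rw [classInner_sub_left, classInner_sub_right, classInner_sub_right, n1', nc, hj, hj1,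
    classInner_symm_int (hj1 ▸ hj)]
  push_cast; ring

theorem RegionExt.conj_ne {χ : L → ℂ} (hχ : χ ∈ irrBetween K N) :
    classInner (τ₁ χ) (conjFun (τ₁ χ)) = 0 := by
  classical
  rw [hτ.conj_tau d hodd hχ, hτ.inner hχ (irrBetween_conjFun N hχ),
    if_neg (irrNontrivialOn_conjFun_ne hodd hχ.1).symm]

/-- `τ₁ χ` is orthogonal to the principal character. -/
theorem RegionExt.inner_one {χ : L → ℂ} (hχ : χ ∈ irrBetween K N) :
    classInner (τ₁ χ) (fun _ => 1) = 0 := by
  classical
  by_contra hne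
  have h := hτ.conj_ne d hodd hχ
  rcases hτ.irr_or_neg hχ with hi | hi
  · have e : τ₁ χ = fun _ => 1 := by_contra fun e => hne (classInner_irr_ne hi isIrrCharacter_one e)
    rw [e, show conjFun (fun _ : G => (1 : ℂ)) = fun _ => 1 from funext fun _ => map_one (starRingEnd ℂ),
      classInner_irr_self isIrrCharacter_one] at h
    exact one_ne_zero h
  · have e : -τ₁ χ = fun _ => 1 := by_contra fun e => hne (by
      have := classInner_irr_ne hi isIrrCharacter_one e
      rwa [classInner_neg_left, neg_eq_zero] at this)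
    rw [neg_eq_iff_eq_neg] at e
    rw [e, show conjFun (-fun _ : G => (1 : ℂ)) = -fun _ => 1 from funext fun _ => by simp [conjFun],
      classInner_neg_left, classInner_neg_right, neg_neg, classInner_irr_self isIrrCharacter_one] at h
    exact one_ne_zero h

/-- `β + τ₁ ζ` is real. -/
theorem RegionExt.bridge_real (hζ : ζ ∈ irrBetween K N) :
    conjFun (bridge A L H K ζ + τ₁ ζ) = bridge A L H K ζ + τ₁ ζ := by
  classical
  have hζ' : conjFun ζ ∈ irrBetween K N := irrBetween_conjFun N hζ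
  have hα : ζ - conjFun ζ ∈ zspanOn (irrBetween K N) {1}ᶜ := by
    refine mem_zspanOn_one.2 ⟨zspan_sub (mem_zspan_self hζ) (mem_zspan_self hζ'), ?_⟩
    obtain ⟨n, -, hn⟩ := hζ.1.1.exists_degree
    simp [conjFun, hn]
  have h1 : conjFun (bridge A L H K ζ) = bridge A L H K ζ + (τ₁ ζ - τ₁ (conjFun ζ)) := by
    rw [show τ₁ ζ - τ₁ (conjFun ζ) = τ₁ (ζ - conjFun ζ) from by
        simpa using (hτ.map_sub_smul hζ hζ' 1 1).symm,
      hτ.2 _ hα, bridge, conjFun_dadeIsometry]
    funext g
    simp only [dadeIsometry, Pi.add_apply]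
    split_ifs
    · simp only [conjFun, Pi.sub_apply, kerFun, map_sub]
      split_ifs <;> simp <;> ring
    · simp
  funext g
  have e1 := congrFun h1 g
  have e2 := congrFun (hτ.conj_tau d hodd hζ) g
  simp only [conjFun, Pi.add_apply, Pi.sub_apply, map_add] at e1 e2 ⊢
  linear_combination e1 + e2

/-- `τ₁ χ` is orthogonal to a cyclic TI family whose TI set misses the region. -/
theorem RegionExt.inner_eta (hG : Odd (Nat.card G)) {W₁ W₂ : Subgroup G} (hW : IsSelfNormalizingCyclic W₁ W₂)
    {η : (↥(W₁ ⊔ W₂) →* ℂˣ) → (G → ℂ)} (hη : IsCyclicTIFamily W₁ W₂ η)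
    (hV : ∀ w : ↥(W₁ ⊔ W₂), (w : G) ∉ W₁ → (w : G) ∉ W₂ → (w : G) ∉ hitSet A H)
    {χ : L → ℂ} (hχ : χ ∈ irrBetween K N) (i : Row W₁ W₂) (j : Col W₁ W₂) :
    classInner (τ₁ χ) (eta η i j) = 0 := by
  classical
  have hχ' : conjFun χ ∈ irrBetween K N := irrBetween_conjFun N hχ
  have hα : χ - conjFun χ ∈ zspanOn (irrBetween K N) {1}ᶜ := by
    refine mem_zspanOn_one.2 ⟨zspan_sub (mem_zspan_self hχ) (mem_zspan_self hχ'), ?_⟩
    obtain ⟨n, -, hn⟩ := hχ.1.1.exists_degree
    simp [conjFun, hn]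
  refine orth_constituent hG hW hη (hτ.gen hχ) (hτ.gen hχ') (hτ.gen hχ).isClassFunction
    (hτ.gen hχ').isClassFunction (hτ.norm_one hχ) (hτ.norm_one hχ') ?_ (hτ.irr_or_neg hχ) (fun w h1 h2 => ?_) i j
  · rw [← hτ.conj_tau d hodd hχ]; exact hτ.conj_ne d hodd hχ
  · have h := congrFun (show τ₁ χ - τ₁ (conjFun χ) = τ₁ (χ - conjFun χ) from by
      simpa using (hτ.map_sub_smul hχ hχ' 1 1).symm) (w : G)
    rw [hτ.2 _ hα, dadeIsometry_eq_zero_of_notMem (hV w h1 h2)] at h
    exact sub_eq_zero.1 h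

end Real

section TwoRegions

variable {A' : Set G} {L' : Subgroup G} [Fintype L'] {H' : G → Subgroup G} {K' N' : Subgroup L'}
  [K'.Normal] [N'.Normal] {τ₁' : (L' → ℂ) → (G → ℂ)}

theorem inner_dade_dade_eq_zero (hdis : ∀ g, g ∈ hitSet A H → g ∈ hitSet A' H' → False)
    (α : L → ℂ) (α' : L' → ℂ) : classInner (dadeIsometry A L H α) (dadeIsometry A' L' H' α') = 0 :=
  inner_dade_eq_zero_of_vanish (fun g hg => dadeIsometry_eq_zero_of_notMem fun h => hdis g h hg) α'

/-- The members of two disjoint regions are orthogonal. -/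
theorem RegionExt.inner_of_disjoint (hτ : RegionExt A L H K N τ₁) (d : RegionData A L H K N)
    (hodd : Odd (Nat.card L)) (hτ' : RegionExt A' L' H' K' N' τ₁') (d' : RegionData A' L' H' K' N')
    (hodd' : Odd (Nat.card L')) (hdis : ∀ g, g ∈ hitSet A H → g ∈ hitSet A' H' → False)
    {χ : L → ℂ} (hχ : χ ∈ irrBetween K N) {φ : L' → ℂ} (hφ : φ ∈ irrBetween K' N') :
    classInner (τ₁ χ) (τ₁' φ) = 0 := by
  classical
  set ψ := τ₁ χ
  set ω := τ₁' φ
  have hdiff : ∀ {L₀ : Subgroup G} [Fintype L₀] {A₀ : Set G} {H₀ : G → Subgroup G} {K₀ N₀ : Subgroup L₀}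
      [K₀.Normal] [N₀.Normal] {t : (L₀ → ℂ) → (G → ℂ)} (_ : RegionExt A₀ L₀ H₀ K₀ N₀ t)
      (_ : RegionData A₀ L₀ H₀ K₀ N₀) (_ : Odd (Nat.card L₀)) {x : L₀ → ℂ}, x ∈ irrBetween K₀ N₀ →
      ∃ α : L₀ → ℂ, t x - conjFun (t x) = dadeIsometry A₀ L₀ H₀ α := by
    intro L₀ _ A₀ H₀ K₀ N₀ _ _ t ht d₀ ho x hx
    have hx' : conjFun x ∈ irrBetween K₀ N₀ := irrBetween_conjFun N₀ hx
    have hα : x - conjFun x ∈ zspanOn (irrBetween K₀ N₀) {1}ᶜ := by
      refine mem_zspanOn_one.2 ⟨zspan_sub (mem_zspan_self hx) (mem_zspan_self hx'), ?_⟩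
      obtain ⟨n, -, hn⟩ := hx.1.1.exists_degree
      simp [conjFun, hn]
    refine ⟨x - conjFun x, ?_⟩
    rw [← ht.2 _ hα, ht.conj_tau d₀ ho hx]
    simpa using (ht.map_sub_smul hx hx' 1 1).symm
  obtain ⟨α, hα⟩ := hdiff hτ d hodd hχ
  obtain ⟨α', hα'⟩ := hdiff hτ' d' hodd' hφ
  have h0 := inner_dade_dade_eq_zero hdis α α'
  rw [← hα, ← hα', classInner_sub_left, classInner_sub_right, classInner_sub_right] at h0
  obtain ⟨z, (hz : classInner ψ ω = z)⟩ := (hτ.gen hχ).exists_int_classInner (hτ'.gen hφ)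
  obtain ⟨w, (hw : classInner ψ (conjFun ω) = w)⟩ := (hτ.gen hχ).exists_int_classInner (hτ'.gen hφ).conjFun_gen
  have e1 : classInner (conjFun ψ) (conjFun ω) = z := by
    rw [← classInner_symm_int hz]
    exact classInner_conjFn ψ ω
  have e2 : classInner (conjFun ψ) ω = w := by
    rw [← classInner_symm_int hw]
    have := classInner_conjFn ψ (conjFun ω)
    rw [show (fun g => conj (conjFun ω g)) = ω from conjFun_conjFun ω] at this
    exact this
  rw [hz, hw, e1, e2] at h0
  have hzw : z = w := by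
    have : (z : ℂ) = w := by linear_combination h0 / 2
    exact_mod_cast this
  have hB := sum_norm_sq_le (Finset.univ : Finset Bool) (fun b => if b then ω else conjFun ω) (by
      have n0 := hτ'.conj_ne d' hodd' hφ
      have n1 : classInner ω ω = 1 := hτ'.norm_one hφ
      rintro (_ | _) - (_ | _) -
      · exact (classInner_conjFn ω ω).trans n1
      · simpa using classInner_symm_zero n0
      · simpa using n0
      · simpa using n1) ψ
  rw [hτ.norm_one hχ, Fintype.sum_bool] at hB
  simp only [if_true, Bool.false_eq_true, if_false, hz, hw, Complex.norm_intCast, sq_abs, Complex.one_re] at hB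
  rw [hzw] at hB hz
  have : w = 0 := by
    have h2 : (w : ℝ) ^ 2 + (w : ℝ) ^ 2 ≤ 1 := hB
    have h3 : w ^ 2 + w ^ 2 ≤ 1 := by exact_mod_cast h2
    nlinarith [sq_nonneg w, Int.le_self_sq w, Int.le_self_sq (-w)]
  rw [hz, this, Int.cast_zero]

end TwoRegions

end Cfsg.Lib.OddOrder
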