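import Cfsg.Agent.Lib.OddOrder.NeighbourOrder
import Cfsg.Agent.Lib.OddOrder.Region
import Cfsg.Agent.Lib.OddOrder.Ctx
import Cfsg.Agent.Lib.OddOrder12.Kernel
import Cfsg.Agent.S1379
import Cfsg.Agent.S1535
import Cfsg.Agent.S1542

/-!
# The neighbour as a coherent region (notes/ft_main.md, section 6)

The Dade hypothesis holds for `L_σ#`, the characters nontrivial on `L_σ` are coherent, and the region misses
the supports of the pair.  In the exceptional case of the coherence theorem `L_σ` is a TI subgroup or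
`|L : L_σ|` divides `r - 1`, so that `L` is of type I.
-/

set_option autoImplicit false
set_option linter.style.haveILetI false
set_option linter.unusedSectionVars false

namespace Cfsg.Lib.OddOrder

open Subgroup Cfsg.Lib Cfsg.Lib.Local Cfsg.Lib.Local.Uniq Cfsg.Lib.Local.Sigma Cfsg.Lib.Char Cfsg.Lib.Char.FT
  Cfsg.Lib.FT12

universe u

variable {G : Type u} [Group G] [Finite G]

/-- A full member from the output of `SideHyp.full_structure`. -/
theorem FullP.of_structure {M W₁ U W₂ : Subgroup G} (hp : 2 ≤ Nat.card W₂)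
    (hel : Cfsg.IsElementaryAbelian (Nat.card W₂) (Cfsg.fittingHallOf M))
    (hcard : Nat.card ↥(Cfsg.fittingHallOf M) = Nat.card W₂ ^ Nat.card W₁) (hcyc : IsCyclic U)
    (hfree : ∀ v ∈ U, v ≠ 1 → ∀ x ∈ Cfsg.fittingHallOf M, v * x = x * v → x = 1)
    (hU : Nat.card U * (Nat.card W₂ - 1) = Nat.card W₂ ^ Nat.card W₁ - 1)
    (hcop : Nat.Coprime ((Nat.card W₂ ^ Nat.card W₁ - 1) / (Nat.card W₂ - 1)) (Nat.card W₂ - 1)) :
    FullP M W₁ U W₂ := by
  have h1 : 1 ≤ Nat.card W₂ ^ Nat.card W₁ := Nat.one_le_pow _ _ (by omega)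
  refine ⟨hel.1, hel.2, hcard, by omega, hcyc, hfree, ?_⟩
  rwa [← hU, Nat.mul_div_cancel _ (by omega)] at hcop

/-- A nonabelian `r`-group as the kernel of a Frobenius maximal subgroup is a TI subgroup or the index
divides `r - 1`. -/
theorem ti_or_index_dvd (hG : Cfsg.IsMinSimpleOddOrder G) {L : Subgroup G} (hL : IsCoatom L) (hfr : IsFrob L)
    {r : ℕ} (hr : r.Prime) (hKr : IsPGroup r (Cfsg.sigmaCore L))
    (hna : ¬ IsMulCommutative ↥(Cfsg.sigmaCore L)) :
    Cfsg.IsTISubset (Cfsg.sigmaCore L : Set G) ∨ (Cfsg.sigmaCore L).relIndex L ∣ r - 1 := by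
  haveI := Fact.mk hr
  set K := Cfsg.sigmaCore L
  by_cases hall : ∀ a ∈ K, a ≠ 1 → centralizer ({a} : Set G) ≤ L
  · refine Or.inl fun g hg a ha hga => by_contra fun ha1 => hg (le_normalizer_sigmaCore L ?_)
    obtain ⟨c, hc, hce⟩ := exists_conj_centralizer hG hL ha ha1 (g := g⁻¹) (mem_cj_iff.mpr (by
      rw [inv_inv]; exact sigmaCore_le L hga))
    refine inv_mem_iff.mp (mem_of_cj_eq hG hL ?_)
    rw [← hce]
    exact Core.map_conj_eq_of_mem_normalizer (Subgroup.le_normalizer (hall a ha ha1 hc))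
  right
  push Not at hall
  obtain ⟨a, ha, ha1, hCa⟩ := hall
  -- an element of order `r`
  obtain ⟨x, hx, hxr, hx1, hxC⟩ : ∃ x ∈ K, x ^ r = 1 ∧ x ≠ 1 ∧ ¬ centralizer ({x} : Set G) ≤ L := by
    obtain ⟨n, hn⟩ := pow_pow_eq_one hKr ha
    obtain ⟨i, -, hi⟩ := (Nat.dvd_prime_pow hr).1 (orderOf_dvd_of_pow_eq_one hn)
    have hi0 : i ≠ 0 := fun h => ha1 (orderOf_eq_one_iff.1 (by rw [hi, h, pow_zero]))
    have hd : r ∣ orderOf a := hi ▸ dvd_pow_self r hi0
    have ho : orderOf (a ^ (orderOf a / r)) = r := orderOf_pow_orderOf_div (orderOf_pos a).ne' hd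
    refine ⟨a ^ (orderOf a / r), pow_mem ha _, orderOf_dvd_iff_pow_eq_one.1 ho.dvd,
      fun e => hr.ne_one (by rw [← ho, e, orderOf_one]), fun hle => hCa (le_trans ?_ hle)⟩
    exact fun z hz => mem_centralizer_singleton_iff.2
      ((show Commute z a from mem_centralizer_singleton_iff.1 hz).pow_right _).eq
  have hxo : orderOf x = r := orderOf_eq_prime hxr hx1
  obtain ⟨N, hN⟩ := exists_support hG hL hx hx1 hxC
  have hrN : r ∈ Cfsg.tau2 N := hN.tau2 r hr hxo.symm.dvd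
  set C := K ⊓ centralizer ({x} : Set G)
  have hCN : C ≤ N := inf_le_right.trans hN.le
  haveI hCc : IsMulCommutative C :=
    isMulCommutative_of_not_sigma hG hN.coatom hrN.2.1 (hKr.to_le inf_le_left) hCN
  let Z : Subgroup G :=
    { carrier := {z | z ∈ K ∧ z ∈ centralizer (K : Set G) ∧ z ^ r = 1}
      one_mem' := ⟨one_mem _, one_mem _, one_pow _⟩
      mul_mem' := fun {a b} ha hb => ⟨mul_mem ha.1 hb.1, mul_mem ha.2.1 hb.2.1, by
        rw [(show Commute a b from (mem_centralizer_iff.mp ha.2.1 b hb.1).symm).mul_pow, ha.2.2, hb.2.2, one_mul]⟩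
      inv_mem' := fun {a} ha => ⟨inv_mem ha.1, inv_mem ha.2.1, by rw [inv_pow, ha.2.2, inv_one]⟩ }
  have hZ : ∀ {z}, z ∈ Z ↔ z ∈ K ∧ z ∈ centralizer (K : Set G) ∧ z ^ r = 1 := Iff.rfl
  have hZe : Cfsg.IsElementaryAbelian r Z :=
    ⟨⟨⟨fun a b => Subtype.ext (mem_centralizer_iff.1 b.2.2.1 a a.2.1)⟩⟩, fun z hz => hz.2.2⟩
  have hxZ : x ∈ centralizer (Z : Set G) := mem_centralizer_iff.2 fun z hz => (mem_centralizer_iff.1 hz.2.1 x hx).symm
  have hB := elementary_adjoin hZe hxr hxZ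
  have hBN : Z ⊔ zpowers x ≤ N := (sup_le (fun z hz => ⟨hz.1, mem_centralizer_singleton_iff.2
    (mem_centralizer_iff.1 hz.2.1 x hx).symm⟩) (zpowers_le.2 ⟨hx, mem_centralizer_singleton_iff.2 rfl⟩)
      : Z ⊔ zpowers x ≤ C).trans hCN
  have hBle : Nat.card ↥(Z ⊔ zpowers x) < r ^ 3 := not_le.1 fun h =>
    not_rankLE_of_elementary hBN hB h hrN.2.2.1
  have hZx : x ∉ Z := fun h => by
    refine hna ?_
    have : C = K := inf_eq_left.2 fun k hk => mem_centralizer_singleton_iff.2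
      (mem_centralizer_iff.1 (hZ.1 h).2.1 k hk)
    rw [← this]; exact hCc
  have hZ1 : Z ≠ ⊥ := by
    haveI : Nontrivial K := (nontrivial_iff_ne_bot _).2 (sigmaCore_ne_bot hG hL)
    haveI := hKr.center_nontrivial
    obtain ⟨n, hn, hcard⟩ := (hKr.to_subgroup (center K)).nontrivial_iff_card.1 inferInstance
    obtain ⟨⟨z, hz⟩, hzo⟩ := exists_prime_orderOf_dvd_card' (G := center K) r (hcard ▸ dvd_pow_self r hn.ne')
    rw [Subgroup.orderOf_mk] at hzo
    intro e
    have hzZ : (z : G) ∈ Z := hZ.2 ⟨z.2, mem_centralizer_iff.2 fun k hk =>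
      congrArg Subtype.val (mem_center_iff.1 hz ⟨k, hk⟩),
      congrArg Subtype.val (hzo ▸ pow_orderOf_eq_one z : z ^ r = 1)⟩
    exact hr.ne_one (by rw [← hzo, Subtype.ext (mem_bot.1 (e.le hzZ)) (a2 := (1 : K)), orderOf_one])
  have hZcard : Nat.card Z = r := by
    obtain ⟨i, hi⟩ := IsPGroup.iff_card.1 (Cfsg.Lib.PGroup.isPGroup_of_isElementaryAbelian hZe)
    obtain ⟨j, hj⟩ := IsPGroup.iff_card.1 (Cfsg.Lib.PGroup.isPGroup_of_isElementaryAbelian hB)
    have hlt : Z < Z ⊔ zpowers x := left_lt_sup.2 fun h => hZx (h (mem_zpowers x))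
    have h1 : Nat.card Z < Nat.card ↥(Z ⊔ zpowers x) :=
      lt_of_not_ge fun h => hlt.ne (eq_of_le_of_card_ge hlt.le h)
    rw [hi, hj] at h1
    rw [hj] at hBle
    have h2 := (Nat.pow_lt_pow_iff_right hr.one_lt).1 h1
    have h3 := (Nat.pow_lt_pow_iff_right hr.one_lt).1 hBle
    have h4 : i ≠ 0 := fun h => hZ1 (eq_bot_of_card_eq _ (by rw [hi, h, pow_zero]))
    rw [hi, show i = 1 by omega, pow_one]
  have hLZ : L ≤ normalizer (Z : Set G) := Cfsg.Lib.Sig.le_normalizer_of_invariant fun g hg z hz => by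
    refine hZ.2 ⟨(mem_normalizer_iff.1 (le_normalizer_sigmaCore L hg) z).1 hz.1, ?_, ?_⟩
    · exact (mem_normalizer_iff.1
        (Local.normalizer_le_normalizer_centralizer _ (le_normalizer_sigmaCore L hg)) z).1 hz.2.1
    · rw [conj_pow, hz.2.2, mul_one, mul_inv_cancel]
  have h := dvd_card_sub_one_of_stab (M := L) Z hLZ K fun m hm v hv hv1 =>
    ⟨fun e => hfr v hv.1 hv1 ⟨hm, mem_centralizer_singleton_iff.2 (mul_inv_eq_iff_eq_mul.1 e)⟩,
      fun hmK => by rw [mem_centralizer_iff.1 hv.2.1 m hmK, mul_inv_cancel_right]⟩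
  rwa [hZcard] at h

namespace NeighbourCtx

variable {S T W₁ W₂ U V L : Subgroup G}

theorem afSet_eq (c : NeighbourCtx S T W₁ W₂ U V L) : afSet L = (Cfsg.sigmaCore L : Set G) \ {1} := by
  ext a
  exact ⟨fun ⟨ha, ha1, y, hy, hy1, hay⟩ =>
    ⟨c.isFrob y hy hy1 ⟨ha, mem_centralizer_singleton_iff.2 hay⟩, ha1⟩,
    fun h => mem_afSet_of_mem h.1 h.2⟩

theorem frobData (c : NeighbourCtx S T W₁ W₂ U V L) :
    FrobData (afSet L) L (Cfsg.supportR L) (kerM L) := by
  refine ⟨dade_af c.minimal c.coatom c.kappa_empty, ?_, ?_, ?_, ?_⟩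
  · intro e
    rw [subgroupOf_eq_bot, disjoint_iff, inf_eq_left.2 (sigmaCore_le L)] at e
    exact sigmaCore_ne_bot c.minimal c.coatom e
  · rw [Ne, subgroupOf_eq_top]
    exact fun e => (derived_lt c.minimal c.coatom).not_ge (e.trans (sigmaCore_le_derived c.minimal c.coatom))
  · intro y hy hy1 f hf
    exact mem_subgroupOf.2 (c.isFrob y hy (fun e => hy1 (Subtype.ext e))
      ⟨f.2, mem_centralizer_singleton_iff.2 (congrArg Subtype.val (mem_centralizer_singleton_iff.1 hf) :)⟩)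
  · intro f
    rw [c.afSet_eq]
    exact ⟨fun h => ⟨h.1, fun e => h.2 (by rw [e]; rfl)⟩, fun h => ⟨h.1, fun e => h.2 (Subtype.ext e)⟩⟩

theorem card_kerM (_c : NeighbourCtx S T W₁ W₂ U V L) : Nat.card (kerM L) = Nat.card (Cfsg.sigmaCore L) :=
  Nat.card_congr (subgroupOfEquivOfLe (sigmaCore_le L)).toEquiv

theorem index_kerM (_c : NeighbourCtx S T W₁ W₂ U V L) :
    (kerM L).index = (Cfsg.sigmaCore L).relIndex L := rfl

theorem kerM_nilpotent (c : NeighbourCtx S T W₁ W₂ U V L) : Group.IsNilpotent (kerM L) := by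
  haveI := c.nilpotent
  exact Group.nilpotent_of_mulEquiv (subgroupOfEquivOfLe (sigmaCore_le L)).symm

theorem regionData (c : NeighbourCtx S T W₁ W₂ U V L) [Fintype L] :
    RegionData (afSet L) L (Cfsg.supportR L) (kerM L) ⊥ := regionData_of_frobData c.frobData

theorem index_lt_card (c : NeighbourCtx S T W₁ W₂ U V L) : (kerM L).index + 1 < Nat.card (kerM L) := by
  rw [c.index_kerM, c.card_kerM]
  have h1 := c.mul_lt_card_U
  have h2 := Nat.le_of_dvd Nat.card_pos (card_dvd_of_le c.U_le)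
  have hle : (Cfsg.sigmaCore L).relIndex L ≤ Nat.card W₂ * Nat.card W₁ := by
    rcases c.index_cases with h | ⟨h, -⟩ <;> rw [h]
    · exact Nat.le_mul_of_pos_left _ Nat.card_pos
    · rw [mul_comm]
  obtain ⟨a, ha⟩ := Uniq.odd_subgroup c.minimal (Cfsg.sigmaCore L)
  obtain ⟨b, hb⟩ : Odd ((Cfsg.sigmaCore L).relIndex L) :=
    (Uniq.odd_subgroup c.minimal L).of_dvd_nat (relIndex_dvd_card _ _)
  omega

theorem exists_extends [Fintype G] [Fintype L] (c : NeighbourCtx S T W₁ W₂ U V L) :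
    ∃ τ₁, Extends (afSet L) L (Cfsg.supportR L) (kerM L) τ₁ := by
  classical
  have hG := c.minimal
  have d := c.frobData
  set τ := Cfsg.dadeIsometry (afSet L) L (Cfsg.supportR L) with hτdef
  set K := kerM L
  have hτ : Cfsg.IsLinearIsometryOn (Cfsg.zspanOn (irrNontrivialOn K) {1}ᶜ) τ := by
    refine ⟨fun a _ b _ => ?_, fun a _ n => ?_, fun a ha b hb => ?_, fun a ha => ?_⟩
    · funext g; simp only [τ, Cfsg.dadeIsometry, Pi.add_apply]; split_ifs <;> simp
    · funext g; simp only [τ, Cfsg.dadeIsometry, Pi.smul_apply]; split_ifs <;> simp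
    · exact classInner_dadeIsometry_dadeIsometry d.dade (d.props ha.1).1 (d.support ha) (d.props hb.1).1
    · exact isGeneralizedCharacter_dadeIsometry d.dade (d.props ha.1).2.2 (d.support ha)
  have hτ1 : ∀ α ∈ Cfsg.zspanOn (irrNontrivialOn K) {1}ᶜ, τ α 1 = 0 := fun α _ =>
    dadeIsometry_eq_zero fun a ha y u hu e => by
      rw [mul_one, mul_inv_cancel] at e
      have h0 : (a : G) = u⁻¹ := eq_inv_of_mul_eq_one_left e.symm
      have hau : (a : G) ∈ Cfsg.supportR L (a : G) := by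
        have := (Cfsg.supportR L (a : G)).inv_mem hu
        rwa [← h0] at this
      have : (a : G) ∈ Cfsg.supportR L (a : G) ⊓ (L ⊓ centralizer ({(a : G)} : Set G)) :=
        ⟨hau, a.2, mem_centralizer_singleton_iff.mpr rfl⟩
      rw [d.dade.inf_eq_bot _ ha, mem_bot] at this
      exact ha.2.1 this
  suffices h : Cfsg.IsCoherent (irrNontrivialOn K) {1}ᶜ τ by
    obtain ⟨-, τ₁, h1, h2⟩ := h
    exact ⟨τ₁, h1, h2⟩
  rcases Cfsg.Agent.S1535.result K d.ne_bot d.ne_top d.free (by have h : K.index + 1 < Nat.card K := c.index_lt_card; omega) τ hτ hτ1 with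
    h | ⟨r, hr, ⟨m, hm⟩, hna, -⟩
  · exact h
  -- the exceptional case: `L` is of type I
  have hF : Cfsg.fittingHallOf L = Cfsg.sigmaCore L := c.fittingHallOf_eq
  have hFK : Cfsg.fittingHall ↥L = K := by
    have := comap_map_eq_self_of_injective L.subtype_injective (Cfsg.fittingHall ↥L)
    rw [← this]
    show (Cfsg.fittingHallOf L).subgroupOf L = _
    rw [hF]
  have hKp : IsPGroup r (Cfsg.sigmaCore L) := IsPGroup.of_card (c.card_kerM ▸ hm)
  have hKna : ¬ IsMulCommutative ↥(Cfsg.sigmaCore L) := fun h => hna ⟨⟨fun a b => Subtype.ext (Subtype.ext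
    ((congrArg Subtype.val (h.is_comm.comm (⟨_, mem_subgroupOf.1 a.2⟩ : Cfsg.sigmaCore L)
      ⟨_, mem_subgroupOf.1 b.2⟩)) :))⟩⟩
  have hcompl : IsComplement' K ((L ⊓ T).subgroupOf L) := by
    refine isComplement'_of_card_mul_and_disjoint ?_ ?_
    · rw [c.card_kerM, Nat.card_congr (subgroupOfEquivOfLe (inf_le_left : L ⊓ T ≤ L)).toEquiv, mul_comm,
        c.card_eq]
    · rw [disjoint_iff, eq_bot_iff]
      intro z hz
      have := c.compl.compl.2.2.1.le (Subgroup.mem_inf.2 ⟨hz.2, hz.1⟩)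
      exact mem_bot.2 (Subtype.ext (mem_bot.1 this))
  have hTypeF : Cfsg.IsOfTypeF ↥L := by
    refine ⟨hG.2.2.2 L c.coatom.1, Uniq.odd_subgroup hG L, hFK ▸ d.ne_bot, hFK ▸ d.ne_top,
      (L ⊓ T).subgroupOf L, ?_, hFK ▸ hcompl, ⟨⊥, bot_le, ?_, inferInstance, ?_⟩,
      ⟨_, le_rfl, rfl, ?_⟩⟩
    · intro e
      refine c.typeS.W₁_ne (le_bot_iff.1 fun z hz => ?_)
      have := e.le (show (⟨z, (c.W₁_le hz).1⟩ : L) ∈ (L ⊓ T).subgroupOf L from c.W₁_le hz)
      exact mem_bot.2 (congrArg Subtype.val (mem_bot.1 this))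
    · rw [normalizer_eq_top]; exact le_top
    · intro x hx hx1 z hz
      rw [mem_bot]
      have hzK : z ∈ K := d.free x (hFK ▸ hx) hx1 hz.2
      exact mem_bot.1 (hcompl.disjoint.le_bot ⟨hzK, hz.1⟩)
    · intro e he he1 x hx hex
      by_contra hx1
      exact he1 (mem_bot.1 (hcompl.disjoint.le_bot ⟨d.free x (hFK ▸ hx) hx1
        (mem_centralizer_singleton_iff.2 hex), he⟩))
  have hI : Cfsg.IsOfTypeI L := by
    refine ⟨hTypeF, ?_⟩
    rcases ti_or_index_dvd hG c.coatom c.isFrob hr hKp hKna with hTI | hdvd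
    · exact Or.inl (hF ▸ hTI)
    haveI := Fact.mk hr
    refine Or.inr (Or.inr ⟨fun t ht htd => ?_, r, hr, ?_, ?_⟩)
    · rw [hF, ← c.card_kerM, hm] at htd
      rw [(Nat.prime_dvd_prime_iff_eq ht hr).1 (ht.dvd_of_dvd_pow htd)]
      refine Group.exponent_dvd_nat_card.trans ?_
      rw [← index_eq_card, hFK]
      exact hdvd
    · rw [hF, ← c.card_kerM, hm]
      exact dvd_pow_self r fun h0 => d.ne_bot (eq_bot_of_card_eq _ (by rw [hm, h0, pow_zero]))
    · -- `O_{r'}` centralizes the kernel, so it is trivial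
      have hbot : Cfsg.pPrimeCore r ↥L = ⊥ := by
        set O := Cfsg.pPrimeCore r ↥L
        have hOK : O ⊓ K = ⊥ := inf_eq_bot_of_coprime (by
          rw [hm]; exact (Cfsg.Lib.Core.pPrimeCore_coprime r ↥L).pow_right m)
        refine (Subgroup.eq_bot_iff_forall _).2 fun o ho => ?_
        obtain ⟨k, hk, hk1⟩ := K.bot_or_exists_ne_one.resolve_left d.ne_bot
        have hcomm : o * k = k * o := by
          have h1 : o * k * o⁻¹ * k⁻¹ ∈ O ⊓ K := by
            refine Subgroup.mem_inf.2 ⟨?_, mul_mem ((kerM_normal (M := L)).conj_mem k hk o) (inv_mem hk)⟩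
            rw [show o * k * o⁻¹ * k⁻¹ = o * (k * o⁻¹ * k⁻¹) by group]
            exact mul_mem ho (Subgroup.Normal.conj_mem inferInstance _ (O.inv_mem ho) k)
          rw [hOK, mem_bot, mul_inv_eq_one, mul_inv_eq_iff_eq_mul] at h1
          exact h1
        exact mem_bot.1 (hOK.le ⟨ho, d.free k hk hk1 (mem_centralizer_singleton_iff.2 hcomm)⟩)
      rw [hbot]
      infer_instance
  have hA : Cfsg.typeA L = afSet L := by
    rw [Cfsg.typeA, if_pos hI, afSet, hF]
  have h42 := (Cfsg.Agent.S1542.result hG L c.coatom hI (hF ▸ c.isFrob)).2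
  rw [hA, hFK, ← irrNontrivialOn_eq_induced d.free] at h42
  exact h42

/-- The coherent region of the neighbour. -/
theorem exists_region [Fintype G] [Fintype L] (c : NeighbourCtx S T W₁ W₂ U V L) :
    ∃ (τ₁ : (L → ℂ) → (G → ℂ)) (ζ : L → ℂ),
      RegionExt (afSet L) L (Cfsg.supportR L) (kerM L) ⊥ τ₁ ∧
        ζ ∈ irrBetween (kerM L) (⊥ : Subgroup L) ∧ ζ 1 = ((kerM L).index : ℂ) := by
  obtain ⟨τ₁, hτ⟩ := c.exists_extends
  obtain ⟨ζ, h1, h2⟩ := exists_member_of_frobData c.frobData c.kerM_nilpotent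
  exact ⟨τ₁, ζ, regionExt_of_extends hτ, h1, h2⟩

/-- The region misses the TI set and the supports of the two sides. -/
theorem hitSet_subset [Fintype G] (c : NeighbourCtx S T W₁ W₂ U V L) {Ns Ks Nt Kt : Subgroup G}
    (hNs : Ns ≤ Cfsg.fittingHallOf S) (hNt : Nt ≤ Cfsg.fittingHallOf T) :
    hitSet (afSet L) (Cfsg.supportR L) ⊆ restSet S T W₁ W₂ Ns Ks Nt Kt := by
  have hG := c.minimal
  obtain ⟨hdisj, -, hti⟩ := Cfsg.Agent.S1379.result hG
  have htilde : ∀ g ∈ hitSet (afSet L) (Cfsg.supportR L),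
      g ∈ Cfsg.tildeOf L ((Cfsg.sigmaCore L : Set G) \ {1}) := by
    rintro g ⟨a, ha, u, hu, x, hx⟩
    rw [c.afSet_eq] at ha
    exact ⟨a, ha, u, hu, x⁻¹, by rw [← hx]; group⟩
  have key : ∀ (M : Subgroup G), IsCoatom M → (∀ g : G, L ≠ cj g M) →
      ∀ {N K : Subgroup G}, N ≤ Cfsg.fittingHallOf M → ∀ g ∈ hitSet (afSet L) (Cfsg.supportR L),
        g ∉ hitSet (sideSet N K) (Cfsg.supportR M) := by
    rintro M hM hne N K hN g hg ⟨a, ⟨ha, haK⟩, u, hu, x, hx⟩
    have hgM : g ∈ Cfsg.tildeOf M ((Cfsg.sigmaCore M : Set G) \ {1}) :=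
      ⟨a, ⟨fittingHallOf_le hG hM (hN ha), fun e => haK (by rw [Set.mem_singleton_iff.1 e]; exact one_mem K)⟩,
        u, hu, x⁻¹, by rw [← hx]; group⟩
    exact Set.notMem_empty g ((hdisj M L hM c.coatom hne).le ⟨hgM, htilde g hg⟩)
  intro g hg
  refine ⟨?_, key S c.coatomS c.not_conj_S hNs g hg, key T c.coatomT c.not_conj_T hNt g hg⟩
  intro hT
  simp only [tiSet, Set.mem_ofPred_eq, OffTI, not_forall, not_or] at hT
  obtain ⟨x, hx, hx1, hx2⟩ := hT
  obtain ⟨hd, -, -⟩ := c.decomp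
  have e := (hall_of_typeP hG c.coatomS c.typeS).2
  refine (hti S W₁ U c.coatomS hd c.typeS.W₁_ne).2 L c.coatom x⁻¹ (x * g * x⁻¹) ?_ ?_
  · rw [show Cfsg.sigmaCore S ⊓ centralizer (W₁ : Set G) = W₂ from e]
    exact ⟨hx, fun h => h.elim hx1 hx2⟩
  · rw [show x⁻¹ * (x * g * x⁻¹) * x⁻¹⁻¹ = g by group]
    exact htilde g hg

end NeighbourCtx

/-- The regions of two maximal subgroups with `κ = ∅` that are not conjugate are disjoint. -/
theorem hitSet_disjoint (hG : Cfsg.IsMinSimpleOddOrder G) {L M : Subgroup G} (hL : IsCoatom L) (hM : IsCoatom M)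
    (hLf : IsFrob L) (hMf : IsFrob M) (hne : ∀ g : G, M ≠ cj g L) :
    hitSet (afSet L) (Cfsg.supportR L) ∩ hitSet (afSet M) (Cfsg.supportR M) = ∅ := by
  have key : ∀ {N : Subgroup G}, IsFrob N → ∀ g ∈ hitSet (afSet N) (Cfsg.supportR N),
      g ∈ Cfsg.tildeOf N ((Cfsg.sigmaCore N : Set G) \ {1}) := by
    rintro N hN g ⟨a, ⟨ha, ha1, y, hy, hy1, hay⟩, u, hu, x, hx⟩
    exact ⟨a, ⟨hN y hy hy1 ⟨ha, mem_centralizer_singleton_iff.2 hay⟩, ha1⟩, u, hu, x⁻¹, by rw [← hx]; group⟩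
  refine Set.eq_empty_of_forall_notMem fun g hg => Set.notMem_empty g ?_
  exact ((Cfsg.Agent.S1379.result hG).1 L M hL hM hne).le ⟨key hLf g hg.1, key hMf g hg.2⟩

namespace NeighbourCtx

variable {S T W₁ W₂ U V L M : Subgroup G}

/-- If the neighbours of the two members are conjugate, their kernels have the same order and index, so both
`|U|` and `|V|` divide it. -/
theorem of_conj (c : NeighbourCtx S T W₁ W₂ U V L) (d : NeighbourCtx T S W₂ W₁ V U M) {g : G}
    (h : M = cj g L) : Nat.card (Cfsg.sigmaCore M) = Nat.card (Cfsg.sigmaCore L) ∧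
      (Cfsg.sigmaCore M).relIndex M = (Cfsg.sigmaCore L).relIndex L ∧
      Nat.card V ∣ Nat.card (Cfsg.sigmaCore L) := by
  have e : Cfsg.sigmaCore M = cj g (Cfsg.sigmaCore L) := by rw [h, sigmaCore_cj c.minimal c.coatom]
  have e1 : Nat.card (Cfsg.sigmaCore M) = Nat.card (Cfsg.sigmaCore L) := by
    rw [e, Coprime.card_map_conj]
  refine ⟨e1, ?_, e1 ▸ card_dvd_of_le d.U_le⟩
  rw [e, h]
  exact relIndex_map_map_of_injective _ L (MulAut.conj g).injective

end NeighbourCtx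

end Cfsg.Lib.OddOrder
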