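import Cfsg.Agent.Lib.OddOrder.Main
import Cfsg.Agent.Lib.OddOrder.NeighbourChar

/-!
# The neighbours of a full pair

The neighbour of a member of type II of a full pair gives a region of index `q` and size at least `u`, or of index
`p q` and size at least `(2 p q + 1) u`; in the second case the neighbour of a partner of type II gives a second
region, disjoint from the first by the bound of section 7.
-/

set_option autoImplicit false
set_option linter.unusedSectionVars false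
set_option linter.style.haveILetI false

namespace Cfsg.Lib.OddOrder

open Subgroup Cfsg Cfsg.Lib.Char Cfsg.Lib.Char.FT
open Cfsg.Lib.Local.Sigma Cfsg.Lib.Local.Uniq Cfsg.Lib.FT12
open scoped commutatorElement Classical

universe u'

variable {G : Type u'} [Group G] [Fintype G] {M A U B : Subgroup G}

/-- The type of a member of type P with `U ≠ 1`. -/
theorem SideHyp.type_cases (h : SideHyp M A U B) : IsOfTypeII M ∨ IsOfTypeIII M ∨ IsOfTypeIV M := by
  obtain ⟨K', U', hU'⟩ := exists_decomposition h.minSimple h.coatom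
  have hK1 := ne_bot_of_typeP h.minSimple h.coatom hU' h.typeP
  by_cases hU1 : U' = ⊥
  · refine Or.inr (exists_typeIII_or_IV h.minSimple h.coatom hU' hK1 hU1 fun hF => h.U_ne ?_)
    exact eq_bot_of_derived_eq h.typeP.U_compl (by rw [hF, derived_eq_of_bot h.minSimple h.coatom hU' hK1 hU1])
  · exact Or.inl (exists_typeII h.minSimple h.coatom hU' hK1 hU1)

/-- A full member of type P is not of type IV. -/
theorem SideHyp.not_typeIV (h : SideHyp M A U B) (hc : IsCyclic U) : ¬ IsOfTypeIV M := by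
  rintro ⟨A', U', B', hP, -, -, -, hna, -⟩
  refine hna ⟨⟨fun x y => ?_⟩⟩
  haveI := hc
  letI : CommGroup U := IsCyclic.commGroup
  set N := (fittingHallOf M).subgroupOf ⁅M, M⁆
  haveI : N.Normal := subgroupOf_normal_of (h.derived_le.trans h.M_le_normalizer_H)
  set π := QuotientGroup.mk' N
  have hπ : ∀ z : ↥⁅M, M⁆, ∃ c : U, π z = π ⟨(c : G), h.U_le_derived c.2⟩ := fun z => by
    obtain ⟨f, hf, c, hc, e⟩ := h.typeP.U_compl.2.2.2 z z.2
    refine ⟨⟨c, hc⟩, ?_⟩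
    rw [show z = (⟨f, h.H_le_derived hf⟩ : ↥⁅M, M⁆) * ⟨c, h.U_le_derived hc⟩ from Subtype.ext e, map_mul,
      show π ⟨f, h.H_le_derived hf⟩ = 1 from (QuotientGroup.eq_one_iff _).2 (mem_subgroupOf.2 hf), one_mul]
  let X : ↥⁅M, M⁆ := ⟨x, hP.U_compl.2.1 x.2⟩
  let Y : ↥⁅M, M⁆ := ⟨y, hP.U_compl.2.1 y.2⟩
  obtain ⟨a, ha⟩ := hπ X
  obtain ⟨b, hb⟩ := hπ Y
  have h1 : π (X * Y * X⁻¹ * Y⁻¹) = 1 := by
    rw [map_mul, map_mul, map_mul, map_inv, map_inv, ha, hb, ← map_inv, ← map_inv, ← map_mul, ← map_mul, ← map_mul,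
      ← map_one π]
    refine congrArg π (Subtype.ext ?_)
    exact congrArg (fun z : U => (z : G)) (show a * b * a⁻¹ * b⁻¹ = 1 by rw [mul_comm a b]; group)
  have h2 : (x : G) * y * (x : G)⁻¹ * (y : G)⁻¹ = 1 :=
    mem_bot.1 (hP.U_compl.2.2.1.le ⟨mem_subgroupOf.1 ((QuotientGroup.eq_one_iff _).1 h1),
      U'.mul_mem (U'.mul_mem (U'.mul_mem x.2 y.2) (U'.inv_mem x.2)) (U'.inv_mem y.2)⟩)
  exact Subtype.ext (mul_inv_eq_iff_eq_mul.1 (mul_inv_eq_one.1 h2))

variable {S T W₁ W₂ U V : Subgroup G} {χ : (↥(W₁ ⊔ W₂) →* ℂˣ) → (G → ℂ)}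

theorem FullPair.fullP_S (P : FullPair S T W₁ W₂ U V χ) : FullP S W₁ U W₂ := by
  obtain ⟨-, -, h1, h2, -, h3, h4, h5, h6, -⟩ := P.sideS.full_structure P.fullS P.derS
  exact FullP.of_structure P.sideS.p_prime.two_le h1 h2 h3 h4 h5 h6

theorem FullPair.fullP_T (P : FullPair S T W₁ W₂ U V χ) : FullP T W₂ V W₁ := by
  obtain ⟨-, -, h1, h2, -, h3, h4, h5, h6, -⟩ := P.sideT.full_structure P.fullT P.derT
  exact FullP.of_structure P.sideT.p_prime.two_le h1 h2 h3 h4 h5 h6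

/-- The region of a neighbour. -/
theorem NeighbourCtx.hasRegion {L : Subgroup G} (c : NeighbourCtx S T W₁ W₂ U V L) {R : Set G}
    (hR : hitSet (afSet L) (supportR L) ⊆ R) :
    HasRegion R (sigmaHit L) ((sigmaCore L).relIndex L) (Nat.card (sigmaCore L)) := by
  haveI := Fintype.ofFinite L
  obtain ⟨τ₁, ζ, hτ, hζ, hd⟩ := c.exists_region
  exact ⟨afSet L, L, inferInstance, supportR L, kerM L, ⊥, inferInstance, inferInstance, τ₁, ζ, c.regionData, hτ,
    hζ, hd, by rw [sigmaHit, c.afSet_eq], by rw [sigmaHit, ← c.afSet_eq]; exact hR, c.index_kerM,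
    by rw [relIndex_bot_left, c.card_kerM]⟩

/-- Section 7 for a full pair: the bound on a large region of index `p q`. -/
theorem FullPair.pq_bound (P : FullPair S T W₁ W₂ U V χ) {X : Set G} {h : ℕ}
    (hR : HasRegion (fullRest S T W₁ W₂) X (Nat.card W₂ * Nat.card W₁) h)
    (hh : (2 * (Nat.card W₂ * Nat.card W₁) + 1) * Nat.card U ≤ h) :
    ((h : ℝ) - 1) / ((Nat.card W₂ * Nat.card W₁ : ℕ) : ℝ) ≤ 2 + ((Nat.card V : ℝ) - 1) / Nat.card W₂ := by
  haveI := Fintype.ofFinite S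
  haveI := Fintype.ofFinite T
  haveI := Fintype.ofFinite ↥((fittingHallOf S).subgroupOf S)
  haveI := Fintype.ofFinite ↥((fittingHallOf T).subgroupOf T)
  obtain ⟨A, L, _, H, K, N₀, _, _, τ₁, ζ, d, hτ, hζ, hd, rfl, hsub, he, rfl⟩ := hR
  have hW := P.sideS.typeP.selfNormalizing
  have hq3 : 3 ≤ Nat.card W₁ := three_le_card_of_odd P.sideS.minSimple.1 hW.1
  have hp3 : 3 ≤ Nat.card W₂ := three_le_card_of_odd P.sideS.minSimple.1 hW.2.1
  have hu0 : 0 < Nat.card U := Nat.card_pos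
  have hhu : (2 * (Nat.card W₂ * Nat.card W₁) + 1) * 1 ≤ N₀.relIndex K :=
    (Nat.mul_le_mul_left _ hu0).trans hh
  have h1 := region_pq_bound P.ctx P.ctx.tiFacts P.ctx.dadeS P.ctx.dadeT P.u_eq P.v_eq P.nS P.nT P.ctx.rest_int
    hτ d hζ hd hsub he (by nlinarith [Nat.mul_le_mul hp3 hq3]) ?_
  · rwa [he] at h1
  · have hp' : (3 : ℝ) ≤ (Nat.card W₂ : ℝ) := by exact_mod_cast hp3
    have hq' : (3 : ℝ) ≤ (Nat.card W₁ : ℝ) := by exact_mod_cast hq3
    have hu' : (Nat.card W₂ : ℝ) * (Nat.card W₁ : ℝ) + 1 ≤ (Nat.card U : ℝ) := by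
      exact_mod_cast mul_lt_of_full hp3 hq3 P.u_eq
    have hh0 : (2 * ((Nat.card W₂ : ℝ) * (Nat.card W₁ : ℝ)) + 1) * (Nat.card U : ℝ) ≤ (N₀.relIndex K : ℝ) := by
      exact_mod_cast hh
    have h2 : ((Nat.card U : ℝ) - 1) / (Nat.card W₁ : ℝ) ≤ ((Nat.card U : ℝ) - 1) / 3 :=
      div_le_div_of_nonneg_left (by nlinarith) (by norm_num) hq'
    have h3 : (0 : ℝ) < (Nat.card W₂ : ℝ) * (Nat.card W₁ : ℝ) := by nlinarith
    rw [he, Nat.cast_mul]
    refine lt_of_lt_of_le (b := 2 * (Nat.card U : ℝ)) (by nlinarith) ?_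
    rw [le_div_iff₀ h3]
    nlinarith

/-- The neighbours of a full pair. -/
theorem neighbours (P : FullPair S T W₁ W₂ U V χ) : Neighbours S T W₁ W₂ U V := by
  refine ⟨fun hII => ?_⟩
  have hG := P.sideS.minSimple
  have hT23 : IsOfTypeII T ∨ IsOfTypeIII T := by
    rcases P.sideT.type_cases with h | h | h
    · exact Or.inl h
    · exact Or.inr h
    · exact absurd h (P.sideT.not_typeIV P.fullP_T.cyclic)
  obtain ⟨L, c⟩ := exists_neighbour hG P.sideS.coatom P.sideT.coatom P.sideS.typeP P.sideT.typeP hII hT23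
    P.sideS.q_prime P.sideS.p_prime P.fullP_S P.fullP_T
  have hL := c.hasRegion (R := fullRest S T W₁ W₂) (c.hitSet_subset le_rfl le_rfl)
  refine ⟨L, Nat.card (sigmaCore L), c.coatom, c.not_conj_T, ?_⟩
  rcases c.index_cases with he | ⟨he, y, hy, hyL⟩
  · rw [he] at hL
    exact Or.inl ⟨hL, Nat.le_of_dvd Nat.card_pos (card_dvd_of_le c.U_le)⟩
  have hyN : ¬ cj y W₂ ≤ normalizer (U : Set G) := fun hN => by
    obtain ⟨-, -, -, -, -, -, -, -, -, F, _, _, hF, f, ψ, hf, hfadd, hψ, hψmul, hψinj, hW₂⟩ :=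
      P.sideS.full_structure P.fullS P.derS
    exact absurd (c.le_of_normalizes F hF f ψ hf hfadd hψ hψmul hψinj (fun x hx => (hW₂ x hx).1) hy hN)
      (not_le.2 P.lt)
  obtain ⟨hne, hncyc⟩ := c.not_cyclic hyL hyN
  obtain ⟨m, hm, -, hm2⟩ := c.card_sigmaCore he hne
  rw [he, mul_comm (Nat.card W₁)] at hL
  have hh : (2 * (Nat.card W₂ * Nat.card W₁) + 1) * Nat.card U ≤ Nat.card (sigmaCore L) := by
    rw [hm, mul_comm (Nat.card W₂)]
    exact Nat.mul_le_mul_right _ hm2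
  refine Or.inr ⟨hL, hh, fun hTII => ?_⟩
  obtain ⟨M, d⟩ := exists_neighbour hG P.sideT.coatom P.sideS.coatom P.sideT.typeP P.sideS.typeP hTII (Or.inl hII)
    P.sideS.p_prime P.sideS.q_prime P.fullP_T P.fullP_S
  have hsub : hitSet (afSet M) (supportR M) ⊆ fullRest S T W₁ W₂ := fun g hg =>
    let ⟨h1, h2, h3⟩ := d.hitSet_subset (Ns := fittingHallOf T) (Ks := ⊥) (Nt := fittingHallOf S) (Kt := ⊥)
      le_rfl le_rfl hg
    ⟨fun h => h1 (by rwa [tiSet_comm]), h3, h2⟩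
  refine ⟨sigmaHit M, _, _, d.hasRegion hsub, ?_, Nat.le_of_dvd Nat.card_pos (card_dvd_of_le d.U_le), ?_⟩
  · rcases d.index_cases with h | ⟨h, -⟩ <;> rw [h]
    exact Nat.le_mul_of_pos_right _ Nat.card_pos
  -- the two neighbours are not conjugate
  have hnconj : ∀ g : G, M ≠ cj g L := fun g hMg => by
    obtain ⟨e1, e2, -⟩ := c.of_conj d hMg
    have hMσ : sigmaCore M = cj g (sigmaCore L) := by rw [hMg, sigmaCore_cj hG c.coatom]
    have hneV : sigmaCore M ≠ V := fun e => hncyc (by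
      haveI : IsCyclic (sigmaCore M) := e ▸ P.fullP_T.cyclic
      exact isCyclic_of_surjective ((MulEquiv.subgroupCongr hMσ).trans
        (MulEquiv.subgroupMap (MulAut.conj g) (sigmaCore L)).symm) (MulEquiv.surjective _))
    obtain ⟨m', hm', -, hm2'⟩ := d.card_sigmaCore (by rw [e2, he, mul_comm]) hneV
    have hb := P.pq_bound hL hh
    rw [← e1, hm'] at hb
    have hq0 : (3 : ℝ) ≤ (Nat.card W₁ : ℝ) := by exact_mod_cast c.three_le_W₁
    have hp0 : (3 : ℝ) ≤ (Nat.card W₂ : ℝ) := by exact_mod_cast c.three_le_W₂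
    have hm'' : 2 * ((Nat.card W₂ : ℝ) * (Nat.card W₁ : ℝ)) + 1 ≤ (m' : ℝ) := by exact_mod_cast hm2'
    have hv : (2 : ℝ) ≤ (Nat.card V : ℝ) := by
      exact_mod_cast Finite.one_lt_card_iff_nontrivial.2 ((nontrivial_iff_ne_bot V).2 P.sideT.U_ne)
    push_cast at hb
    rw [div_le_iff₀ (by nlinarith), add_mul, div_mul_eq_mul_div, mul_left_comm ((Nat.card V : ℝ) - 1),
      mul_div_cancel_left₀ _ (by linarith : (Nat.card W₂ : ℝ) ≠ 0)] at hb
    have h4 : (2 * ((Nat.card W₂ : ℝ) * (Nat.card W₁ : ℝ)) + 1) * (Nat.card V : ℝ) ≤ (m' : ℝ) * (Nat.card V : ℝ) :=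
      mul_le_mul_of_nonneg_right hm'' (by linarith)
    nlinarith [mul_le_mul_of_nonneg_right hp0 (by linarith : (0 : ℝ) ≤ (Nat.card W₁ : ℝ))]
  intro g h1 h2
  rw [sigmaHit, ← c.afSet_eq] at h1
  rw [sigmaHit, ← d.afSet_eq] at h2
  exact Set.notMem_empty g ((hitSet_disjoint hG c.coatom d.coatom c.isFrob d.isFrob hnconj).le ⟨h1, h2⟩)

end Cfsg.Lib.OddOrder
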