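import Cfsg.Agent.Lib.OddOrder.SideFixed
import Cfsg.Agent.Lib.Char.FT.Tau

/-!
# The bridge of a side

For a side `M`, a linear character `φ` of `N` trivial on `K₀`, invariant under `W₁` and equal on `W₂` to a
nonprincipal column `j`, the function `α = Ind 1 - Ind φ` (from `N W₁` to `M`) is supported in `A₀(M)`; its
image `T` under the Dade map satisfies `⟨T, T⟩ = 2 + (u - 1) / q`, `⟨T, 1⟩ = 1`, and `T + η₀ⱼ` is real.
-/

set_option autoImplicit false
set_option linter.unusedSectionVars false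
set_option linter.style.haveILetI false

namespace Cfsg.Lib.OddOrder

open Cfsg Cfsg.Lib.Char
open scoped ComplexConjugate

universe u'

variable {G : Type u'} [Group G] {M W₁ W₂ N K₀ U : Subgroup G} {u : ℕ}

/-- `φ` is a `W₁`-invariant character of `N / K₀` extending the restriction of the column `j` to `W₂`. -/
structure ColLift (N K₀ : Subgroup G) (j : FT.Col W₁ W₂) (φ : N →* ℂˣ) : Prop where
  trivial : ∀ x : N, (x : G) ∈ K₀ → φ x = 1
  invariant : ∀ w ∈ W₁, InvariantHom N φ w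
  eq_col : ∀ (x : N) (w : ↥(W₁ ⊔ W₂)), (w : G) ∈ W₂ → (x : G) = w → φ x = j.1 w

theorem invariantHom_one (m : G) : InvariantHom N (1 : N →* ℂˣ) m := fun _ _ _ => rfl

/-- The principal column is lifted by the principal character. -/
theorem ColLift.one : ColLift (W₁ := W₁) (W₂ := W₂) N K₀ (FT.col0 W₁ W₂) 1 :=
  ⟨fun _ _ => rfl, fun _ _ => invariantHom_one _, fun _ _ _ _ => rfl⟩

/-- The inverse column. -/
noncomputable def colInv (j : FT.Col W₁ W₂) : FT.Col W₁ W₂ := ⟨j.1⁻¹, fun w hw => by simp [j.2 w hw]⟩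

theorem ColLift.inv {j : FT.Col W₁ W₂} {φ : N →* ℂˣ} (hφ : ColLift N K₀ j φ) :
    ColLift N K₀ (colInv j) φ⁻¹ :=
  ⟨fun x hx => by simp [hφ.trivial x hx], fun w hw x y e => by simp [hφ.invariant w hw x y e],
    fun x w hw e => by simp [colInv, hφ.eq_col x w hw e]⟩

open Classical in
/-- The extension of `φ` to `N W₁`, trivial on `W₁`, and zero elsewhere. -/
noncomputable def sideExt (N W₁ : Subgroup G) (φ : N →* ℂˣ) (g : G) : ℂ :=
  if h : ∃ n : N, (n : G)⁻¹ * g ∈ W₁ then (φ (Classical.choose h) : ℂ) else 0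

/-- The character of `M` induced from `N W₁` by the extension of `φ`. -/
noncomputable def sideNu (M N W₁ : Subgroup G) [Fintype M] (φ : N →* ℂˣ) : M → ℂ :=
  indFun ((N ⊔ W₁).subgroupOf M) fun y => sideExt N W₁ φ ((y : M) : G)

/-- `Ind 1 - Ind φ`. -/
noncomputable def sideAlpha (M N W₁ : Subgroup G) [Fintype M] (φ : N →* ℂˣ) : M → ℂ :=
  sideNu M N W₁ 1 - sideNu M N W₁ φ

/-- The bridge. -/
noncomputable def bridgeT (M N W₁ : Subgroup G) [Fintype M] (φ : N →* ℂˣ) : G → ℂ :=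
  FT.tau M (sideAlpha M N W₁ φ)

/-- `(N ∖ K₀)` and the conjugates in `M` of `W ∖ (W₁ ∪ W₂)`. -/
def bridgeSupp (M W₁ W₂ N K₀ : Subgroup G) : Set G :=
  ((N : Set G) \ (K₀ : Set G)) ∪
    {v | ∃ m ∈ M, ∃ w ∈ W₁ ⊔ W₂, w ∉ W₁ ∧ w ∉ W₂ ∧ v = m * w * m⁻¹}

/-- The member of the dual belonging to a column, on `N`. -/
noncomputable def Side.colHom [Finite G] (h : Side M W₁ W₂ N K₀ u) (j : FT.Col W₁ W₂) : N →* ℂˣ :=
  (h.colDual j).1.comp (Subgroup.subgroupOfEquivOfLe h.N_le).symm.toMonoidHom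

/-- Every column has a lift. -/
theorem Side.colLift_colHom [Finite G] (h : Side M W₁ W₂ N K₀ u) (j : FT.Col W₁ W₂) :
    ColLift N K₀ j (h.colHom j) :=
  ⟨fun x hx => (h.colDual j).2 _ (by simpa using hx),
    fun w hw x y e => h.colDual_fixed j w hw _ _ (by simpa using e),
    fun x w hw e => h.colDual_apply j _ w (by simpa [e] using hw) (by simpa using e.symm)⟩

section Group

variable [Finite G]

theorem Side.W₁_norm (h : Side M W₁ W₂ N K₀ u) : W₁ ≤ Subgroup.normalizer (N : Set G) :=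
  h.W₁_le.trans h.N_normal

theorem Side.disjoint_W₁ (h : Side M W₁ W₂ N K₀ u) : Disjoint N W₁ :=
  Coprime.disjoint_of_coprime_card h.W₁_coprime.symm

theorem Side.sup_le_self (h : Side M W₁ W₂ N K₀ u) : N ⊔ W₁ ≤ M := sup_le h.N_le h.W₁_le

theorem Side.card_sup (h : Side M W₁ W₂ N K₀ u) :
    Nat.card ↥(N ⊔ W₁) = Nat.card N * Nat.card W₁ :=
  Coprime.card_sup_of_disjoint h.W₁_norm h.disjoint_W₁

theorem Side.conj_mem_N (h : Side M W₁ W₂ N K₀ u) {m n : G} (hm : m ∈ M) (hn : n ∈ N) :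
    m * n * m⁻¹ ∈ N := (Subgroup.mem_normalizer_iff.mp (h.N_normal hm) n).mp hn

/-- An element of `N W₁` outside `N` is conjugate into `N W₁` only by elements of `N W₁`. -/
theorem Side.mem_sup_of_conj (h : Side M W₁ W₂ N K₀ u) {y m : G} (hy : y ∈ N ⊔ W₁) (hyN : y ∉ N)
    (hm : m ∈ M) (he : m⁻¹ * y * m ∈ N ⊔ W₁) : m ∈ N ⊔ W₁ := by
  obtain ⟨n, hn, w, hw, rfl⟩ := Coprime.exists_mul_of_mem_sup h.W₁_norm hy
  have hw1 : w ≠ 1 := fun e => hyN (by rw [e, mul_one]; exact hn)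
  have hwm : m⁻¹ * w * m ∈ N ⊔ W₁ := by
    have hnm : m⁻¹ * n * m ∈ N ⊔ W₁ :=
      Subgroup.mem_sup_left (by simpa using h.conj_mem_N (inv_mem hm) hn)
    have := mul_mem (inv_mem hnm) he
    rwa [show (m⁻¹ * n * m)⁻¹ * (m⁻¹ * (n * w) * m) = m⁻¹ * w * m by group] at this
  haveI : Fact (Nat.card W₁).Prime := ⟨h.W₁_prime⟩
  rw [← inv_mem_iff]
  refine h.normalizer_le m⁻¹ (inv_mem hm) fun v hv => ?_
  obtain ⟨k, hk⟩ := Subgroup.mem_zpowers_iff.mp
    (mem_zpowers_of_prime_card rfl (g := (⟨w, hw⟩ : W₁)) (g' := ⟨v, hv⟩)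
      (fun e => hw1 (congrArg Subtype.val e)))
  have hk' : w ^ k = v := by simpa using congrArg Subtype.val hk
  rw [← hk', ← conj_zpow, inv_inv]
  exact zpow_mem hwm k

end Group

section Ext

variable [Finite G] {φ ψ : N →* ℂˣ}

theorem sideExt_mul (h : Side M W₁ W₂ N K₀ u) (φ : N →* ℂˣ) (n : N) {w : G} (hw : w ∈ W₁) :
    sideExt N W₁ φ ((n : G) * w) = φ n := by
  classical
  have hex : ∃ n' : N, (n' : G)⁻¹ * ((n : G) * w) ∈ W₁ := ⟨n, by simpa using hw⟩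
  rw [sideExt, dif_pos hex]
  congr 2
  set n' := Classical.choose hex
  have h1 : (n' : G)⁻¹ * (n : G) ∈ W₁ := by
    have := mul_mem (Classical.choose_spec hex) (inv_mem hw)
    rwa [show (n' : G)⁻¹ * ((n : G) * w) * w⁻¹ = (n' : G)⁻¹ * n by group] at this
  exact Subtype.ext (inv_mul_eq_one.mp (Subgroup.disjoint_def.mp h.disjoint_W₁
    (mul_mem (inv_mem n'.2) n.2) h1))

theorem sideExt_coe (h : Side M W₁ W₂ N K₀ u) (φ : N →* ℂˣ) (n : N) :
    sideExt N W₁ φ (n : G) = φ n := by simpa using sideExt_mul h φ n (one_mem W₁)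

/-- The extension is a homomorphism on `N W₁`. -/
theorem exists_sideHom (h : Side M W₁ W₂ N K₀ u) (hφ : ∀ w ∈ W₁, InvariantHom N φ w) :
    ∃ Φ : ↥((N ⊔ W₁).subgroupOf M) →* ℂˣ, ∀ y, (Φ y : ℂ) = sideExt N W₁ φ ((y : M) : G) := by
  refine ⟨MonoidHom.toHomUnits ⟨⟨fun y => sideExt N W₁ φ ((y : M) : G), ?_⟩, fun y z => ?_⟩, fun y => rfl⟩
  · simpa using sideExt_coe h φ 1
  · obtain ⟨n, hn, w, hw, e⟩ := Coprime.exists_mul_of_mem_sup h.W₁_norm (Subgroup.mem_subgroupOf.mp y.2)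
    obtain ⟨n', hn', w', hw', e'⟩ := Coprime.exists_mul_of_mem_sup h.W₁_norm (Subgroup.mem_subgroupOf.mp z.2)
    have hc : w * n' * w⁻¹ ∈ N := h.conj_mem_N (h.W₁_le hw) hn'
    have e2 : ((((y * z : ↥((N ⊔ W₁).subgroupOf M))) : M) : G) =
        ((⟨n, hn⟩ * ⟨w * n' * w⁻¹, hc⟩ : N) : G) * (w * w') := by
      simp only [Subgroup.coe_mul, e, e']
      group
    show sideExt N W₁ φ _ = sideExt N W₁ φ _ * sideExt N W₁ φ _
    rw [e2, e, e', sideExt_mul h φ _ (mul_mem hw hw'), show n * w = ((⟨n, hn⟩ : N) : G) * w from rfl,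
      show n' * w' = ((⟨n', hn'⟩ : N) : G) * w' from rfl, sideExt_mul h φ _ hw, sideExt_mul h φ _ hw',
      map_mul, hφ w hw ⟨n', hn'⟩ ⟨_, hc⟩ rfl, Units.val_mul]

variable [Fintype M]

theorem sideNu_isCharacter (h : Side M W₁ W₂ N K₀ u) (hφ : ∀ w ∈ W₁, InvariantHom N φ w) :
    IsCharacter M (sideNu M N W₁ φ) := by
  obtain ⟨Φ, hΦ⟩ := exists_sideHom h hφ
  rw [sideNu, ← funext hΦ]
  exact isCharacter_indFun _ (isIrrCharacter_linear Φ).isCharacter

/-- The induced character is a sum over `M`. -/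
theorem sideNu_apply (φ : N →* ℂˣ) (x : M) :
    sideNu M N W₁ φ x = (Nat.card ((N ⊔ W₁).subgroupOf M) : ℂ)⁻¹ *
      ∑ m : M, sideExt N W₁ φ ((m : G)⁻¹ * x * m) := by
  classical
  rw [sideNu, indFun]
  congr 1
  refine Finset.sum_congr rfl fun m _ => ?_
  by_cases hm : m⁻¹ * x * m ∈ (N ⊔ W₁).subgroupOf M
  · rw [extendByZero_of_mem _ _ hm]; rfl
  · rw [extendByZero_of_notMem _ _ hm, sideExt, dif_neg]
    rintro ⟨n, hn⟩
    refine hm (Subgroup.mem_subgroupOf.mpr ?_)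
    have := mul_mem (Subgroup.mem_sup_left n.2 : (n : G) ∈ N ⊔ W₁) (Subgroup.mem_sup_right hn)
    simpa using this

theorem sideExt_conj (h : Side M W₁ W₂ N K₀ u) (hφ : ∀ w ∈ W₁, InvariantHom N φ w) {y m : G}
    (hy : y ∈ N ⊔ W₁) (hm : m ∈ N ⊔ W₁) : sideExt N W₁ φ (m⁻¹ * y * m) = sideExt N W₁ φ y := by
  obtain ⟨Φ, hΦ⟩ := exists_sideHom h hφ
  let y' : ↥((N ⊔ W₁).subgroupOf M) := ⟨⟨y, h.sup_le_self hy⟩, hy⟩
  let m' : ↥((N ⊔ W₁).subgroupOf M) := ⟨⟨m, h.sup_le_self hm⟩, hm⟩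
  show sideExt N W₁ φ (((m'⁻¹ * y' * m' : ↥((N ⊔ W₁).subgroupOf M)) : M) : G) =
    sideExt N W₁ φ ((y' : M) : G)
  rw [← hΦ, ← hΦ, map_mul, map_mul, map_inv, mul_comm (Φ m')⁻¹, inv_mul_cancel_right]

/-- Outside `N` only `N W₁` contributes. -/
theorem sideNu_apply_off (h : Side M W₁ W₂ N K₀ u) (hφ : ∀ w ∈ W₁, InvariantHom N φ w) {y : M}
    (hy : (y : G) ∈ N ⊔ W₁) (hyN : (y : G) ∉ N) : sideNu M N W₁ φ y = sideExt N W₁ φ y := by
  classical
  haveI := Fintype.ofFinite ↥((N ⊔ W₁).subgroupOf M)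
  rw [sideNu_apply, ← Finset.sum_filter_add_sum_filter_not Finset.univ
    (fun m : M => m ∈ (N ⊔ W₁).subgroupOf M)]
  rw [Finset.sum_eq_zero (s := Finset.univ.filter fun m : M => ¬ m ∈ (N ⊔ W₁).subgroupOf M), add_zero]
  · rw [Finset.sum_congr rfl fun m hm => sideExt_conj h hφ hy
      (Subgroup.mem_subgroupOf.mp (Finset.mem_filter.mp hm).2), Finset.sum_const, nsmul_eq_mul,
      ← Fintype.card_subtype, ← Nat.card_eq_fintype_card]
    exact inv_mul_cancel_left₀ (Nat.cast_ne_zero.mpr Nat.card_pos.ne') _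
  · intro m hm
    rw [sideExt, dif_neg]
    rintro ⟨n, hn⟩
    refine (Finset.mem_filter.mp hm).2 (Subgroup.mem_subgroupOf.mpr
      (h.mem_sup_of_conj hy hyN m.2 ?_))
    have := mul_mem (Subgroup.mem_sup_left n.2 : (n : G) ∈ N ⊔ W₁) (Subgroup.mem_sup_right hn)
    simpa using this

/-- On `N` the part outside `N W₁` is what is left. -/
theorem sideNu_apply_N (h : Side M W₁ W₂ N K₀ u) (hφ : ∀ w ∈ W₁, InvariantHom N φ w)
    [DecidablePred fun m : M => m ∈ (N ⊔ W₁).subgroupOf M] {y : M} (hyN : (y : G) ∈ N) :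
    sideNu M N W₁ φ y = sideExt N W₁ φ y + (Nat.card ((N ⊔ W₁).subgroupOf M) : ℂ)⁻¹ *
      ∑ m ∈ Finset.univ.filter (fun m : M => ¬ m ∈ (N ⊔ W₁).subgroupOf M),
        sideExt N W₁ φ ((m : G)⁻¹ * y * m) := by
  classical
  haveI := Fintype.ofFinite ↥((N ⊔ W₁).subgroupOf M)
  rw [sideNu_apply, ← Finset.sum_filter_add_sum_filter_not Finset.univ
    (fun m : M => m ∈ (N ⊔ W₁).subgroupOf M), mul_add]
  congr 1
  rw [Finset.sum_congr rfl fun m hm => sideExt_conj h hφ (Subgroup.mem_sup_left hyN)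
    (Subgroup.mem_subgroupOf.mp (Finset.mem_filter.mp hm).2), Finset.sum_const, nsmul_eq_mul,
    ← Fintype.card_subtype, ← Nat.card_eq_fintype_card]
  exact inv_mul_cancel_left₀ (Nat.cast_ne_zero.mpr Nat.card_pos.ne') _

end Ext

section Inner

variable [Finite G] [Fintype M] {φ ψ : N →* ℂˣ}

/-- A nonprincipal lift is conjugate to no other invariant character outside `N W₁`. -/
theorem invariant_ne_conj (h : Side M W₁ W₂ N K₀ u) (hK : ∀ x : N, (x : G) ∈ K₀ → φ x = 1) (hφ1 : φ ≠ 1)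
    (hφ : ∀ w ∈ W₁, InvariantHom N φ w) (hψ : ∀ w ∈ W₁, InvariantHom N ψ w) {m : G} (hm : m ∈ M)
    (hm' : m ∉ N ⊔ W₁) : ∃ x y : N, (y : G) = m⁻¹ * x * m ∧ φ x ≠ ψ y := by
  by_contra hc
  push Not at hc
  refine hm' (h.normalizer_le m hm fun w hw => ?_)
  have hwM : m * w * m⁻¹ ∈ M := mul_mem (mul_mem hm (h.W₁_le hw)) (inv_mem hm)
  refine h.stab φ hK hφ1 hφ _ hwM fun x y e => ?_
  have hx : m⁻¹ * (x : G) * m ∈ N := by simpa using h.conj_mem_N (inv_mem hm) x.2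
  have hy : m⁻¹ * (y : G) * m ∈ N := by simpa using h.conj_mem_N (inv_mem hm) y.2
  rw [hc x ⟨_, hx⟩ rfl, hc y ⟨_, hy⟩ rfl]
  exact hψ w hw _ _ (by simp only [e]; group)

theorem sum_hom_coe [Fintype N] [DecidableEq (N →* ℂˣ)] (χ : N →* ℂˣ) :
    ∑ n : N, (χ n : ℂ) = if χ = 1 then (Nat.card N : ℂ) else 0 := by
  have h1 := sum_hom_units_eq_zero (f := (Units.coeHom ℂ).comp χ)
  split_ifs with e
  · simp [e, Nat.card_eq_fintype_card]
  · refine h1 fun e' => e (MonoidHom.ext fun x => Units.ext ?_)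
    simpa using DFunLike.congr_fun e' x

theorem conj_hom_apply {X : Type u'} [Group X] [Finite X] (χ : X →* ℂˣ) (x : X) :
    conj ((χ x : ℂˣ) : ℂ) = (χ x⁻¹ : ℂ) :=
  ((isIrrCharacter_linear χ).isCharacter.apply_inv x).symm

/-- The inner product of two induced characters. -/
theorem sideNu_inner (h : Side M W₁ W₂ N K₀ u) (hφ : ∀ w ∈ W₁, InvariantHom N φ w)
    (hψ : ∀ w ∈ W₁, InvariantHom N ψ w) [DecidableEq (N →* ℂˣ)] {c : ℂ}
    (hc : ∀ m : M, (m : G) ∉ N ⊔ W₁ → ∀ χ : N →* ℂˣ,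
      (∀ x y : N, (y : G) = (m : G)⁻¹ * x * m → χ x = φ x * (ψ y)⁻¹) → (if χ = 1 then 1 else 0 : ℂ) = c) :
    classInner (sideNu M N W₁ φ) (sideNu M N W₁ ψ) =
      (if φ = ψ then 1 else 0) + c * (((u : ℂ) - 1) / Nat.card W₁) := by
  classical
  set H := (N ⊔ W₁).subgroupOf M with hH
  haveI := Fintype.ofFinite H
  haveI := Fintype.ofFinite N
  obtain ⟨Φ, hΦ⟩ := exists_sideHom h hφ
  obtain ⟨Ψ, hΨ⟩ := exists_sideHom h hψ
  have hcf := (sideNu_isCharacter h hψ).isClassFunction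
  rw [sideNu, classInner_indFun _ _ hcf]
  -- split the value of the second character
  let R : H → ℂ := fun y => sideNu M N W₁ ψ (y : M) - (Ψ y : ℂ)
  have hsplit : (fun y : H => sideNu M N W₁ ψ (y : M)) = (fun y => (Ψ y : ℂ)) + R :=
    funext fun y => by simp [R]
  rw [hsplit, classInner_add_right, ← funext hΦ]
  have h1 : classInner (fun y => (Φ y : ℂ)) (fun y => (Ψ y : ℂ)) = if φ = ψ then 1 else 0 := by
    rw [classInner_irr (isIrrCharacter_linear Φ) (isIrrCharacter_linear Ψ)]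
    refine if_congr ⟨fun e => MonoidHom.ext fun n => Units.ext ?_, fun e => ?_⟩ rfl rfl
    · let y : H := ⟨⟨n, h.N_le n.2⟩, Subgroup.mem_subgroupOf.mpr (Subgroup.mem_sup_left n.2)⟩
      have := congrFun e y
      simp only [hΦ, hΨ, y, sideExt_coe h] at this
      exact this
    · subst e
      exact funext fun y => by rw [hΦ, hΨ]
  rw [h1]
  congr 1
  -- only `N` is left
  have hR : ∀ y : H, ((y : M) : G) ∉ N → R y = 0 := fun y hy => by
    simp [R, hΨ, sideNu_apply_off h hψ (Subgroup.mem_subgroupOf.mp y.2) hy]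
  let ι : N → H := fun n => ⟨⟨n, h.N_le n.2⟩, Subgroup.mem_subgroupOf.mpr (Subgroup.mem_sup_left n.2)⟩
  have hι : Function.Injective ι := fun a b e => Subtype.ext (congrArg (fun t : H => ((t : M) : G)) e)
  have hsum : ∑ y : H, (Φ y : ℂ) * conj (R y) = ∑ n : N, (φ n : ℂ) * conj (R (ι n)) := by
    refine (Finset.sum_of_injOn ι hι.injOn (by simp) ?_ ?_).symm
    · intro y _ hy
      rw [hR y fun hyN => hy ⟨⟨_, hyN⟩, by simp, rfl⟩, map_zero, mul_zero]
    · intro n _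
      show (φ n : ℂ) * _ = _
      rw [hΦ]
      simp only [ι, sideExt_coe h]
  rw [classInner, hsum]
  have hRn : ∀ n : N, R (ι n) = (Nat.card H : ℂ)⁻¹ *
      ∑ m ∈ Finset.univ.filter (fun m : M => ¬ m ∈ H), sideExt N W₁ ψ ((m : G)⁻¹ * n * m) := fun n => by
    simp only [R, hΨ, ι]
    rw [sideNu_apply_N h hψ (y := ⟨(n : G), h.N_le n.2⟩) n.2]
    ring
  have hinner : ∀ m : M, m ∉ H →
      ∑ n : N, (φ n : ℂ) * conj (sideExt N W₁ ψ ((m : G)⁻¹ * n * m)) = c * Nat.card N := by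
    intro m hm
    have hmem : ∀ n : N, (m : G)⁻¹ * n * m ∈ N := fun n => by
      simpa using h.conj_mem_N (inv_mem m.2) n.2
    let χ : N →* ℂˣ :=
      { toFun := fun n => φ n * (ψ ⟨_, hmem n⟩)⁻¹
        map_one' := by
          rw [map_one, one_mul, inv_eq_one, show (⟨(m : G)⁻¹ * ↑(1 : N) * m, hmem 1⟩ : N) = 1 from
            Subtype.ext (by simp), map_one]
        map_mul' := fun a b => by
          rw [show (⟨(m : G)⁻¹ * ↑(a * b) * m, hmem _⟩ : N) = ⟨_, hmem a⟩ * ⟨_, hmem b⟩ from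
            Subtype.ext (by simp [mul_assoc]), map_mul, map_mul, mul_inv, mul_mul_mul_comm] }
    rw [← hc m (fun e => hm (Subgroup.mem_subgroupOf.mpr e)) χ
      (fun x y e => by rw [show y = ⟨_, hmem x⟩ from Subtype.ext e]; rfl),
      ite_mul, one_mul, zero_mul, ← sum_hom_coe χ]
    refine Finset.sum_congr rfl fun n _ => ?_
    rw [show (m : G)⁻¹ * (n : G) * m = ((⟨_, hmem n⟩ : N) : G) from rfl, sideExt_coe h ψ, conj_hom_apply,
      map_inv]
    simp [χ]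
  simp only [hRn, map_mul, map_inv₀, Complex.conj_natCast, map_sum]
  rw [Finset.sum_congr rfl fun n _ => (show (φ n : ℂ) * ((Nat.card H : ℂ)⁻¹ * _) =
    (Nat.card H : ℂ)⁻¹ * ((φ n : ℂ) * _) from mul_left_comm _ _ _), ← Finset.mul_sum]
  simp only [Finset.mul_sum (Finset.univ.filter _) _ (φ _ : ℂ)]
  rw [Finset.sum_comm, Finset.sum_congr rfl fun m hm => hinner m (Finset.mem_filter.mp hm).2,
    Finset.sum_const, nsmul_eq_mul]
  have hcH : Nat.card H = Nat.card N * Nat.card W₁ := by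
    rw [Nat.card_congr (Subgroup.subgroupOfEquivOfLe h.sup_le_self).toEquiv, h.card_sup]
  have hcount : ((Finset.univ.filter fun m : M => ¬ m ∈ H).card : ℂ) =
      (u : ℂ) * Nat.card H - Nat.card H := by
    have h2 := Finset.card_filter_add_card_filter_not (s := (Finset.univ : Finset M))
      (fun m : M => m ∈ H)
    rw [Finset.card_univ, ← Fintype.card_subtype, ← Nat.card_eq_fintype_card,
      ← Nat.card_eq_fintype_card, h.card_eq] at h2
    have h3 := congrArg (Nat.cast : ℕ → ℂ) h2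
    rw [hcH] at h3 ⊢
    push_cast at h3 ⊢
    linear_combination h3
  rw [hcount, hcH]
  have hN0 : (Nat.card N : ℂ) ≠ 0 := Nat.cast_ne_zero.mpr Nat.card_pos.ne'
  have hW0 : (Nat.card W₁ : ℂ) ≠ 0 := Nat.cast_ne_zero.mpr Nat.card_pos.ne'
  push_cast
  field_simp

/-- `⟨Ind φ, Ind ψ⟩` when one of them is not principal. -/
theorem sideNu_inner_of_ne (h : Side M W₁ W₂ N K₀ u) (hKφ : ∀ x : N, (x : G) ∈ K₀ → φ x = 1)
    (hφ : ∀ w ∈ W₁, InvariantHom N φ w)
    (hψ : ∀ w ∈ W₁, InvariantHom N ψ w) (hne : ¬ (φ = 1 ∧ ψ = 1)) [DecidableEq (N →* ℂˣ)] :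
    classInner (sideNu M N W₁ φ) (sideNu M N W₁ ψ) = if φ = ψ then 1 else 0 := by
  rw [sideNu_inner h hφ hψ (c := 0) fun m hm χ hχ => ?_, zero_mul, add_zero]
  rw [if_neg]
  intro hχ1
  subst hχ1
  have heq : ∀ x y : N, (y : G) = (m : G)⁻¹ * x * m → φ x = ψ y := fun x y e => by
    have := hχ x y e
    rwa [MonoidHom.one_apply, eq_comm, mul_inv_eq_one] at this
  by_cases hφ1 : φ = 1
  · have hψ1 : ψ ≠ 1 := fun e => hne ⟨hφ1, e⟩
    refine hψ1 (MonoidHom.ext fun y => ?_)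
    have hx : (m : G) * y * (m : G)⁻¹ ∈ N := h.conj_mem_N m.2 y.2
    rw [← heq ⟨_, hx⟩ y (by simp [mul_assoc]), hφ1]
    rfl
  · obtain ⟨x, y, e, hxy⟩ := invariant_ne_conj h hKφ hφ1 hφ hψ m.2 hm
    exact hxy (heq x y e)

theorem sideNu_one_norm (h : Side M W₁ W₂ N K₀ u) :
    classInner (sideNu M N W₁ (1 : N →* ℂˣ)) (sideNu M N W₁ 1) = 1 + ((u : ℂ) - 1) / Nat.card W₁ := by
  classical
  rw [sideNu_inner h (fun w _ => invariantHom_one w) (fun w _ => invariantHom_one w) (c := 1)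
    fun m hm χ hχ => ?_, if_pos rfl, one_mul]
  rw [if_pos]
  refine MonoidHom.ext fun x => ?_
  rw [hχ x ⟨(m : G)⁻¹ * x * m, by simpa using h.conj_mem_N (inv_mem m.2) x.2⟩ rfl]
  simp

theorem sideNu_one (h : Side M W₁ W₂ N K₀ u) (hφ : ∀ w ∈ W₁, InvariantHom N φ w)
    [DecidableEq (N →* ℂˣ)] :
    classInner (sideNu M N W₁ φ) (fun _ => 1) = if φ = 1 then 1 else 0 := by
  classical
  haveI := Fintype.ofFinite ↥((N ⊔ W₁).subgroupOf M)
  obtain ⟨Φ, hΦ⟩ := exists_sideHom h hφ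
  rw [sideNu, classInner_indFun _ _ isIrrCharacter_one.isClassFunction, ← funext hΦ,
    classInner_irr (isIrrCharacter_linear Φ) isIrrCharacter_one]
  refine if_congr ⟨fun e => MonoidHom.ext fun n => Units.ext ?_, fun e => ?_⟩ rfl rfl
  · have := congrFun e ⟨⟨n, h.N_le n.2⟩, Subgroup.mem_subgroupOf.mpr (Subgroup.mem_sup_left n.2)⟩
    simp only [hΦ, sideExt_coe h] at this
    simpa using this
  · funext y
    obtain ⟨n, hn, w, hw, ey⟩ := Coprime.exists_mul_of_mem_sup h.W₁_norm (Subgroup.mem_subgroupOf.mp y.2)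
    rw [hΦ, ey, show n * w = ((⟨n, hn⟩ : N) : G) * w from rfl, sideExt_mul h φ _ hw, e]
    simp

end Inner

section Values

variable [Finite G] [Fintype M] {φ : N →* ℂˣ} {j : FT.Col W₁ W₂}

/-- A lift of a nonprincipal column is nonprincipal. -/
theorem ColLift.ne_one (h : Side M W₁ W₂ N K₀ u) (hφ : ColLift N K₀ j φ) (hW : IsSelfNormalizingCyclic W₁ W₂)
    (hj : j ≠ FT.col0 W₁ W₂) : φ ≠ 1 := by
  intro e
  refine hj (Subtype.ext (MonoidHom.ext fun v => ?_))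
  obtain ⟨p, q, hp, hq, hpq, -, -⟩ := cti_exists_proj hW.2.2.1 hW.2.2.2.1
  rw [← hpq v, map_mul, j.2 _ (hp v), one_mul, ← hφ.eq_col ⟨_, h.W₂_le (hq v)⟩ (q v) (hq v) rfl, e]
  rfl

/-- Lifts of distinct columns are distinct. -/
theorem ColLift.ne {k : FT.Col W₁ W₂} {ψ : N →* ℂˣ} (h : Side M W₁ W₂ N K₀ u) (hφ : ColLift N K₀ j φ)
    (hψ : ColLift N K₀ k ψ) (hW : IsSelfNormalizingCyclic W₁ W₂) (hjk : j ≠ k) : φ ≠ ψ := by
  intro e
  refine hjk (Subtype.ext (MonoidHom.ext fun v => ?_))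
  obtain ⟨p, q, hp, hq, hpq, -, -⟩ := cti_exists_proj hW.2.2.1 hW.2.2.2.1
  rw [← hpq v, map_mul, map_mul, j.2 _ (hp v), k.2 _ (hp v),
    ← hφ.eq_col ⟨_, h.W₂_le (hq v)⟩ (q v) (hq v) rfl, ← hψ.eq_col ⟨_, h.W₂_le (hq v)⟩ (q v) (hq v) rfl, e]

/-- On `W ∖ (W₁ ∪ W₂)` the induced character is the column. -/
theorem sideNu_apply_W (h : Side M W₁ W₂ N K₀ u) (hφ : ColLift N K₀ j φ) (hW : IsSelfNormalizingCyclic W₁ W₂)
    (v : ↥(W₁ ⊔ W₂)) (hv : (v : G) ∉ W₂) (hvM : (v : G) ∈ M) :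
    sideNu M N W₁ φ ⟨v, hvM⟩ = (j.1 v : ℂ) := by
  obtain ⟨p, q, hp, hq, hpq, -, -⟩ := cti_exists_proj hW.2.2.1 hW.2.2.2.1
  have hqN : (q v : G) ∈ N := h.W₂_le (hq v)
  have he : (v : G) = (q v : G) * p v := by
    rw [← hW.2.2.2.1 _ (hp v) _ (hq v)]
    exact (congrArg Subtype.val (hpq v)).symm
  have hmem : (v : G) ∈ N ⊔ W₁ := he ▸ mul_mem (Subgroup.mem_sup_left hqN) (Subgroup.mem_sup_right (hp v))
  have hN : (v : G) ∉ N := fun hvN => by
    have h1 : (p v : G) ∈ N := by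
      rw [show (p v : G) = (q v : G)⁻¹ * v by rw [he, inv_mul_cancel_left]]
      exact mul_mem (inv_mem hqN) hvN
    exact hv (by rw [he, Subgroup.disjoint_def.mp h.disjoint_W₁ h1 (hp v), mul_one]; exact hq v)
  rw [sideNu_apply_off h hφ.invariant (y := ⟨(v : G), hvM⟩) hmem hN]
  show sideExt N W₁ φ (v : G) = _
  rw [he, show (q v : G) = ((⟨_, hqN⟩ : N) : G) from rfl, sideExt_mul h φ _ (hp v),
    hφ.eq_col ⟨_, hqN⟩ (q v) (hq v) rfl]
  conv_rhs => rw [← hpq v, map_mul, j.2 _ (hp v), one_mul]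

/-- `Ind 1 - Ind φ` vanishes off `(N ∖ K₀)` and the conjugates of `W ∖ (W₁ ∪ W₂)`. -/
theorem sideAlpha_supp (h : Side M W₁ W₂ N K₀ u) (hφ : ColLift N K₀ j φ) {x : M}
    (hx : (x : G) ∉ bridgeSupp M W₁ W₂ N K₀) : sideAlpha M N W₁ φ x = 0 := by
  classical
  rw [sideAlpha, Pi.sub_apply, sideNu_apply, sideNu_apply, ← mul_sub, ← Finset.sum_sub_distrib,
    Finset.sum_eq_zero, mul_zero]
  intro m _
  by_contra hne
  set y : G := (m : G)⁻¹ * x * m with hy
  have hxy : (x : G) = (m : G) * y * (m : G)⁻¹ := by rw [hy]; group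
  by_cases hex : ∃ n : N, (n : G)⁻¹ * y ∈ W₁
  swap
  · exact hne (by simp only [sideExt, dif_neg hex, sub_self])
  obtain ⟨n, hn⟩ := hex
  obtain ⟨w, hw, hyw⟩ : ∃ w ∈ W₁, y = (n : G) * w := ⟨_, hn, by group⟩
  rw [hyw, sideExt_mul h _ _ hw, sideExt_mul h _ _ hw, sub_eq_zero] at hne
  rw [hyw] at hxy
  have hφn : φ n ≠ 1 := fun e => hne (by simp [e])
  by_cases hw1 : w = 1
  · refine hx (Or.inl ?_)
    rw [hxy, hw1, mul_one]
    refine ⟨h.conj_mem_N m.2 n.2, fun hK => hφn (hφ.trivial n ?_)⟩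
    have := (Subgroup.mem_normalizer_iff.mp (h.K₀_normal (inv_mem m.2)) _).mp hK
    simpa [mul_assoc] using this
  · obtain ⟨z, hz, c, hc, hcw, e⟩ := exists_conj_coset_centralizer N (g := w) (h.W₁_norm hw)
      (h.W₁_coprime.coprime_dvd_left (Subgroup.orderOf_dvd_natCard _ hw)) n.2
    have hc2 : c ∈ W₂ := (h.centralizer_eq w hw hw1).le ⟨hc, Subgroup.mem_centralizer_singleton_iff.mpr hcw⟩
    -- the character does not change
    have hφc : (φ ⟨c, hc⟩ : ℂ) = φ n := by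
      have hzS : z⁻¹ ∈ N ⊔ W₁ := Subgroup.mem_sup_left (inv_mem hz)
      have hnw : (n : G) * w ∈ N ⊔ W₁ := mul_mem (Subgroup.mem_sup_left n.2) (Subgroup.mem_sup_right hw)
      have := sideExt_conj h hφ.invariant hnw hzS
      rw [inv_inv, e, sideExt_mul h φ n hw, show c * w = ((⟨c, hc⟩ : N) : G) * w from rfl,
        sideExt_mul h φ _ hw] at this
      exact this
    have hc1 : c ≠ 1 := fun e1 => hφn (Units.ext (by
      rw [← hφc, show (⟨c, hc⟩ : N) = 1 from Subtype.ext e1, map_one]))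
    refine hx (Or.inr ⟨(m : G) * z⁻¹, mul_mem m.2 (inv_mem (h.N_le hz)), c * w,
      mul_mem (Subgroup.mem_sup_right hc2) (Subgroup.mem_sup_left hw), fun hcw1 => ?_, fun hcw2 => ?_, ?_⟩)
    · exact hc1 (Subgroup.disjoint_def.mp h.disjoint_W₁ hc ((W₁.mul_mem_cancel_right hw).mp hcw1))
    · exact hw1 (Subgroup.disjoint_def.mp h.disjoint_W₁
        (h.W₂_le ((W₂.mul_mem_cancel_left hc2).mp hcw2)) hw)
    · rw [hxy, ← e]; group

end Values

section Tau

variable [Fintype G] [Fintype M] {χ : (↥(W₁ ⊔ W₂) →* ℂˣ) → (G → ℂ)} {φ ψ : N →* ℂˣ}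
  {j k : FT.Col W₁ W₂}

theorem tau_sub (α β : M → ℂ) : FT.tau M (α - β) = FT.tau M α - FT.tau M β := by
  funext g
  simp only [FT.tau, dadeIsometry, Pi.sub_apply]
  split_ifs <;> simp

theorem not_typeI_of_typePWith (hG : Cfsg.IsMinSimpleOddOrder G) (hM : IsCoatom M)
    (hP : Cfsg.IsTypePWith M W₁ U W₂) : ¬ Cfsg.IsOfTypeI M := fun hI => by
  obtain ⟨K, V, hd⟩ := Cfsg.Lib.Local.Sigma.exists_decomposition hG hM
  exact Cfsg.Lib.Local.Sigma.ne_bot_of_typeP hG hM hd hP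
    (Cfsg.Lib.Local.Sigma.eq_bot_of_typeI hG hM hd hI).1

theorem dade_A0 (hG : Cfsg.IsMinSimpleOddOrder G) (hM : IsCoatom M) :
    DadeHypothesis (Cfsg.typeA0 M) M (Cfsg.supportR M) :=
  (Cfsg.Agent.S1537.result hG M hM _ (Or.inr (Or.inr rfl))).2

theorem bridgeSupp_subset (hG : Cfsg.IsMinSimpleOddOrder G) (hM : IsCoatom M)
    (hP : Cfsg.IsTypePWith M W₁ U W₂) (h : Side M W₁ W₂ N K₀ u) :
    bridgeSupp M W₁ W₂ N K₀ ⊆ Cfsg.typeA0 M := by
  rintro v (hv | ⟨m, hm, w, hw, h1, h2, rfl⟩)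
  · exact h.subset_A0 hv
  · exact Or.inr ⟨not_typeI_of_typePWith hG hM hP, W₁, U, W₂, hP, m, hm, w, hw, h1, h2, rfl⟩

theorem sideAlpha_supp_A0 (hG : Cfsg.IsMinSimpleOddOrder G) (hM : IsCoatom M)
    (hP : Cfsg.IsTypePWith M W₁ U W₂) (h : Side M W₁ W₂ N K₀ u) (hφ : ColLift N K₀ j φ) (x : M)
    (hx : (x : G) ∉ Cfsg.typeA0 M) : sideAlpha M N W₁ φ x = 0 :=
  sideAlpha_supp h hφ fun hs => hx (bridgeSupp_subset hG hM hP h hs)

theorem sideAlpha_gen (h : Side M W₁ W₂ N K₀ u) (hφ : ColLift N K₀ j φ) :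
    IsGeneralizedCharacter M (sideAlpha M N W₁ φ) :=
  (sideNu_isCharacter h fun _ _ => invariantHom_one _).isGeneralized.sub
    (sideNu_isCharacter h hφ.invariant).isGeneralized

theorem bridgeT_gen (hG : Cfsg.IsMinSimpleOddOrder G) (hM : IsCoatom M) (hP : Cfsg.IsTypePWith M W₁ U W₂)
    (h : Side M W₁ W₂ N K₀ u) (hφ : ColLift N K₀ j φ) :
    IsGeneralizedCharacter G (bridgeT M N W₁ φ) :=
  isGeneralizedCharacter_dadeIsometry (dade_A0 hG hM) (sideAlpha_gen h hφ)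
    (sideAlpha_supp_A0 hG hM hP h hφ)

/-- The bridge vanishes off the Dade closure of its support. -/
theorem bridgeT_eq_zero (hG : Cfsg.IsMinSimpleOddOrder G) (hM : IsCoatom M) (h : Side M W₁ W₂ N K₀ u)
    (hφ : ColLift N K₀ j φ) {g : G} (hg : g ∉ Cfsg.tildeOf M (bridgeSupp M W₁ W₂ N K₀)) :
    bridgeT M N W₁ φ g = 0 := by
  classical
  show dadeIsometry _ _ _ _ g = 0
  by_cases hex : ∃ a : M, (a : G) ∈ Cfsg.typeA0 M ∧
      ∃ x : G, ∃ r ∈ Cfsg.supportR M (a : G), x * g * x⁻¹ = (a : G) * r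
  · obtain ⟨a, ha, x, r, hr, e⟩ := hex
    rw [dadeIsometry_eq (dade_A0 hG hM) (sideAlpha_gen h hφ).isClassFunction ha hr e]
    refine sideAlpha_supp h hφ fun hs => hg ⟨a, hs, r, hr, x⁻¹, ?_⟩
    rw [← e]; group
  · exact dadeIsometry_eq_zero fun a ha x r hr e => hex ⟨a, ha, x, r, hr, e⟩

theorem bridgeT_norm (hG : Cfsg.IsMinSimpleOddOrder G) (hM : IsCoatom M) (hP : Cfsg.IsTypePWith M W₁ U W₂)
    (h : Side M W₁ W₂ N K₀ u) (hφ : ColLift N K₀ j φ) (hj : j ≠ FT.col0 W₁ W₂) :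
    classInner (bridgeT M N W₁ φ) (bridgeT M N W₁ φ) = 2 + ((u : ℂ) - 1) / Nat.card W₁ := by
  classical
  have hc := (sideAlpha_gen h hφ).isClassFunction
  have hφ1 := hφ.ne_one h hP.selfNormalizing hj
  have h1 : ∀ x : N, (x : G) ∈ K₀ → (1 : N →* ℂˣ) x = 1 := fun _ _ => rfl
  rw [bridgeT, FT.tau, classInner_dadeIsometry_dadeIsometry (dade_A0 hG hM) hc
    (sideAlpha_supp_A0 hG hM hP h hφ) hc, sideAlpha, classInner_sub_left, classInner_sub_right,
    classInner_sub_right, sideNu_one_norm h,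
    sideNu_inner_of_ne h h1 (fun w _ => invariantHom_one w) hφ.invariant fun e => hφ1 e.2,
    sideNu_inner_of_ne h hφ.trivial hφ.invariant (fun w _ => invariantHom_one w) fun e => hφ1 e.1,
    sideNu_inner_of_ne h hφ.trivial hφ.invariant hφ.invariant fun e => hφ1 e.1,
    if_neg (Ne.symm hφ1), if_neg hφ1, if_pos rfl]
  ring

theorem bridgeT_one (hG : Cfsg.IsMinSimpleOddOrder G) (hM : IsCoatom M) (hP : Cfsg.IsTypePWith M W₁ U W₂)
    (h : Side M W₁ W₂ N K₀ u) (hφ : ColLift N K₀ j φ) (hj : j ≠ FT.col0 W₁ W₂) :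
    classInner (bridgeT M N W₁ φ) (fun _ => 1) = 1 := by
  classical
  have hc := (sideAlpha_gen h hφ).isClassFunction
  have hsupp := sideAlpha_supp_A0 hG hM hP h hφ
  rw [bridgeT, FT.tau, FT.classInner_dade_proj (dade_A0 hG hM) hc hsupp isIrrCharacter_one.isClassFunction]
  have e : classInner (sideAlpha M N W₁ φ) (FT.dadeProj (Cfsg.typeA0 M) M (Cfsg.supportR M) fun _ => 1) =
      classInner (sideAlpha M N W₁ φ) (fun _ => 1) := by
    unfold classInner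
    congr 1
    refine Finset.sum_congr rfl fun a _ => ?_
    by_cases ha : (a : G) ∈ Cfsg.typeA0 M
    · rw [FT.dadeProj_one ha]
    · rw [hsupp a ha, zero_mul, zero_mul]
  rw [e, sideAlpha, classInner_sub_left, sideNu_one h (fun w _ => invariantHom_one w), sideNu_one h hφ.invariant,
    if_pos rfl, if_neg (hφ.ne_one h hP.selfNormalizing hj)]
  ring

/-- The Dade image of a difference of two induced characters. -/
theorem tau_nu_sub (hG : Cfsg.IsMinSimpleOddOrder G) (hM : IsCoatom M) (hP : Cfsg.IsTypePWith M W₁ U W₂)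
    (h : Side M W₁ W₂ N K₀ u) (hχ : IsCyclicTIFamily W₁ W₂ χ) (hφ : ColLift N K₀ j φ)
    (hψ : ColLift N K₀ k ψ) (hj : j ≠ FT.col0 W₁ W₂) (hk : k ≠ FT.col0 W₁ W₂) (hjk : j ≠ k) :
    FT.tau M (sideNu M N W₁ φ - sideNu M N W₁ ψ) =
      FT.eta χ (FT.row0 W₁ W₂) j - FT.eta χ (FT.row0 W₁ W₂) k := by
  classical
  have hW := hP.selfNormalizing
  set i := FT.row0 W₁ W₂
  set α := sideNu M N W₁ φ - sideNu M N W₁ ψ with hαdef
  have hαe : α = sideAlpha M N W₁ ψ - sideAlpha M N W₁ φ := by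
    simp only [hαdef, sideAlpha]; abel
  have hsupp : ∀ x : M, (x : G) ∉ Cfsg.typeA0 M → α x = 0 := fun x hx => by
    rw [hαe, Pi.sub_apply, sideAlpha_supp_A0 hG hM hP h hψ x hx, sideAlpha_supp_A0 hG hM hP h hφ x hx, sub_zero]
  have hgen0 : IsGeneralizedCharacter M α :=
    (sideNu_isCharacter h hφ.invariant).isGeneralized.sub (sideNu_isCharacter h hψ.invariant).isGeneralized
  have hαc := hgen0.isClassFunction
  have hD := dade_A0 hG hM
  haveI := FT.finite_hom (G := G) hW.2.2.2.2.1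
  letI : Fintype (FT.Col W₁ W₂) := Fintype.ofFinite _
  letI : Fintype (FT.Row W₁ W₂) := Fintype.ofFinite _
  have hgen : IsGeneralizedCharacter G (FT.tau M α) := isGeneralizedCharacter_dadeIsometry hD hgen0 hsupp
  have hN : classInner (FT.tau M α) (FT.tau M α) = 2 := by
    have hφ1 := hφ.ne_one h hW hj
    have hψ1 := hψ.ne_one h hW hk
    have hne := hφ.ne h hψ hW hjk
    rw [FT.tau, classInner_dadeIsometry_dadeIsometry hD hαc hsupp hαc, hαdef, classInner_sub_left,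
      classInner_sub_right, classInner_sub_right,
      sideNu_inner_of_ne h hφ.trivial hφ.invariant hφ.invariant fun e => hφ1 e.1,
      sideNu_inner_of_ne h hφ.trivial hφ.invariant hψ.invariant fun e => hφ1 e.1,
      sideNu_inner_of_ne h hψ.trivial hψ.invariant hφ.invariant fun e => hψ1 e.1,
      sideNu_inner_of_ne h hψ.trivial hψ.invariant hψ.invariant fun e => hψ1 e.1,
      if_pos rfl, if_neg hne, if_neg hne.symm, if_pos rfl]
    norm_num
  set B : G → ℂ := FT.eta χ i j - FT.eta χ i k with hB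
  have hBgen : IsGeneralizedCharacter G B := (FT.eta_gen hχ i j).sub (FT.eta_gen hχ i k)
  have hV : ∀ w : ↥(W₁ ⊔ W₂), (w : G) ∉ W₁ → (w : G) ∉ W₂ → (FT.tau M α - B) w = 0 := by
    intro w h1 h2
    let x : M := ⟨w, FT.sup_le_of_typeP hP w.2⟩
    have hx : (x : G) ∈ Cfsg.typeA0 M :=
      bridgeSupp_subset hG hM hP h (Or.inr ⟨1, one_mem M, w, w.2, h1, h2, by simp [x]⟩)
    rw [Pi.sub_apply, show FT.tau M α (w : G) = α x from
      dadeIsometry_eq hD hαc hx (x := 1) (u := 1) (one_mem _) (by simp [x])]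
    simp only [hαdef, hB, Pi.sub_apply]
    rw [sideNu_apply_W h hφ hW w h2 x.2, sideNu_apply_W h hψ hW w h2 x.2, FT.eta_apply hχ i j w h1 h2,
      FT.eta_apply hχ i k w h1 h2, show i.1 w = 1 from rfl, Units.val_one]
    ring
  obtain ⟨a, ha⟩ := FT.exists_coef hχ (hgen.sub hBgen)
  have hadd := FT.additive_coef hW hχ (hgen.sub hBgen).isClassFunction hV ha
  let b : FT.Row W₁ W₂ → FT.Col W₁ W₂ → ℤ := fun l m =>
    1 * ((if l = i ∧ m = j then 1 else 0) - (if l = i ∧ m = k then 1 else 0)) + a l m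
  have hb : ∀ l m, classInner (FT.tau M α) (FT.eta χ l m) = b l m := fun l m => by
    have h' := ha l m
    rw [hB, classInner_sub_left, classInner_sub_left, FT.eta_orthonormal hχ, FT.eta_orthonormal hχ] at h'
    simp only [b]
    push_cast
    simp only [eq_comm (a := i), eq_comm (a := j), eq_comm (a := k)] at h'
    linear_combination h'
  have ha0 : a = 0 := FT.eq_zero_of_pair hadd
    (by rw [← Nat.card_eq_fintype_card, FT.card_row hW]; exact FT.three_le_card_of_odd hG.1 hW.1)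
    (Or.inl rfl) (i := i) hjk (FT.coef_norm_le' hχ hb (N := 2) (by rw [hN]; norm_num))
  refine sub_eq_zero.mp (eq_zero_of_classInner_self ?_)
  have h1 : classInner (FT.tau M α - B) B = 0 := by
    rw [show classInner (FT.tau M α - B) B = classInner (FT.tau M α - B) (FT.eta χ i j - FT.eta χ i k) from rfl,
      classInner_sub_right, ha, ha, ha0]
    simp
  have h2 : classInner B (FT.tau M α - B) = 0 := classInner_symm_zero h1
  rw [classInner_sub_right, h1, sub_zero, classInner_sub_left, hN]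
  rw [classInner_sub_right, sub_eq_zero] at h2
  rw [h2, show classInner B B = 2 by
    simp only [hB, classInner_sub_left, classInner_sub_right]
    simp [FT.eta_orthonormal hχ, hjk, Ne.symm hjk]
    norm_num]
  norm_num

end Tau

section Real

variable [Fintype G] [Fintype M] {χ : (↥(W₁ ⊔ W₂) →* ℂˣ) → (G → ℂ)} {φ : N →* ℂˣ} {j : FT.Col W₁ W₂}

/-- The bridge plus the member of the family. -/
noncomputable def bridgeX (M N W₁ W₂ : Subgroup G) [Fintype M] (χ : (↥(W₁ ⊔ W₂) →* ℂˣ) → (G → ℂ))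
    (φ : N →* ℂˣ) (j : FT.Col W₁ W₂) : G → ℂ :=
  bridgeT M N W₁ φ + FT.eta χ (FT.row0 W₁ W₂) j

/-- Complex conjugation of a column. -/
theorem conjFun_eta (hG : Cfsg.IsMinSimpleOddOrder G) (hW : IsSelfNormalizingCyclic W₁ W₂)
    (hχ : IsCyclicTIFamily W₁ W₂ χ) (j : FT.Col W₁ W₂) :
    conjFun (FT.eta χ (FT.row0 W₁ W₂) j) = FT.eta χ (FT.row0 W₁ W₂) (colInv j) := by
  obtain ⟨n, hn⟩ : ∃ n, Nat.card G = n + 1 := ⟨_, (Nat.sub_add_cancel Nat.card_pos).symm⟩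
  have hk : n.Coprime (Nat.card G) := by rw [hn]; simp
  have hpow : ∀ g : G, g ^ n = g⁻¹ := fun g =>
    eq_inv_of_mul_eq_one_left (by rw [← pow_succ, ← hn, pow_card_eq_one'])
  have e := FT.twist_eta hG.1 hW hχ hk (FT.row0 W₁ W₂) j
  have e1 : FT.twist n (FT.eta χ (FT.row0 W₁ W₂) j) = conjFun (FT.eta χ (FT.row0 W₁ W₂) j) :=
    funext fun g => by
      show FT.eta χ _ j (g ^ n) = _
      rw [hpow, (FT.eta_gen hχ _ j).apply_inv]
      rfl
  rw [← e1, e]
  congr 1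
  · exact Subtype.ext (MonoidHom.ext fun w => by simp [FT.row0])
  · refine Subtype.ext (MonoidHom.ext fun w => ?_)
    show j.1 w ^ n = (j.1 w)⁻¹
    rw [← map_pow, ← map_inv]
    exact congrArg j.1 (Subtype.ext (hpow w))

theorem conjFun_sideNu (φ : N →* ℂˣ) :
    conjFun (sideNu M N W₁ φ) = sideNu M N W₁ φ⁻¹ := by
  classical
  funext x
  show conj (sideNu M N W₁ φ x) = _
  rw [sideNu_apply, sideNu_apply, map_mul, map_inv₀, Complex.conj_natCast, map_sum]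
  refine congrArg _ (Finset.sum_congr rfl fun m _ => ?_)
  simp only [sideExt]
  split_ifs with hex
  · rw [conj_hom_apply, map_inv]; simp
  · simp

/-- `T + η₀ⱼ` is real, with principal coefficient one. -/
theorem bridgeX_real (hG : Cfsg.IsMinSimpleOddOrder G) (hM : IsCoatom M) (hP : Cfsg.IsTypePWith M W₁ U W₂)
    (h : Side M W₁ W₂ N K₀ u) (hχ : IsCyclicTIFamily W₁ W₂ χ) (hφ : ColLift N K₀ j φ)
    (hj : j ≠ FT.col0 W₁ W₂) :
    conjFun (bridgeX M N W₁ W₂ χ φ j) = bridgeX M N W₁ W₂ χ φ j ∧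
      classInner (bridgeX M N W₁ W₂ χ φ j) (fun _ => 1) = 1 := by
  have hW := hP.selfNormalizing
  have hj' : colInv j ≠ FT.col0 W₁ W₂ := fun e =>
    hj (Subtype.ext (MonoidHom.ext fun v => inv_eq_one.mp
      (DFunLike.congr_fun (congrArg Subtype.val e) v)))
  constructor
  · have hconj : conjFun (bridgeT M N W₁ φ) = bridgeT M N W₁ φ⁻¹ := by
      have e : conjFun (sideAlpha M N W₁ φ) = sideAlpha M N W₁ φ⁻¹ := by
        rw [sideAlpha, sideAlpha, ← conjFun_sideNu φ]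
        funext x
        have h1 := congrFun (conjFun_sideNu (M := M) (W₁ := W₁) (1 : N →* ℂˣ)) x
        rw [show (1 : N →* ℂˣ)⁻¹ = 1 from MonoidHom.ext fun _ => inv_one] at h1
        simp only [conjFun, Pi.sub_apply, map_sub] at h1 ⊢
        rw [h1]
      funext g
      simp only [bridgeT, FT.tau, ← e, dadeIsometry, conjFun]
      split_ifs with hex <;> simp
    have hjj : j ≠ colInv j := fun e => hj (Subtype.ext (MonoidHom.ext fun v => by
      have h2 : j.1 v ^ 2 = 1 := by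
        have := DFunLike.congr_fun (congrArg Subtype.val e) v
        rw [pow_two]
        exact mul_eq_one_iff_eq_inv.mpr (by simpa [colInv] using this)
      have h3 : j.1 v ^ Nat.card ↥(W₁ ⊔ W₂) = 1 := by rw [← map_pow, pow_card_eq_one', map_one]
      have hodd : Odd (Nat.card ↥(W₁ ⊔ W₂)) := Cfsg.Lib.Local.Uniq.odd_subgroup hG _
      exact orderOf_eq_one_iff.mp (Nat.eq_one_of_dvd_coprimes (Nat.coprime_two_left.mpr hodd)
        (orderOf_dvd_of_pow_eq_one h2) (orderOf_dvd_of_pow_eq_one h3))))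
    have hd := tau_nu_sub hG hM hP h hχ hφ hφ.inv hj hj' hjj
    have hT : bridgeT M N W₁ φ⁻¹ - bridgeT M N W₁ φ =
        FT.eta χ (FT.row0 W₁ W₂) j - FT.eta χ (FT.row0 W₁ W₂) (colInv j) := by
      rw [← hd, bridgeT, bridgeT, ← tau_sub]
      congr 1
      simp only [sideAlpha]
      abel
    funext g
    have hT' := congrFun hT g
    have hc := congrFun hconj g
    have he := congrFun (conjFun_eta hG hW hχ j) g
    simp only [bridgeX, conjFun, Pi.add_apply, Pi.sub_apply, map_add] at hT' hc he ⊢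
    linear_combination hc + he + hT'
  · classical
    rw [bridgeX, classInner_add_left, bridgeT_one hG hM hP h hφ hj, ← FT.eta_zero hχ, FT.eta_orthonormal hχ,
      if_neg fun e => hj e.2, add_zero]

end Real

section Closure

/-- The Dade closure of the support: that of `N ∖ K₀` and the conjugates of `W ∖ (W₁ ∪ W₂)`. -/
theorem mem_tildeOf_bridgeSupp (hW : IsSelfNormalizingCyclic W₁ W₂) (hle : W₁ ⊔ W₂ ≤ M) {g : G}
    (hg : g ∈ Cfsg.tildeOf M (bridgeSupp M W₁ W₂ N K₀)) :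
    g ∈ Cfsg.tildeOf M ((N : Set G) \ (K₀ : Set G)) ∨
      ∃ y w : G, w ∈ W₁ ⊔ W₂ ∧ w ∉ W₁ ∧ w ∉ W₂ ∧ g = y * w * y⁻¹ := by
  obtain ⟨a, ha | ⟨m, hm, w, hw, h1, h2, rfl⟩, r, hr, y, rfl⟩ := hg
  · exact Or.inl ⟨a, ha, r, hr, y, rfl⟩
  refine Or.inr ⟨y * m, w, hw, h1, h2, ?_⟩
  have hC : Subgroup.centralizer ({m * w * m⁻¹} : Set G) ≤ M := by
    intro c hc
    have hcomm : m⁻¹ * c * m * w = w * (m⁻¹ * c * m) := by
      have := Subgroup.mem_centralizer_singleton_iff.mp hc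
      calc m⁻¹ * c * m * w = m⁻¹ * (c * (m * w * m⁻¹)) * m := by group
        _ = m⁻¹ * (m * w * m⁻¹ * c) * m := by rw [this]
        _ = w * (m⁻¹ * c * m) := by group
    have hN : m⁻¹ * c * m ∈ W₁ ⊔ W₂ := by
      rw [← hW.2.2.2.2.2 {w} (by simp [Set.singleton_subset_iff, hw, h1, h2]) ⟨w, rfl⟩]
      exact Subgroup.centralizer_le_normalizer _ (Subgroup.mem_centralizer_singleton_iff.mpr hcomm)
    simpa [mul_assoc] using mul_mem (mul_mem hm (hle hN)) (inv_mem hm)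
  rw [Cfsg.supportR, dif_neg fun h => h.1 hC] at hr
  rw [Subgroup.mem_bot.mp hr]
  group

end Closure

end Cfsg.Lib.OddOrder
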