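import Cfsg.Agent.Lib.OddOrder.Ctx
import Cfsg.Agent.Lib.OddOrder.Disjoint
import Cfsg.Agent.Lib.OddOrder.Bridge

/-!
# Means over the TI set, the swapped family, and the values on the rest

The family seen from the other member of the pair, the means over the conjugates of `W ∖ (W₁ ∪ W₂)`, the
integrality of the values outside the three pieces, and the decomposition of the mean over `G`.
-/

set_option autoImplicit false
set_option linter.unusedSectionVars false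
set_option linter.style.haveILetI false

namespace Cfsg.Lib.OddOrder

open Cfsg Cfsg.Lib.Char Cfsg.Lib.Char.FT
open scoped ComplexConjugate Classical

universe u'

variable {G : Type u'} [Group G]

section Swap

variable {W₁ W₂ : Subgroup G}

/-- A character of `W₁ W₂` as one of `W₂ W₁`. -/
def homSwap (W₁ W₂ : Subgroup G) (f : ↥(W₁ ⊔ W₂) →* ℂˣ) : ↥(W₂ ⊔ W₁) →* ℂˣ :=
  f.comp (MulEquiv.subgroupCongr (sup_comm W₂ W₁)).toMonoidHom

theorem homSwap_apply (f : ↥(W₁ ⊔ W₂) →* ℂˣ) (w : ↥(W₂ ⊔ W₁)) :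
    homSwap W₁ W₂ f w = f ⟨w, sup_comm W₂ W₁ ▸ w.2⟩ := rfl

theorem homSwap_homSwap (f : ↥(W₁ ⊔ W₂) →* ℂˣ) : homSwap W₂ W₁ (homSwap W₁ W₂ f) = f := rfl

theorem homSwap_mul (f g : ↥(W₁ ⊔ W₂) →* ℂˣ) :
    homSwap W₁ W₂ (f * g) = homSwap W₁ W₂ f * homSwap W₁ W₂ g := rfl

theorem homSwap_one : homSwap W₁ W₂ (1 : ↥(W₁ ⊔ W₂) →* ℂˣ) = 1 := rfl

theorem homSwap_injective : Function.Injective (homSwap W₁ W₂) :=
  Function.LeftInverse.injective (g := homSwap W₂ W₁) homSwap_homSwap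

/-- The rows seen from the other side are the columns. -/
def rowSwap (W₁ W₂ : Subgroup G) : Row W₁ W₂ ≃ Col W₂ W₁ where
  toFun i := ⟨homSwap W₁ W₂ i.1, fun _ hw => i.2 _ hw⟩
  invFun j := ⟨homSwap W₂ W₁ j.1, fun _ hw => j.2 _ hw⟩
  left_inv _ := rfl
  right_inv _ := rfl

/-- The columns seen from the other side are the rows. -/
def colSwap (W₁ W₂ : Subgroup G) : Col W₁ W₂ ≃ Row W₂ W₁ where
  toFun j := ⟨homSwap W₁ W₂ j.1, fun _ hw => j.2 _ hw⟩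
  invFun i := ⟨homSwap W₂ W₁ i.1, fun _ hw => i.2 _ hw⟩
  left_inv _ := rfl
  right_inv _ := rfl

theorem rowSwap_row0 : rowSwap W₁ W₂ (row0 W₁ W₂) = col0 W₂ W₁ := rfl

theorem colSwap_col0 : colSwap W₁ W₂ (col0 W₁ W₂) = row0 W₂ W₁ := rfl

theorem rowSwap_ne {i : Row W₁ W₂} (hi : i ≠ row0 W₁ W₂) : rowSwap W₁ W₂ i ≠ col0 W₂ W₁ := fun e =>
  hi ((rowSwap W₁ W₂).injective (e.trans rowSwap_row0.symm))

theorem colSwap_ne {j : Col W₁ W₂} (hj : j ≠ col0 W₁ W₂) : colSwap W₁ W₂ j ≠ row0 W₂ W₁ := fun e =>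
  hj ((colSwap W₁ W₂).injective (e.trans colSwap_col0.symm))

theorem famSwap_homSwap (χ : (↥(W₁ ⊔ W₂) →* ℂˣ) → (G → ℂ)) (f : ↥(W₁ ⊔ W₂) →* ℂˣ) :
    famSwap χ (homSwap W₁ W₂ f) = χ f := rfl

theorem famSwap_apply (χ : (↥(W₁ ⊔ W₂) →* ℂˣ) → (G → ℂ)) (f : ↥(W₂ ⊔ W₁) →* ℂˣ) :
    famSwap χ f = χ (homSwap W₂ W₁ f) := rfl

theorem eta_famSwap (χ : (↥(W₁ ⊔ W₂) →* ℂˣ) → (G → ℂ)) (i : Row W₁ W₂) (j : Col W₁ W₂) :
    eta (famSwap χ) (colSwap W₁ W₂ j) (rowSwap W₁ W₂ i) = eta χ i j := by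
  rw [eta, eta, famSwap_apply]
  refine congrArg χ (MonoidHom.ext fun w => ?_)
  show j.1 w * i.1 w = i.1 w * j.1 w
  exact mul_comm _ _

theorem offTI_comm (g : G) : OffTI W₂ W₁ g ↔ OffTI W₁ W₂ g := by
  unfold OffTI
  rw [sup_comm W₂ W₁]
  simp only [or_comm]

theorem tiSet_comm : tiSet W₂ W₁ = tiSet W₁ W₂ := Set.ext fun g => not_congr (offTI_comm g)

theorem mem_tiSet {g : G} :
    g ∈ tiSet W₁ W₂ ↔ ∃ x : G, x * g * x⁻¹ ∈ W₁ ⊔ W₂ ∧ x * g * x⁻¹ ∉ W₁ ∧ x * g * x⁻¹ ∉ W₂ := by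
  show ¬ OffTI W₁ W₂ g ↔ _
  unfold OffTI
  push Not
  rfl

variable [Fintype G]

/-- The family seen from the other side is one of the same kind. -/
theorem famSwap_family {χ : (↥(W₁ ⊔ W₂) →* ℂˣ) → (G → ℂ)} (hχ : IsCyclicTIFamily W₁ W₂ χ) :
    IsCyclicTIFamily W₂ W₁ (famSwap χ) where
  irr_or_neg ω := hχ.irr_or_neg _
  orthonormal ω ω' := by
    rw [famSwap_apply, famSwap_apply, hχ.orthonormal]
    rcases eq_or_ne ω ω' with rfl | h
    · rw [if_pos rfl, if_pos rfl]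
    · rw [if_neg h, if_neg (homSwap_injective.ne h)]
  map_one := hχ.map_one
  eq_on ω w h1 h2 := by
    rw [famSwap_apply]
    exact hχ.eq_on (homSwap W₂ W₁ ω) ⟨w, sup_comm W₂ W₁ ▸ w.2⟩ h2 h1
  induced_eq φ ψ hφ hψ hφ₁ hψ₂ := by
    have e := hχ.induced_eq (homSwap W₂ W₁ ψ) (homSwap W₂ W₁ φ)
      (fun h => hψ (homSwap_injective (h.trans homSwap_one.symm)))
      (fun h => hφ (homSwap_injective (h.trans homSwap_one.symm)))
      (fun w hw => hψ₂ _ hw) (fun w hw => hφ₁ _ hw)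
    rw [← indFun_congr (W₂ ⊔ W₁) (sup_comm W₂ W₁)] 
    calc indFun (W₁ ⊔ W₂) _ = indFun (W₁ ⊔ W₂) (fun w => 1 - ((homSwap W₂ W₁ ψ) w : ℂ) -
          ((homSwap W₂ W₁ φ) w : ℂ) + ((homSwap W₂ W₁ ψ) w : ℂ) * ((homSwap W₂ W₁ φ) w : ℂ)) := by
          congr 1
          funext w
          simp only [homSwap_apply]
          ring
      _ = _ := by
          rw [e]
          funext g
          rw [famSwap_apply, famSwap_apply, famSwap_apply, homSwap_mul, mul_comm (homSwap W₂ W₁ ψ)]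
          ring

end Swap

section Mean

variable [Fintype G] {W₁ W₂ : Subgroup G}

/-- The mean of a class function over the TI set is its mean over `W ∖ (W₁ ∪ W₂)`, normalised by `|W|`. -/
theorem muOn_tiSet (hW : Cfsg.IsSelfNormalizingCyclic W₁ W₂) [Fintype ↥(W₁ ⊔ W₂)] {f : G → ℝ}
    (hf : ∀ g x : G, f (x * g * x⁻¹) = f g) :
    muOn (tiSet W₁ W₂) f = (Nat.card ↥(W₁ ⊔ W₂) : ℝ)⁻¹ *
      ∑ w : ↥(W₁ ⊔ W₂), if (w : G) ∉ W₁ ∧ (w : G) ∉ W₂ then f w else 0 := by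
  set θ : ↥(W₁ ⊔ W₂) → ℂ := fun w => if (w : G) ∉ W₁ ∧ (w : G) ∉ W₂ then 1 else 0 with hθ
  set T : Set G := (↑(W₁ ⊔ W₂) : Set G) \ (↑W₁ ∪ ↑W₂)
  have hcomm := sup_comm_of hW.2.2.2.2.1
  have hcl : IsClassFunction ↥(W₁ ⊔ W₂) θ := fun a b => by rw [hcomm b a, mul_inv_cancel_right]
  have hθT : ∀ w : ↥(W₁ ⊔ W₂), (w : G) ∉ T → θ w = 0 := fun w hw => by
    refine if_neg fun h => hw ⟨w.2, fun h' => h'.elim h.1 h.2⟩
  have hind : ∀ g, indFun (W₁ ⊔ W₂) θ g = if g ∈ tiSet W₁ W₂ then 1 else 0 := by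
    intro g
    split_ifs with hg
    · obtain ⟨x, hx, h1, h2⟩ := mem_tiSet.1 hg
      rw [← isClassFunction_indFun _ θ g x, show x * g * x⁻¹ = ((⟨_, hx⟩ : ↥(W₁ ⊔ W₂)) : G) from rfl,
        indFun_eq_of_TI _ T (fun _ hy _ ht _ => cti_conj_notMem hW hy ht) hcl hθT (⟨_, hx⟩ : ↥(W₁ ⊔ W₂))
          ⟨hx, fun h => h.elim h1 h2⟩ fun e => h1 (by rw [show x * g * x⁻¹ = 1 from e]; exact one_mem _)]
      exact if_pos ⟨h1, h2⟩
    · refine mul_eq_zero_of_right _ (Finset.sum_eq_zero fun x _ => ?_)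
      by_cases hx : x⁻¹ * g * x ∈ W₁ ⊔ W₂
      · rw [extendByZero_of_mem _ _ hx]
        exact if_neg fun h => hg (mem_tiSet.2 ⟨x⁻¹, by simpa using hx, by simpa using h.1, by simpa using h.2⟩)
      · exact extendByZero_of_notMem _ _ hx
  have key := classInner_indFun_right (W₁ ⊔ W₂) θ (χ := fun g => (f g : ℂ)) fun g x => by
    show ((f (x * g * x⁻¹) : ℝ) : ℂ) = _
    rw [hf]
  have e1 : classInner (fun g => (f g : ℂ)) (indFun (W₁ ⊔ W₂) θ) = ((muOn (tiSet W₁ W₂) f : ℝ) : ℂ) := by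
    rw [classInner, muOn]
    push_cast
    refine congrArg _ (Finset.sum_congr rfl fun g _ => ?_)
    rw [hind]
    split_ifs <;> simp
  rw [e1] at key
  have e2 : classInner (fun w : ↥(W₁ ⊔ W₂) => (f w : ℂ)) θ = (((Nat.card ↥(W₁ ⊔ W₂) : ℝ)⁻¹ *
      ∑ w : ↥(W₁ ⊔ W₂), if (w : G) ∉ W₁ ∧ (w : G) ∉ W₂ then f w else 0 : ℝ) : ℂ) := by
    rw [classInner]
    push_cast
    refine congrArg _ (Finset.sum_congr rfl fun w _ => ?_)
    simp only [hθ]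
    split_ifs <;> simp
  rw [e2] at key
  exact_mod_cast key

theorem sum_subgroupOf (H : Subgroup G) (K : Subgroup G) (hle : H ≤ K) [Fintype H] [Fintype K] (F : K → ℂ) :
    ∑ w : K, (if (w : G) ∈ H then F w else 0) = ∑ a : H, F ⟨a, hle a.2⟩ := by
  rw [← Finset.sum_filter]
  refine Finset.sum_bij' (fun w hw => (⟨w, (Finset.mem_filter.1 hw).2⟩ : H)) (fun a _ => ⟨a, hle a.2⟩)
    (fun _ _ => Finset.mem_univ _) (fun a _ => Finset.mem_filter.2 ⟨Finset.mem_univ _, a.2⟩)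
    (fun _ _ => rfl) (fun _ _ => rfl) fun _ _ => rfl

/-- The sum of a linear character over `W ∖ (W₁ ∪ W₂)`. -/
theorem sum_outer_hom (hW : Cfsg.IsSelfNormalizingCyclic W₁ W₂) [Fintype ↥(W₁ ⊔ W₂)] (i : Row W₁ W₂)
    (j : Col W₁ W₂) :
    ∑ w : ↥(W₁ ⊔ W₂), (if (w : G) ∉ W₁ ∧ (w : G) ∉ W₂ then ((i.1 * j.1) w : ℂ) else 0) =
      (if i = row0 W₁ W₂ ∧ j = col0 W₁ W₂ then (Nat.card W₁ : ℂ) * Nat.card W₂ else 0) -
        (if i = row0 W₁ W₂ then (Nat.card W₁ : ℂ) else 0) - (if j = col0 W₁ W₂ then (Nat.card W₂ : ℂ) else 0) +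
        1 := by
  obtain ⟨-, -, hdisj, hcomm, -, -⟩ := id hW
  set ω := i.1 * j.1
  haveI := Fintype.ofFinite W₁
  haveI := Fintype.ofFinite W₂
  have hcard : Nat.card ↥(W₁ ⊔ W₂) = Nat.card W₁ * Nat.card W₂ :=
    Cfsg.Lib.Coprime.card_sup_of_disjoint (fun y hy => Subgroup.centralizer_le_normalizer _
      (Subgroup.mem_centralizer_iff.2 fun a ha => hcomm a ha y hy)) (disjoint_iff.2 hdisj)
  have hpt : ∀ w : ↥(W₁ ⊔ W₂), (if (w : G) ∉ W₁ ∧ (w : G) ∉ W₂ then (ω w : ℂ) else 0) = (ω w : ℂ) -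
      (if (w : G) ∈ W₁ then (ω w : ℂ) else 0) - (if (w : G) ∈ W₂ then (ω w : ℂ) else 0) +
      (if w = 1 then (ω w : ℂ) else 0) := by
    intro w
    by_cases h1 : (w : G) ∈ W₁ <;> by_cases h2 : (w : G) ∈ W₂
    · have : w = 1 := Subtype.ext (Subgroup.mem_bot.1 (hdisj.le ⟨h1, h2⟩))
      rw [if_neg fun h => h.1 h1, if_pos h1, if_pos h2, if_pos this]; ring
    · rw [if_neg fun h => h.1 h1, if_pos h1, if_neg h2, if_neg fun e => h2 (by rw [e]; exact one_mem _)]; ring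
    · rw [if_neg fun h => h.2 h2, if_neg h1, if_pos h2, if_neg fun e => h1 (by rw [e]; exact one_mem _)]; ring
    · rw [if_pos ⟨h1, h2⟩, if_neg h1, if_neg h2, if_neg fun e => h1 (by rw [e]; exact one_mem _)]; ring
  simp only [hpt, Finset.sum_add_distrib, Finset.sum_sub_distrib, Finset.sum_ite_eq', Finset.mem_univ, if_true,
    map_one, Units.val_one]
  -- the whole of `W`
  have hall : ∑ w, (ω w : ℂ) =
      if i = row0 W₁ W₂ ∧ j = col0 W₁ W₂ then (Nat.card W₁ : ℂ) * Nat.card W₂ else 0 := by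
    split_ifs with h
    · obtain ⟨rfl, rfl⟩ := h
      rw [← Nat.cast_mul, ← hcard, Nat.card_eq_fintype_card]
      simp [ω, row0, col0]
    · refine sum_hom_eq_zero fun e => h ?_
      exact eta_pair_inj (i' := row0 W₁ W₂) (j' := col0 W₁ W₂) (e.trans (mul_one (1 : ↥(W₁ ⊔ W₂) →* ℂˣ)).symm)
  have hW1 : ∑ w : ↥(W₁ ⊔ W₂), (if (w : G) ∈ W₁ then (ω w : ℂ) else 0) =
      if i = row0 W₁ W₂ then (Nat.card W₁ : ℂ) else 0 := by
    rw [sum_subgroupOf W₁ _ le_sup_left]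
    set r : W₁ →* ℂˣ := i.1.comp (Subgroup.inclusion le_sup_left)
    have hr : ∀ a : W₁, (ω ⟨a, Subgroup.mem_sup_left a.2⟩ : ℂ) = (r a : ℂ) := fun a => by
      simp only [ω, MonoidHom.mul_apply, j.2 ⟨(a : G), _⟩ a.2, mul_one]
      rfl
    rw [Finset.sum_congr rfl fun a _ => hr a]
    split_ifs with hi
    · subst hi
      simp [r, row0, Nat.card_eq_fintype_card]
    · refine sum_hom_eq_zero fun e => hi (Subtype.ext (cti_hom_ext (fun w hw => ?_) fun w hw => i.2 w hw))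
      exact DFunLike.congr_fun e ⟨w, hw⟩
  have hW2 : ∑ w : ↥(W₁ ⊔ W₂), (if (w : G) ∈ W₂ then (ω w : ℂ) else 0) =
      if j = col0 W₁ W₂ then (Nat.card W₂ : ℂ) else 0 := by
    rw [sum_subgroupOf W₂ _ le_sup_right]
    set r : W₂ →* ℂˣ := j.1.comp (Subgroup.inclusion le_sup_right)
    have hr : ∀ a : W₂, (ω ⟨a, Subgroup.mem_sup_right a.2⟩ : ℂ) = (r a : ℂ) := fun a => by
      simp only [ω, MonoidHom.mul_apply, i.2 ⟨(a : G), _⟩ a.2, one_mul]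
      rfl
    rw [Finset.sum_congr rfl fun a _ => hr a]
    split_ifs with hj
    · subst hj
      simp [r, col0, Nat.card_eq_fintype_card]
    · refine sum_hom_eq_zero fun e => hj (Subtype.ext (cti_hom_ext (fun w hw => j.2 w hw) fun w hw => ?_))
      exact DFunLike.congr_fun e ⟨w, hw⟩
  rw [hall, hW1, hW2]

theorem card_sup_cti (hW : Cfsg.IsSelfNormalizingCyclic W₁ W₂) :
    Nat.card ↥(W₁ ⊔ W₂) = Nat.card W₁ * Nat.card W₂ :=
  Cfsg.Lib.Coprime.card_sup_of_disjoint (fun y hy => Subgroup.centralizer_le_normalizer _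
    (Subgroup.mem_centralizer_iff.2 fun a ha => hW.2.2.2.1 a ha y hy)) (disjoint_iff.2 hW.2.2.1)

variable {χ : (↥(W₁ ⊔ W₂) →* ℂˣ) → (G → ℂ)}

/-- The mean square of a member over the TI set. -/
theorem muOn_ti_sq (hW : Cfsg.IsSelfNormalizingCyclic W₁ W₂) (hχ : IsCyclicTIFamily W₁ W₂ χ) (i : Row W₁ W₂)
    (j : Col W₁ W₂) :
    muOn (tiSet W₁ W₂) (fun g => ‖eta χ i j g‖ ^ 2) =
      ((Nat.card W₂ : ℝ) - 1) * ((Nat.card W₁ : ℝ) - 1) / (Nat.card W₂ * Nat.card W₁) := by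
  haveI := Fintype.ofFinite ↥(W₁ ⊔ W₂)
  rw [muOn_tiSet hW (f := fun g => ‖eta χ i j g‖ ^ 2) fun g x => by rw [(eta_classFun hχ i j) g x],
    card_sup_cti hW]
  have e : ∀ w : ↥(W₁ ⊔ W₂), (if (w : G) ∉ W₁ ∧ (w : G) ∉ W₂ then ‖eta χ i j w‖ ^ 2 else 0) =
      (if (w : G) ∉ W₁ ∧ (w : G) ∉ W₂ then (((row0 W₁ W₂).1 * (col0 W₁ W₂).1) w : ℂ) else 0).re := by
    intro w
    split_ifs with h
    · rw [eta_apply hχ i j w h.1 h.2, ← Units.val_mul, ← MonoidHom.mul_apply]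
      have : ‖((i.1 * j.1) w : ℂ)‖ = 1 :=
        norm_eq_one_of_pow_orderOf (g := w) (by rw [← Units.val_pow_eq_pow_val, ← map_pow, pow_orderOf_eq_one, map_one, Units.val_one])
      rw [this]
      simp [row0, col0]
    · simp
  simp only [e, ← Complex.re_sum, sum_outer_hom hW, and_self, if_true]
  have h1 : (Nat.card W₁ : ℝ) ≠ 0 := Nat.cast_ne_zero.2 Nat.card_pos.ne'
  have h2 : (Nat.card W₂ : ℝ) ≠ 0 := Nat.cast_ne_zero.2 Nat.card_pos.ne'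
  simp
  field_simp
  ring

/-- The mean real part of a member over the TI set, in general. -/
theorem muOn_ti_re (hW : Cfsg.IsSelfNormalizingCyclic W₁ W₂) (hχ : IsCyclicTIFamily W₁ W₂ χ) (i : Row W₁ W₂)
    (j : Col W₁ W₂) :
    muOn (tiSet W₁ W₂) (fun g => (eta χ i j g).re) =
      ((if i = row0 W₁ W₂ ∧ j = col0 W₁ W₂ then (Nat.card W₁ : ℝ) * Nat.card W₂ else 0) -
        (if i = row0 W₁ W₂ then (Nat.card W₁ : ℝ) else 0) - (if j = col0 W₁ W₂ then (Nat.card W₂ : ℝ) else 0) +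
        1) / (Nat.card W₂ * Nat.card W₁) := by
  haveI := Fintype.ofFinite ↥(W₁ ⊔ W₂)
  rw [muOn_tiSet hW (f := fun g => (eta χ i j g).re) fun g x => by rw [(eta_classFun hχ i j) g x],
    card_sup_cti hW]
  have e : ∀ w : ↥(W₁ ⊔ W₂), (if (w : G) ∉ W₁ ∧ (w : G) ∉ W₂ then (eta χ i j w).re else 0) =
      (if (w : G) ∉ W₁ ∧ (w : G) ∉ W₂ then ((i.1 * j.1) w : ℂ) else 0).re := by
    intro w
    split_ifs with h
    · rw [eta_apply hχ i j w h.1 h.2, ← Units.val_mul, ← MonoidHom.mul_apply]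
    · simp
  simp only [e, ← Complex.re_sum, sum_outer_hom hW]
  simp only [Complex.add_re, Complex.sub_re, apply_ite Complex.re, Complex.mul_re, Complex.natCast_re,
    Complex.natCast_im, Complex.zero_re, Complex.one_re, mul_zero, sub_zero]
  push_cast
  rw [div_eq_inv_mul, mul_comm (Nat.card W₂ : ℝ)]
  congr!

/-- Both indices nonprincipal. -/
theorem muOn_ti_re_z (hW : Cfsg.IsSelfNormalizingCyclic W₁ W₂) (hχ : IsCyclicTIFamily W₁ W₂ χ) {i : Row W₁ W₂}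
    {j : Col W₁ W₂} (hi : i ≠ row0 W₁ W₂) (hj : j ≠ col0 W₁ W₂) :
    muOn (tiSet W₁ W₂) (fun g => (eta χ i j g).re) = 1 / ((Nat.card W₂ : ℝ) * Nat.card W₁) := by
  rw [muOn_ti_re hW hχ i j, if_neg fun h => hi h.1, if_neg hi, if_neg hj]
  ring

/-- The first axis. -/
theorem muOn_ti_re_a (hW : Cfsg.IsSelfNormalizingCyclic W₁ W₂) (hχ : IsCyclicTIFamily W₁ W₂ χ) {i : Row W₁ W₂}
    (hi : i ≠ row0 W₁ W₂) :
    muOn (tiSet W₁ W₂) (fun g => (eta χ i (col0 W₁ W₂) g).re) =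
      -((Nat.card W₂ : ℝ) - 1) / ((Nat.card W₂ : ℝ) * Nat.card W₁) := by
  rw [muOn_ti_re hW hχ i _, if_neg fun h => hi h.1, if_neg hi, if_pos rfl]
  ring

/-- The second axis. -/
theorem muOn_ti_re_b (hW : Cfsg.IsSelfNormalizingCyclic W₁ W₂) (hχ : IsCyclicTIFamily W₁ W₂ χ) {j : Col W₁ W₂}
    (hj : j ≠ col0 W₁ W₂) :
    muOn (tiSet W₁ W₂) (fun g => (eta χ (row0 W₁ W₂) j g).re) =
      -((Nat.card W₁ : ℝ) - 1) / ((Nat.card W₂ : ℝ) * Nat.card W₁) := by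
  rw [muOn_ti_re hW hχ _ j, if_neg fun h => hj h.2, if_pos rfl, if_neg hj]
  ring

end Mean

section Pair

variable [Fintype G] {S T W₁ W₂ U V Ns Ks Nt Kt : Subgroup G} {u v : ℕ}
  {χ : (↥(W₁ ⊔ W₂) →* ℂˣ) → (G → ℂ)}

theorem hitSet_eq_tildeOf (M : Subgroup G) (A : Set G) : hitSet A (Cfsg.supportR M) = Cfsg.tildeOf M A := by
  ext g
  constructor
  · rintro ⟨a, ha, r, hr, x, e⟩
    exact ⟨a, ha, r, hr, x⁻¹, by rw [← e]; group⟩
  · rintro ⟨a, ha, r, hr, y, rfl⟩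
    exact ⟨a, ha, r, hr, y⁻¹, by group⟩

/-- The Dade hypothesis on the first side. -/
theorem PairCtx.dadeS (c : PairCtx S T W₁ W₂ U V Ns Ks Nt Kt u v χ) [Fintype S] :
    DadeHypothesis (sideSet Ns Ks) S (Cfsg.supportR S) :=
  c.sideS.dade (dade_A0 c.minimal c.sideS.coatom)

/-- The Dade hypothesis on the second side. -/
theorem PairCtx.dadeT (c : PairCtx S T W₁ W₂ U V Ns Ks Nt Kt u v χ) [Fintype T] :
    DadeHypothesis (sideSet Nt Kt) T (Cfsg.supportR T) :=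
  c.sideT.dade (dade_A0 c.minimal c.sideT.coatom)

/-- Off the three pieces the values are rational integers. -/
theorem rest_values (c : PairCtx S T W₁ W₂ U V Ns Ks Nt Kt u v χ) {g : G}
    (hg : g ∈ restSet S T W₁ W₂ Ns Ks Nt Kt) :
    ∃ na nb : ℤ, (∀ i : Row W₁ W₂, i ≠ row0 W₁ W₂ → eta χ i (col0 W₁ W₂) g = na) ∧
      (∀ j : Col W₁ W₂, j ≠ col0 W₁ W₂ → eta χ (row0 W₁ W₂) j g = nb) ∧
      ∀ (i : Row W₁ W₂) (j : Col W₁ W₂), i ≠ row0 W₁ W₂ → j ≠ col0 W₁ W₂ →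
        eta χ i j g = ((na + nb - 1 : ℤ) : ℂ) := by
  obtain ⟨hgW, hgS, hgT⟩ := hg
  have hoff : OffTI W₁ W₂ g := not_not.1 hgW
  have hW := c.typeS.selfNormalizing
  have hW' := c.typeT.selfNormalizing
  have hodd : Odd (Nat.card G) := c.minimal.1
  have hoddW : Odd (Nat.card ↥(W₁ ⊔ W₂)) := hodd.of_dvd_nat (Subgroup.card_subgroup_dvd_card _)
  haveI := Fintype.ofFinite S
  haveI := Fintype.ofFinite T
  haveI := Fintype.ofFinite ↥(Ns.subgroupOf S)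
  haveI := Fintype.ofFinite ↥(Nt.subgroupOf T)
  have hfam := c.family
  have hcol : ∀ j k : Col W₁ W₂, j ≠ col0 W₁ W₂ → k ≠ col0 W₁ W₂ → χ j.1 g = χ k.1 g := fun j k hj hk =>
    eta_col_agree hodd c.sideS c.dadeS hW hfam hj hk hoff hgS
  have hrow : ∀ i l : Row W₁ W₂, i ≠ row0 W₁ W₂ → l ≠ row0 W₁ W₂ → χ i.1 g = χ l.1 g := fun i l hi hl => by
    have := eta_col_agree hodd c.sideT c.dadeT hW' (famSwap_family hfam) (rowSwap_ne hi) (rowSwap_ne hl)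
      ((offTI_comm g).2 hoff) hgT
    exact this
  obtain ⟨i₀, hi₀⟩ : ∃ i : Row W₁ W₂, i ≠ row0 W₁ W₂ := by
    haveI := finite_hom (G := G) hW.2.2.2.2.1
    haveI : Nontrivial (Row W₁ W₂) := Finite.one_lt_card_iff_nontrivial.1 (by
      rw [card_row hW]; have := three_le_card_of_odd hodd hW.1; omega)
    exact exists_ne _
  obtain ⟨j₀, hj₀⟩ : ∃ j : Col W₁ W₂, j ≠ col0 W₁ W₂ := by
    haveI := finite_hom (G := G) hW.2.2.2.2.1
    haveI : Nontrivial (Col W₁ W₂) := Finite.one_lt_card_iff_nontrivial.1 (by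
      rw [card_col hW]; have := three_le_card_of_odd hodd hW.2.1; omega)
    exact exists_ne _
  obtain ⟨na, hna⟩ := eta_int_of_agree hW hoddW hfam (W := W₂) (φ := i₀.1) (fun e => hi₀ (Subtype.ext e)) i₀.2
    (g := g) fun φ' hφ' hφ'2 => hrow ⟨φ', hφ'2⟩ i₀ (fun e => hφ' (congrArg Subtype.val e)) hi₀
  obtain ⟨nb, hnb⟩ := eta_int_of_agree hW hoddW hfam (W := W₁) (φ := j₀.1) (fun e => hj₀ (Subtype.ext e)) j₀.2
    (g := g) fun φ' hφ' hφ'1 => hcol ⟨φ', hφ'1⟩ j₀ (fun e => hφ' (congrArg Subtype.val e)) hj₀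
  refine ⟨na, nb, fun i hi => ?_, fun j hj => ?_, fun i j hi hj => ?_⟩
  · rw [eta, show i.1 * (col0 W₁ W₂).1 = i.1 from cti_mul_one _, hrow i i₀ hi hi₀, hna]
  · rw [eta, show (row0 W₁ W₂).1 * j.1 = j.1 from cti_one_mul _, hcol j j₀ hj hj₀, hnb]
  · rw [eta, eta_mul_off hfam (fun e => hi (Subtype.ext e)) (fun e => hj (Subtype.ext e)) i.2 j.2 hoff,
      hrow i i₀ hi hi₀, hcol j j₀ hj hj₀, hna, hnb]
    push_cast
    ring

/-- The pieces are disjoint. -/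
theorem PairCtx.disjoint (c : PairCtx S T W₁ W₂ U V Ns Ks Nt Kt u v χ) :
    hitSet (sideSet Ns Ks) (Cfsg.supportR S) ∩ hitSet (sideSet Nt Kt) (Cfsg.supportR T) = ∅ ∧
      tiSet W₁ W₂ ∩ hitSet (sideSet Ns Ks) (Cfsg.supportR S) = ∅ ∧
      tiSet W₁ W₂ ∩ hitSet (sideSet Nt Kt) (Cfsg.supportR T) = ∅ := by
  obtain ⟨h1, h2⟩ := side_disjoint c.minimal c.typeS c.typeT c.sideS c.sideT c.derivedS c.derivedT
  rw [hitSet_eq_tildeOf, hitSet_eq_tildeOf]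
  refine ⟨h1, ?_, ?_⟩ <;> refine Set.eq_empty_iff_forall_notMem.2 fun g ⟨hg, hg'⟩ => ?_ <;>
    obtain ⟨x, hx, hx1, hx2⟩ := mem_tiSet.1 hg
  · have := (h2 x⁻¹ _ hx hx1 hx2).1
    exact this (by simpa [mul_assoc, sideSet] using hg')
  · have := (h2 x⁻¹ _ hx hx1 hx2).2
    exact this (by simpa [mul_assoc, sideSet] using hg')

/-- The mean over `G` splits. -/
theorem muOn_split (c : PairCtx S T W₁ W₂ U V Ns Ks Nt Kt u v χ) (f : G → ℝ) :
    muOn Set.univ f = muOn (tiSet W₁ W₂) f + muOn (hitSet (sideSet Ns Ks) (Cfsg.supportR S)) f +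
      muOn (hitSet (sideSet Nt Kt) (Cfsg.supportR T)) f + muOn (restSet S T W₁ W₂ Ns Ks Nt Kt) f := by
  obtain ⟨hST, hWS, hWT⟩ := c.disjoint
  simp only [muOn, ← mul_add, ← Finset.sum_add_distrib]
  refine congrArg _ (Finset.sum_congr rfl fun g _ => ?_)
  have a1 : ¬ (g ∈ hitSet (sideSet Ns Ks) (Cfsg.supportR S) ∧ g ∈ hitSet (sideSet Nt Kt) (Cfsg.supportR T)) :=
    fun h => (hST ▸ h : g ∈ (∅ : Set G))
  have a2 : ¬ (g ∈ tiSet W₁ W₂ ∧ g ∈ hitSet (sideSet Ns Ks) (Cfsg.supportR S)) :=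
    fun h => (hWS ▸ h : g ∈ (∅ : Set G))
  have a3 : ¬ (g ∈ tiSet W₁ W₂ ∧ g ∈ hitSet (sideSet Nt Kt) (Cfsg.supportR T)) :=
    fun h => (hWT ▸ h : g ∈ (∅ : Set G))
  by_cases h1 : g ∈ tiSet W₁ W₂ <;> by_cases h2 : g ∈ hitSet (sideSet Ns Ks) (Cfsg.supportR S) <;>
    by_cases h3 : g ∈ hitSet (sideSet Nt Kt) (Cfsg.supportR T) <;> simp_all [restSet]

end Pair

end Cfsg.Lib.OddOrder
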