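import Cfsg.Agent.Lib.OddOrder.NoTypeV.Quiet
import Cfsg.Agent.Lib.OddOrder.NoTypeV.Partner
import Cfsg.Agent.Lib.OddOrder.NoTypeV.TI
import Cfsg.Agent.Lib.OddOrder.NoTypeV.Exceptional
import Cfsg.Agent.Lib.OddOrder.NoTypeV.NonTI

/-!
No maximal subgroup of type V.
-/

set_option autoImplicit false
set_option linter.unusedSectionVars false
set_option linter.style.haveILetI false

namespace Cfsg.Lib.OddOrder

open Cfsg Cfsg.Lib.Char Cfsg.Lib.Char.FT Cfsg.Lib.Local.Sigma NoTypeV
open scoped commutatorElement Classical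

universe u

variable {G : Type u} [Group G] [Finite G]

/-- A finite nilpotent group whose abelian quotient is a `p`-group is a `p`-group. -/
theorem card_eq_of_index_commutator {X : Type u} [Group X] [Finite X] (hn : Group.IsNilpotent X) {p m n : ℕ}
    [Fact p.Prime] (hX : (commutator X).index = p ^ m) (hc : Nat.card (Cfsg.pCore p X) = n) : Nat.card X = n := by
  obtain ⟨P⟩ : Nonempty (Sylow p X) := inferInstance
  haveI hPn : (P : Subgroup X).Normal :=
    (Group.isNilpotent_of_finite_tfae.out 0 3 rfl rfl).1 hn p inferInstance P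
  have hP : (P : Subgroup X) = ⊤ := by
    refine frattini_nongenerating (top_le_iff.1 ?_)
    have h : (P : Subgroup X) ⊔ commutator X = ⊤ := by
      rw [← Subgroup.index_eq_one]
      obtain ⟨i, -, hi⟩ := (Nat.dvd_prime_pow Fact.out).1
        (hX ▸ Subgroup.index_dvd_of_le (le_sup_right : commutator X ≤ (P : Subgroup X) ⊔ commutator X))
      rcases i with _ | i
      · rw [hi, pow_zero]
      · exact absurd ((dvd_pow_self p i.succ_ne_zero).trans (hi ▸ Subgroup.index_dvd_of_le le_sup_left))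
          P.not_dvd_index
    exact h.ge.trans (sup_le_sup_left (Cfsg.Lib.Char.commutator_le_frattini_of_nilpotent hn) _)
  have hcore : Cfsg.pCore p X = ⊤ :=
    top_le_iff.1 (hP.ge.trans (le_sSup ⟨hPn, P.isPGroup'⟩))
  rw [← hc, hcore, Subgroup.card_top]

theorem not_typeV
    (hG : Cfsg.IsMinSimpleOddOrder G) {M : Subgroup G} (hM : IsCoatom M) : ¬ Cfsg.IsOfTypeV M := by
  intro hV
  letI : Fintype G := Fintype.ofFinite G
  obtain ⟨K, U, T, V, hP, hKU, -, -, -, hF, hc, hp, -⟩ := exists_data hG hM hV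
  have hW := hP.selfNormalizing
  haveI := finite_hom (G := G) hW.2.2.2.2.1
  letI : Fintype M := Fintype.ofFinite _
  letI : Fintype (Row K (kstar M K)) := Fintype.ofFinite _
  letI : Fintype (Col K (kstar M K)) := Fintype.ofFinite _
  obtain ⟨μ, δ, χ, S⟩ := exists_vside hG hM hP hF hc hp
  obtain ⟨Y, L, hY, hLY, hL, hLq⟩ := exists_quiet hG hM hP hF hc hp
  have hY' : ∀ g ∈ Y, g ∉ hitM M ∧ (orderOf g).Coprime (Nat.card K) := fun g hg => ⟨(hY g hg).2.1, (hY g hg).2.2.2⟩
  set q := Nat.card K with hq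
  set p := Nat.card ↥(kstar M K) with hp'
  have hq0 : (0 : ℝ) < q := by exact_mod_cast (Nat.card_pos (α := K))
  have hp0 : (0 : ℝ) < p := by exact_mod_cast hp.pos
  by_cases hTI : Cfsg.IsTISubset ((⁅M, M⁆ : Subgroup G) : Set G)
  · obtain ⟨f, ζ, hf, hζ, hΦ, k, hk, hb⟩ := ti_exact S hTI
    refine false_of_mass S hf hζ hΦ hY' hb (lt_of_le_of_lt ?_ hLY)
    have hk' : (20 : ℝ) * q ^ 2 * p ≤ 11 * k := by exact_mod_cast hk
    have hk0 : (0 : ℝ) < k := by nlinarith [mul_pos (pow_pos hq0 2) hp0]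
    rw [div_le_div_iff₀ hk0 (mul_pos hp0 hq0)]
    nlinarith [mul_le_mul_of_nonneg_right hL hk0.le]
  · obtain ⟨hK1, hU1, -⟩ := (typeV_iff hG hM hKU).mp hV
    rw [← hc] at hTI
    simp only [Cfsg.IsTISubset, not_forall] at hTI
    obtain ⟨g, hg, x, hx, hgx, hx1⟩ := hTI
    have hgM : g ∉ M := fun h => hg (le_normalizer_sigmaCore M h)
    obtain ⟨r, hr, -, hcyc, halt⟩ :=
      nonTI_alternatives hG hM hKU hK1 hU1 (hc ▸ hF ▸ fittingHallOf_isNilpotent) hgM hx hx1 hgx
    haveI : Fact (Nat.card ↥(kstar M K)).Prime := ⟨hp⟩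
    obtain ⟨w, hw⟩ := exists_prime_orderOf_dvd_card' (G := ↥(kstar M K)) p dvd_rfl
    have hwc : (w : G) ∈ (commutator ↥(sigmaCore M)).map (sigmaCore M).subtype := by
      rw [Subgroup.map_subtype_commutator, hc]
      exact (hP.W₂_le w.2).2
    obtain ⟨z, hz, hze⟩ := hwc
    have hzo : orderOf z = p := by
      rw [← Subgroup.orderOf_coe z, show (z : G) = w from hze, Subgroup.orderOf_coe, hw]
    obtain ⟨h1, h2⟩ := nilpotent_cyclic_core (X := ↥(sigmaCore M)) (hc ▸ hF ▸ fittingHallOf_isNilpotent) hr hcyc hz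
      (fun e => hp.ne_one (by rw [← hzo, e, orderOf_one]))
    rw [hzo] at h1
    obtain rfl : r = p := (Nat.prime_dvd_prime_iff_eq hr hp).1 h1
    have hDM : ⁅M, M⁆ ≤ M := Subgroup.commutator_le_self M
    let e : ↥(sigmaCore M) ≃* derivedIn M := (MulEquiv.subgroupCongr hc).trans (Subgroup.subgroupOfEquivOfLe hDM).symm
    have hidxe : (commutator (derivedIn M)).index = (commutator ↥(sigmaCore M)).index := by
      have he : (commutator ↥(sigmaCore M)).map (e : ↥(sigmaCore M) →* derivedIn M) = commutator (derivedIn M) := by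
        rw [_root_.commutator_def, _root_.commutator_def, Subgroup.map_commutator,
          Subgroup.map_top_of_surjective _ e.surjective]
      rw [← he, Subgroup.index_map_equiv]
    have hidx' : p ^ 2 ∣ (linFin M).card * q + 1 := by rw [card_linFin S, hidxe]; exact h2
    have hidx : p ^ 2 ≤ (linFin M).card * q + 1 := Nat.le_of_dvd (Nat.succ_pos _) hidx'
    have h2q : 2 * q ≤ p + 1 := by
      have hqodd : Odd q := S.side.odd.of_dvd_nat (Subgroup.card_subgroup_dvd_card _)
      have hpodd : Odd p := S.side.odd.of_dvd_nat (Subgroup.card_subgroup_dvd_card _)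
      have h2dvd : ∀ m : ℕ, q ∣ m → Even m → 0 < m → 2 * q ≤ m := fun m hd he hm0 =>
        Nat.le_of_dvd hm0 ((Nat.coprime_two_left.2 hqodd).mul_dvd_of_dvd_of_dvd (even_iff_two_dvd.1 he) hd)
      rcases halt with h | ⟨-, h⟩
      · obtain ⟨a, ha⟩ := hpodd
        have := h2dvd _ h (by rw [ha]; simp) (by have := hp.two_le; omega)
        omega
      · exact h2dvd _ h hpodd.add_one (by omega)
    have hlt : Nat.card K < Nat.card ↥(kstar M K) := by
      have : 3 ≤ q := three_le_card_of_odd S.side.odd hP.W₁_ne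
      omega
    obtain ⟨ζ, hζ⟩ := linFin_nonempty S
    obtain ⟨f₀, hf₀⟩ := exists_linFamily S
    obtain ⟨f, hf, hΦ⟩ := exists_phi_eq S hζ fun j hj => row0_eq_zero_of_lt S hf₀ hζ hlt hj
    have hP' : (p : ℝ) ^ 2 ≤ (((linFin M).card * q + 1 : ℕ) : ℝ) := by exact_mod_cast hidx
    have hL0 : 0 ≤ L := le_trans (by norm_num) hL
    rcases hLq h2q with h3 | ⟨hq3, hp5⟩
    · refine false_of_mass S hf hζ hΦ hY' (hit_ge_lin S hf hζ hΦ) (lt_of_le_of_lt ?_ hLY)
      rw [div_le_div_iff₀ (lt_of_lt_of_le (pow_pos hp0 2) hP') (mul_pos hp0 hq0)]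
      nlinarith [mul_le_mul_of_nonneg_left hP' hL0, mul_le_mul_of_nonneg_left h3 hp0.le]
    have hdvd : 25 ∣ (linFin M).card * 3 + 1 := by
      have := hidx'
      rw [hq3, hp5] at this
      exact this
    have hodd : Odd ((linFin M).card * 3 + 1) := by
      rw [← hq3, card_linFin S]
      exact ((S.side.odd.of_dvd_nat (Subgroup.card_subgroup_dvd_card M)).of_dvd_nat
        (Subgroup.card_subgroup_dvd_card (derivedIn M))).of_dvd_nat
        (Subgroup.index_dvd_card _)
    obtain ⟨m, hm⟩ := hdvd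
    rw [Nat.odd_iff] at hodd
    rcases (by omega : (linFin M).card = 8 ∨ 175 ≤ (linFin M).card * 3 + 1) with h8 | h175
    · have hk : Nat.card (derivedIn M) = 125 := by
        rcases halt with h | ⟨hcard, -⟩
        · rw [← hq, hq3, hp5] at h; omega
        rw [← Nat.card_congr e.toEquiv, card_eq_of_index_commutator (X := ↥(sigmaCore M))
          (hc ▸ hF ▸ fittingHallOf_isNilpotent) (m := 2) ?_ hcard, hp5]
        · norm_num
        rw [← hidxe, ← card_linFin S, h8, ← hq, hq3, hp5]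
        norm_num
      refine false_of_mass S hf hζ hΦ hY' (hit_ge_exceptional S hf hζ hΦ hq3 hp5 h8 hk) (lt_of_le_of_lt ?_ hLY)
      rw [hq3, hp5]
      push_cast
      linarith
    · refine false_of_mass S hf hζ hΦ hY' (hit_ge_lin S hf hζ hΦ) (lt_of_le_of_lt ?_ hLY)
      have h175' : (175 : ℝ) ≤ (((linFin M).card * q + 1 : ℕ) : ℝ) := by
        have : 175 ≤ (linFin M).card * q + 1 := by rw [hq3]; exact h175
        exact_mod_cast this
      rw [← hq, div_le_div_iff₀ (lt_of_lt_of_le (by norm_num) h175') (mul_pos hp0 hq0)]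
      have e3 : (q : ℝ) = 3 := by exact_mod_cast hq3
      have e5 : (p : ℝ) = 5 := by exact_mod_cast hp5
      generalize (((linFin M).card * q + 1 : ℕ) : ℝ) = P at h175' ⊢
      clear_value q p
      rw [e3, e5]
      exact le_trans (by norm_num) (mul_le_mul hL h175' (by norm_num) hL0)

end Cfsg.Lib.OddOrder
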