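import Mathlib

/-!
# Arithmetic of the final configuration of the odd order theorem

The norm of the character `η₁₁` gives `1 < p u / (p ^ q c - 1) + q v / (q ^ p d - 1)`; one of the two
sides must then be as large as possible.
-/

set_option autoImplicit false
set_option linter.style.haveILetI false

namespace Cfsg.Lib.OddOrder

open Finset

/-- `(p ^ q - 1) / (p - 1)`. -/
def fullIndex (p q : ℕ) : ℕ := ∑ i ∈ range q, p ^ i

theorem fullIndex_mul (p q : ℕ) : fullIndex p q * (p - 1) + 1 = p ^ q ∨ p = 0 := by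
  rcases p.eq_zero_or_pos with h | h
  · exact Or.inr h
  · left
    have := geom_sum_mul_add (p - 1) q
    rw [Nat.sub_add_cancel (show 1 ≤ p by omega)] at this
    exact this

theorem fullIndex_mul_of_pos {p : ℕ} (hp : 0 < p) (q : ℕ) : fullIndex p q * (p - 1) + 1 = p ^ q :=
  (fullIndex_mul p q).resolve_right hp.ne'

theorem fullIndex_eq_div {p : ℕ} (hp : 2 ≤ p) (q : ℕ) : fullIndex p q = (p ^ q - 1) / (p - 1) := by
  have h := fullIndex_mul_of_pos (by omega : 0 < p) q
  exact (Nat.div_eq_of_eq_mul_left (by omega) (by omega)).symm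

theorem odd_fullIndex {p q : ℕ} (hp : Odd p) (hq : Odd q) : Odd (fullIndex p q) := by
  have hp' : (p : ZMod 2) = 1 := (ZMod.natCast_eq_one_iff_odd).2 hp
  have : ((fullIndex p q : ℕ) : ZMod 2) = 1 := by
    simp [fullIndex, hp', (ZMod.natCast_eq_one_iff_odd).2 hq]
  exact (ZMod.natCast_eq_one_iff_odd).1 this

/-- A proper divisor of an odd number is at most a third of it. -/
theorem three_mul_le_of_dvd {u n : ℕ} (hn : Odd n) (hu : u ∣ n) (hne : u ≠ n) : 3 * u ≤ n := by
  obtain ⟨k, rfl⟩ := hu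
  have hk : Odd k := (Nat.odd_mul.1 hn).2
  rcases k with _ | _ | _ | k
  · simp at hk
  · simp at hne
  · exact absurd hk (by decide)
  · nlinarith

/-- One side: `p u` against `p ^ q c - 1`. -/
theorem side_bound {p q u c : ℕ} (hp : Odd p) (hp3 : 3 ≤ p) (hq : Odd q) (hu : u ∣ fullIndex p q)
    (hc : Odd c) (hne : c ≠ 1 ∨ u ≠ fullIndex p q) :
    3 * ((p - 1) * u) ≤ p ^ q * c - 1 := by
  have hU := fullIndex_mul_of_pos (by omega : 0 < p) q
  have hpos : 0 < fullIndex p q := (odd_fullIndex hp hq).pos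
  have hule := Nat.le_of_dvd hpos hu
  rcases hne with hc1 | hu1
  · have hc3 : 3 ≤ c := by
      rcases c with _ | _ | _ | c
      · simp at hc
      · simp at hc1
      · exact absurd hc (by decide)
      · omega
    have h1 : 3 * ((p - 1) * u) ≤ 3 * (fullIndex p q * (p - 1)) := by nlinarith
    have h2 : p ^ q * 3 ≤ p ^ q * c := Nat.mul_le_mul_left _ hc3
    omega
  · have h3 := three_mul_le_of_dvd (odd_fullIndex hp hq) hu hu1
    have h1 : 3 * ((p - 1) * u) ≤ fullIndex p q * (p - 1) := by nlinarith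
    have h2 : p ^ q * 1 ≤ p ^ q * c := Nat.mul_le_mul_left _ hc.pos
    omega

/-- (13.10): one of the two sides is full. -/
theorem full_side {p q u v c d : ℕ} (hp : Odd p) (hp3 : 3 ≤ p) (hq : Odd q) (hq3 : 3 ≤ q)
    (hu : u ∣ fullIndex p q) (hv : v ∣ fullIndex q p) (hc : Odd c) (hd : Odd d)
    (h : 1 < (p * u : ℚ) / ((p ^ q * c : ℕ) - 1 : ℕ) + (q * v : ℚ) / ((q ^ p * d : ℕ) - 1 : ℕ)) :
    (c = 1 ∧ u = fullIndex p q) ∨ (d = 1 ∧ v = fullIndex q p) := by
  by_contra hne
  simp only [not_or, not_and_or] at hne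
  have key : ∀ {p q u c : ℕ}, Odd p → 3 ≤ p → Odd q → 3 ≤ q → u ∣ fullIndex p q → Odd c →
      (¬c = 1 ∨ ¬u = fullIndex p q) → (p * u : ℚ) / ((p ^ q * c : ℕ) - 1 : ℕ) ≤ 1 / 2 := by
    intro p q u c hp hp3 hq hq3 hu hc hne
    have hb := side_bound hp hp3 hq hu hc hne
    have hpow : 27 ≤ p ^ q := le_trans (by decide : 27 ≤ 3 ^ 3)
      (le_trans (Nat.pow_le_pow_left hp3 3) (Nat.pow_le_pow_right (by omega) hq3))
    have hden : 0 < p ^ q * c - 1 := by
      have : 27 * 1 ≤ p ^ q * c := Nat.mul_le_mul hpow hc.pos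
      omega
    have hb' : 2 * (p * u) ≤ p ^ q * c - 1 := by
      have : 2 * (p * u) ≤ 3 * ((p - 1) * u) := by
        obtain ⟨k, rfl⟩ : ∃ k, p = k + 3 := ⟨p - 3, by omega⟩
        rw [show k + 3 - 1 = k + 2 from by omega]
        nlinarith
      omega
    rw [div_le_iff₀ (by exact_mod_cast hden)]
    have h2 : (2 : ℚ) * (p * u) ≤ ((p ^ q * c - 1 : ℕ) : ℚ) := by exact_mod_cast hb'
    linarith
  have h1 := key hp hp3 hq hq3 hu hc hne.1
  have h2 := key hq hq3 hp hp3 hv hd hne.2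
  linarith

/-- A full side forces `q ∤ p - 1` as soon as `u ≡ 1 (mod q)`. -/
theorem coprime_of_full {p q : ℕ} (hp : 2 ≤ p) (hq : q.Prime) (hU : fullIndex p q % q = 1) :
    Nat.Coprime (fullIndex p q) (p - 1) := by
  have hmod : fullIndex p q ≡ q [MOD p - 1] := by
    have : ∀ i, p ^ i ≡ 1 [MOD p - 1] := fun i => by
      have h1 : p ≡ 1 [MOD p - 1] := (Nat.modEq_iff_dvd' (by omega)).2 (dvd_refl _) |>.symm
      simpa using h1.pow i
    have key : ∀ n, fullIndex p n ≡ n [MOD p - 1] := fun n => by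
      induction n with
      | zero => exact Nat.ModEq.refl _
      | succ n ih => rw [fullIndex, sum_range_succ]; exact Nat.ModEq.add ih (this n)
    exact key q
  have hg : Nat.gcd (fullIndex p q) (p - 1) = Nat.gcd q (p - 1) := hmod.gcd_eq
  rw [Nat.Coprime, hg]
  rcases (Nat.dvd_prime hq).1 (Nat.gcd_dvd_left q (p - 1)) with h | h
  · exact h
  · exfalso
    have hdvd : q ∣ Nat.gcd (fullIndex p q) (p - 1) := by rw [hg, h]
    have : q ∣ fullIndex p q := hdvd.trans (Nat.gcd_dvd_left _ _)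
    rw [Nat.dvd_iff_mod_eq_zero] at this
    omega

end Cfsg.Lib.OddOrder
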