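import Cfsg.Agent.Lib.OddOrder.Ctx

/-!
# The budgets outside the TI set and the supports

From `⟨η, η⟩ = 1`, `⟨η, 1⟩ = 0`, the means on the TI set and the bounds on the two sides: what is left for
`|η|² + ε η` on the rest of `G`.
-/

set_option autoImplicit false
set_option linter.unusedSectionVars false
set_option linter.style.haveILetI false

namespace Cfsg.Lib.OddOrder

open Cfsg Cfsg.Lib.Char Cfsg.Lib.Char.FT
open scoped ComplexConjugate Classical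

universe u'

variable {G : Type u'} [Group G] [Fintype G] {S T W₁ W₂ U V Ns Ks Nt Kt : Subgroup G} {u v : ℕ}
  {χ : (↥(W₁ ⊔ W₂) →* ℂˣ) → (G → ℂ)}

/-- A member seen from the other side. -/
theorem exists_swap (χ : (↥(W₁ ⊔ W₂) →* ℂˣ) → (G → ℂ)) (i : Row W₁ W₂) (j : Col W₁ W₂) :
    ∃ (i' : Row W₂ W₁) (j' : Col W₂ W₁), eta (famSwap χ) i' j' = eta χ i j ∧
      (i ≠ row0 W₁ W₂ → j' ≠ col0 W₂ W₁) := by
  set e := MulEquiv.subgroupCongr (sup_comm W₂ W₁)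
  refine ⟨⟨j.1.comp e.toMonoidHom, fun w hw => j.2 _ (by simpa [e] using hw)⟩,
    ⟨i.1.comp e.toMonoidHom, fun w hw => i.2 _ (by simpa [e] using hw)⟩, ?_, fun hi he => hi ?_⟩
  · refine congrArg χ (MonoidHom.ext fun w => ?_)
    simp only [MonoidHom.comp_apply, MonoidHom.mul_apply]
    rw [mul_comm]
    rfl
  · refine Subtype.ext (MonoidHom.ext fun w => ?_)
    have := DFunLike.congr_fun (congrArg Subtype.val he) (e.symm w)
    simpa [col0, row0] using this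

/-- The norm of a member is `1` and it is orthogonal to the principal character. -/
theorem eta_totals (hχ : IsCyclicTIFamily W₁ W₂ χ) (i : Row W₁ W₂) (j : Col W₁ W₂)
    (hij : i ≠ row0 W₁ W₂ ∨ j ≠ col0 W₁ W₂) :
    muOn Set.univ (fun g => ‖eta χ i j g‖ ^ 2) = 1 ∧ muOn Set.univ (fun g => (eta χ i j g).re) = 0 := by
  obtain ⟨h1, h2⟩ := muOn_univ (eta χ i j)
  rw [h1, h2, eta_orthonormal hχ, if_pos ⟨rfl, rfl⟩, Complex.one_re, ← eta_zero hχ, eta_orthonormal hχ,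
    if_neg fun e => hij.elim (fun h => h e.1) (fun h => h e.2), Complex.zero_re]
  exact ⟨rfl, rfl⟩

/-- What the TI set and the two supports leave of `|η|² + ε η`. -/
theorem rest_le (c : PairCtx S T W₁ W₂ U V Ns Ks Nt Kt u v χ)
    (hsplit : ∀ f : G → ℝ, muOn Set.univ f = muOn (tiSet W₁ W₂) f +
      muOn (hitSet (sideSet Ns Ks) (Cfsg.supportR S)) f + muOn (hitSet (sideSet Nt Kt) (Cfsg.supportR T)) f +
      muOn (restSet S T W₁ W₂ Ns Ks Nt Kt) f)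
    (i : Row W₁ W₂) (j : Col W₁ W₂) (hij : i ≠ row0 W₁ W₂ ∨ j ≠ col0 W₁ W₂) (ε : ℤ) {t₂ t₁ lS lT : ℝ}
    (h₂ : muOn (tiSet W₁ W₂) (fun g => ‖eta χ i j g‖ ^ 2) = t₂)
    (h₁ : muOn (tiSet W₁ W₂) (fun g => (eta χ i j g).re) = t₁)
    (hS : lS ≤ muOn (hitSet (sideSet Ns Ks) (Cfsg.supportR S)) (fun g => ‖eta χ i j g‖ ^ 2) +
      (ε : ℝ) * muOn (hitSet (sideSet Ns Ks) (Cfsg.supportR S)) (fun g => (eta χ i j g).re))
    (hT : lT ≤ muOn (hitSet (sideSet Nt Kt) (Cfsg.supportR T)) (fun g => ‖eta χ i j g‖ ^ 2) +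
      (ε : ℝ) * muOn (hitSet (sideSet Nt Kt) (Cfsg.supportR T)) (fun g => (eta χ i j g).re)) :
    muOn (restSet S T W₁ W₂ Ns Ks Nt Kt) (fun g => ‖eta χ i j g‖ ^ 2 + (ε : ℝ) * (eta χ i j g).re) ≤
      1 - t₂ - (ε : ℝ) * t₁ - lS - lT := by
  obtain ⟨e₂, e₁⟩ := eta_totals c.family i j hij
  have s₂ := hsplit fun g => ‖eta χ i j g‖ ^ 2
  have s₁ := hsplit fun g => (eta χ i j g).re
  rw [e₂, h₂] at s₂
  rw [e₁, h₁] at s₁
  rw [muOn_add, muOn_smul]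
  linear_combination hS + hT - s₂ - (ε : ℝ) * s₁

/-- What is used of the TI set and of the partition of `G`. -/
structure TIFacts (S T W₁ W₂ Ns Ks Nt Kt : Subgroup G) (χ : (↥(W₁ ⊔ W₂) →* ℂˣ) → (G → ℂ)) : Prop where
  swap : IsCyclicTIFamily W₂ W₁ (famSwap χ)
  split : ∀ f : G → ℝ, muOn Set.univ f = muOn (tiSet W₁ W₂) f +
      muOn (hitSet (sideSet Ns Ks) (Cfsg.supportR S)) f + muOn (hitSet (sideSet Nt Kt) (Cfsg.supportR T)) f +
      muOn (restSet S T W₁ W₂ Ns Ks Nt Kt) f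
  sq : ∀ i j, muOn (tiSet W₁ W₂) (fun g => ‖eta χ i j g‖ ^ 2) =
    ((Nat.card W₂ : ℝ) - 1) * ((Nat.card W₁ : ℝ) - 1) / ((Nat.card W₂ : ℝ) * Nat.card W₁)
  re_z : ∀ i j, i ≠ row0 W₁ W₂ → j ≠ col0 W₁ W₂ →
    muOn (tiSet W₁ W₂) (fun g => (eta χ i j g).re) = 1 / ((Nat.card W₂ : ℝ) * Nat.card W₁)
  re_a : ∀ i, i ≠ row0 W₁ W₂ → muOn (tiSet W₁ W₂) (fun g => (eta χ i (col0 W₁ W₂) g).re) =
    -(((Nat.card W₂ : ℝ) - 1) / ((Nat.card W₂ : ℝ) * Nat.card W₁))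
  re_b : ∀ j, j ≠ col0 W₁ W₂ → muOn (tiSet W₁ W₂) (fun g => (eta χ (row0 W₁ W₂) j g).re) =
    -(((Nat.card W₁ : ℝ) - 1) / ((Nat.card W₂ : ℝ) * Nat.card W₁))

section Five

variable [Fintype S] [Fintype T] [Fintype ↥(Ns.subgroupOf S)] [Fintype ↥(Nt.subgroupOf T)]
  (c : PairCtx S T W₁ W₂ U V Ns Ks Nt Kt u v χ) (F : TIFacts S T W₁ W₂ Ns Ks Nt Kt χ)
  (hAS : DadeHypothesis (sideSet Ns Ks) S (Cfsg.supportR S)) (hAT : DadeHypothesis (sideSet Nt Kt) T (Cfsg.supportR T))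
include c F hAS hAT

theorem budget_b_sq {j : Col W₁ W₂} (hj : j ≠ col0 W₁ W₂) :
    muOn (restSet S T W₁ W₂ Ns Ks Nt Kt) (fun g => ‖eta χ (row0 W₁ W₂) j g‖ ^ 2) ≤
      ((Nat.card W₁ : ℝ) - 1) / ((Nat.card W₂ : ℝ) * Nat.card W₁) +
        u / ((Nat.card W₁ : ℝ) * Ks.relIndex Ns) := by
  have hS := sideMu_eta_ge c.minimal.1 c.sideS hAS c.typeS.selfNormalizing c.family (row0 W₁ W₂) hj (ε := 0)
    (by norm_num)
  have hT := sideMu_nonneg c.sideT hAT (eta_gen c.family (row0 W₁ W₂) j) (ε := 0) (by norm_num)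
  have h := rest_le c F.split (row0 W₁ W₂) j (Or.inr hj) 0 (F.sq _ _) (F.re_b j hj) hS hT
  simp only [Int.cast_zero, zero_mul, add_zero, zero_pow two_ne_zero, sub_zero] at h
  refine h.trans (le_of_eq ?_)
  have := c.sideS.n_pos
  have := c.sideS.W₁_prime.pos
  have := c.sideS.W₂_prime.pos
  field_simp
  ring

theorem budget_b_sub {j : Col W₁ W₂} (hj : j ≠ col0 W₁ W₂) :
    muOn (restSet S T W₁ W₂ Ns Ks Nt Kt)
        (fun g => ‖eta χ (row0 W₁ W₂) j g‖ ^ 2 - (eta χ (row0 W₁ W₂) j g).re) ≤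
      ((u : ℝ) + 1) / ((Nat.card W₁ : ℝ) * Ks.relIndex Ns) := by
  have hS := sideMu_eta_ge c.minimal.1 c.sideS hAS c.typeS.selfNormalizing c.family (row0 W₁ W₂) hj (ε := -1)
    (by norm_num)
  have hT := sideMu_nonneg c.sideT hAT (eta_gen c.family (row0 W₁ W₂) j) (ε := -1) (by norm_num)
  have h := rest_le c F.split (row0 W₁ W₂) j (Or.inr hj) (-1) (F.sq _ _) (F.re_b j hj) hS hT
  simp only [Int.cast_neg, Int.cast_one, neg_one_mul, ← sub_eq_add_neg] at h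
  refine h.trans (le_of_eq ?_)
  have := c.sideS.n_pos
  have := c.sideS.W₁_prime.pos
  have := c.sideS.W₂_prime.pos
  field_simp
  ring

theorem budget_a_sub {i : Row W₁ W₂} (hi : i ≠ row0 W₁ W₂) :
    muOn (restSet S T W₁ W₂ Ns Ks Nt Kt)
        (fun g => ‖eta χ i (col0 W₁ W₂) g‖ ^ 2 - (eta χ i (col0 W₁ W₂) g).re) ≤
      ((v : ℝ) + 1) / ((Nat.card W₂ : ℝ) * Kt.relIndex Nt) := by
  obtain ⟨i', j', he, hne⟩ := exists_swap χ i (col0 W₁ W₂)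
  have hS := sideMu_nonneg c.sideS hAS (eta_gen c.family i (col0 W₁ W₂)) (ε := -1) (by norm_num)
  have hT := sideMu_eta_ge c.minimal.1 c.sideT hAT c.typeT.selfNormalizing F.swap i' (hne hi) (ε := -1)
    (by norm_num)
  rw [he] at hT
  have h := rest_le c F.split i (col0 W₁ W₂) (Or.inl hi) (-1) (F.sq _ _) (F.re_a i hi) hS hT
  simp only [Int.cast_neg, Int.cast_one, neg_one_mul, ← sub_eq_add_neg] at h
  refine h.trans (le_of_eq ?_)
  have := c.sideT.n_pos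
  have := c.sideS.W₁_prime.pos
  have := c.sideS.W₂_prime.pos
  field_simp
  ring

theorem budget_z_sq {i : Row W₁ W₂} {j : Col W₁ W₂} (hi : i ≠ row0 W₁ W₂) (hj : j ≠ col0 W₁ W₂) :
    muOn (restSet S T W₁ W₂ Ns Ks Nt Kt) (fun g => ‖eta χ i j g‖ ^ 2) ≤
      u / ((Nat.card W₁ : ℝ) * Ks.relIndex Ns) + v / ((Nat.card W₂ : ℝ) * Kt.relIndex Nt) -
        1 / ((Nat.card W₂ : ℝ) * Nat.card W₁) := by
  obtain ⟨i', j', he, hne⟩ := exists_swap χ i j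
  have hS := sideMu_eta_ge c.minimal.1 c.sideS hAS c.typeS.selfNormalizing c.family i hj (ε := 0) (by norm_num)
  have hT := sideMu_eta_ge c.minimal.1 c.sideT hAT c.typeT.selfNormalizing F.swap i' (hne hi) (ε := 0)
    (by norm_num)
  rw [he] at hT
  have h := rest_le c F.split i j (Or.inl hi) 0 (F.sq _ _) (F.re_z i j hi hj) hS hT
  simp only [Int.cast_zero, zero_mul, add_zero, zero_pow two_ne_zero, sub_zero] at h
  refine h.trans (le_of_eq ?_)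
  have := c.sideS.n_pos
  have := c.sideT.n_pos
  have := c.sideS.W₁_prime.pos
  have := c.sideS.W₂_prime.pos
  field_simp
  ring

theorem budget_z_add {i : Row W₁ W₂} {j : Col W₁ W₂} (hi : i ≠ row0 W₁ W₂) (hj : j ≠ col0 W₁ W₂) :
    muOn (restSet S T W₁ W₂ Ns Ks Nt Kt) (fun g => ‖eta χ i j g‖ ^ 2 + (eta χ i j g).re) ≤
      ((u : ℝ) + 1) / ((Nat.card W₁ : ℝ) * Ks.relIndex Ns) +
        ((v : ℝ) + 1) / ((Nat.card W₂ : ℝ) * Kt.relIndex Nt) - 2 / ((Nat.card W₂ : ℝ) * Nat.card W₁) := by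
  obtain ⟨i', j', he, hne⟩ := exists_swap χ i j
  have hS := sideMu_eta_ge c.minimal.1 c.sideS hAS c.typeS.selfNormalizing c.family i hj (ε := 1) (by norm_num)
  have hT := sideMu_eta_ge c.minimal.1 c.sideT hAT c.typeT.selfNormalizing F.swap i' (hne hi) (ε := 1)
    (by norm_num)
  rw [he] at hT
  have h := rest_le c F.split i j (Or.inl hi) 1 (F.sq _ _) (F.re_z i j hi hj) hS hT
  simp only [Int.cast_one, one_mul] at h
  refine h.trans (le_of_eq ?_)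
  have := c.sideS.n_pos
  have := c.sideT.n_pos
  have := c.sideS.W₁_prime.pos
  have := c.sideS.W₂_prime.pos
  field_simp
  ring

omit c F hAS hAT in
theorem quad_nonneg {z : ℂ} (hz : ∃ n : ℤ, z = n) {ε : ℤ} (hε : |ε| ≤ 1) :
    0 ≤ ‖z‖ ^ 2 + (ε : ℝ) * z.re := by
  obtain ⟨n, rfl⟩ := hz
  rw [Complex.norm_intCast, sq_abs, Complex.intCast_re]
  exact_mod_cast int_sq_add_nonneg n hε

/-- Section 3: the moment inequality of a pair. -/
theorem moment_ineq {i : Row W₁ W₂} {j : Col W₁ W₂} (hi : i ≠ row0 W₁ W₂) (hj : j ≠ col0 W₁ W₂)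
    (hint : ∀ g ∈ restSet S T W₁ W₂ Ns Ks Nt Kt, ∃ n : ℤ, eta χ i j g = n) :
    2 / ((Nat.card W₂ : ℝ) * Nat.card W₁) ≤ ((u : ℝ) + 1) / ((Nat.card W₁ : ℝ) * Ks.relIndex Ns) +
      ((v : ℝ) + 1) / ((Nat.card W₂ : ℝ) * Kt.relIndex Nt) := by
  have h := budget_z_add c F hAS hAT hi hj
  have h0 : 0 ≤ muOn (restSet S T W₁ W₂ Ns Ks Nt Kt) (fun g => ‖eta χ i j g‖ ^ 2 + (eta χ i j g).re) :=
    muOn_nonneg fun g hg => by
      simpa using quad_nonneg (hint g hg) (ε := 1) (by norm_num)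
  linarith

end Five

end Cfsg.Lib.OddOrder
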