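import Cfsg.Agent.Lib.Char.CyclicTIExist
import Cfsg.Agent.Lib.Char.Galois
import Cfsg.Agent.S1506

/-!
# Values of the cyclic TI family off the TI set

The power twist permutes the family; off the conjugates of `W \ (W₁ ∪ W₂)` the family is additive,
`χ (φ ψ) = χ φ + χ ψ - 1`; where all `χ φ`, `φ` nontrivial on one factor, agree they are integers.
-/

set_option autoImplicit false
set_option linter.style.haveILetI false

namespace Cfsg.Lib.OddOrder

open Cfsg Cfsg.Lib.Char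

universe u

variable {G : Type u} [Group G] [Fintype G] {W₁ W₂ : Subgroup G}
  {χ : (↥(W₁ ⊔ W₂) →* ℂˣ) → (G → ℂ)}

/-- The power twist permutes the family. -/
theorem eta_comp_pow (hW : Cfsg.IsSelfNormalizingCyclic W₁ W₂) (hodd : Odd (Nat.card ↥(W₁ ⊔ W₂)))
    (hχ : Cfsg.IsCyclicTIFamily W₁ W₂ χ) (ω : ↥(W₁ ⊔ W₂) →* ℂˣ) {k : ℕ}
    (hk : k.Coprime (Nat.card G)) : (fun x => χ ω (x ^ k)) = χ (ω ^ k) := by
  classical
  obtain ⟨-, -, hdisj, hcomm, hcyc, -⟩ := id hW
  haveI : Fintype ↥(W₁ ⊔ W₂) := Fintype.ofFinite _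
  have hab : ∀ a b : ↥(W₁ ⊔ W₂), a * b = b * a := fun a b => by
    obtain ⟨c, hc⟩ := hcyc.exists_generator
    obtain ⟨i, rfl⟩ := hc a
    obtain ⟨j, rfl⟩ := hc b
    exact zpow_mul_comm c i j
  haveI : Finite (↥(W₁ ⊔ W₂) →* ℂˣ) := Finite.of_equiv _
    (linearCharEquiv.trans (Equiv.subtypeUnivEquiv fun χ => degree_eq_one_of_comm hab χ.2)).symm
  obtain ⟨p, q, hp, hq, hpq, hp1, hq2⟩ := cti_exists_proj hdisj hcomm
  let A := {f : ↥(W₁ ⊔ W₂) →* ℂˣ // ∀ w : ↥(W₁ ⊔ W₂), (w : G) ∈ W₂ → f w = 1}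
  let B := {f : ↥(W₁ ⊔ W₂) →* ℂˣ // ∀ w : ↥(W₁ ⊔ W₂), (w : G) ∈ W₁ → f w = 1}
  have hA : Nat.card A = Nat.card W₁ := cti_card_trivial_on_right hdisj hcomm hab
  have hB : Nat.card B = Nat.card W₂ := cti_card_trivial_on_left hdisj hcomm hab
  have hthree : ∀ {H : Subgroup G}, H ≠ ⊥ → H ≤ W₁ ⊔ W₂ → 3 ≤ Nat.card H := by
    intro H hne hle
    have h1 : 1 < Nat.card H :=
      Finite.one_lt_card_iff_nontrivial.mpr ((Subgroup.nontrivial_iff_ne_bot H).mpr hne)
    have h2 : Odd (Nat.card H) := hodd.of_dvd_nat (Subgroup.card_dvd_of_le hle)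
    obtain ⟨c, hc⟩ := h2
    omega
  have hA3 : 3 ≤ Nat.card A := hA ▸ hthree hW.1 le_sup_left
  have hB3 : 3 ≤ Nat.card B := hB ▸ hthree hW.2.1 le_sup_right
  let proj1 : (↥(W₁ ⊔ W₂) →* ℂˣ) → A := fun f =>
    ⟨f.comp p, fun x hx => by rw [MonoidHom.comp_apply, (hq2 x hx).1, map_one]⟩
  let proj2 : (↥(W₁ ⊔ W₂) →* ℂˣ) → B := fun f =>
    ⟨f.comp q, fun x hx => by rw [MonoidHom.comp_apply, (hp1 x hx).2, map_one]⟩
  have hsplit : ∀ f, (proj1 f).1 * (proj2 f).1 = f := fun f => by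
    ext x
    show ((f (p x) * f (q x) : ℂˣ) : ℂ) = _
    rw [← map_mul, hpq]
  have hid : ∀ (a : A) (b : B), proj1 (a.1 * b.1) = a ∧ proj2 (a.1 * b.1) = b := by
    intro a b
    obtain ⟨e1, e2⟩ := cti_pair_inj
      (fun w hw => ⟨(proj1 (a.1 * b.1)).2 w hw, a.2 w hw⟩)
      (fun w hw => ⟨(proj2 (a.1 * b.1)).2 w hw, b.2 w hw⟩) (hsplit (a.1 * b.1))
    exact ⟨Subtype.ext e1, Subtype.ext e2⟩
  have hcf : ∀ f, IsClassFunction G (χ f) := fun f => by
    rcases hχ.irr_or_neg f with h | h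
    · exact h.isClassFunction
    · intro a b
      simpa using h.isClassFunction a b
  -- the power twist permutes the family
  set f : G → ℂ := fun x => χ ω (x ^ k) with hf
  have hirr : IsIrrCharacter G f ∨ IsIrrCharacter G (-f) := by
    rcases hχ.irr_or_neg ω with h | h
    · exact Or.inl (isIrrCharacter_comp_pow hk h)
    · exact Or.inr (by have h' := isIrrCharacter_comp_pow hk h; exact h')
  have hnorm : classInner f f = 1 := by
    rcases hirr with h | h
    · exact classInner_irr_self h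
    · simpa [classInner_neg_left, classInner_neg_right] using classInner_irr_self h
  have hfc : IsClassFunction G f := fun a b => by
    simp only [hf, conj_pow]
    exact hcf ω _ _
  -- at most one member pairs with `f`
  obtain ⟨ω₁, hω₁⟩ : ∃ ω₁, ∀ ω', ω' ≠ ω₁ → classInner f (χ ω') = 0 := by
    by_cases hex : ∃ ω₁, classInner f (χ ω₁) ≠ 0
    · obtain ⟨ω₁, h1⟩ := hex
      refine ⟨ω₁, fun ω' hne => ?_⟩
      by_contra h2
      have h0 := hχ.orthonormal ω' ω₁
      rw [if_neg hne] at h0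
      have key : ∀ a b : G → ℂ, (IsIrrCharacter G a ∨ IsIrrCharacter G (-a)) →
          (IsIrrCharacter G b ∨ IsIrrCharacter G (-b)) → classInner a b ≠ 0 → a = b ∨ a = -b := by
        intro a b ha hb hab'
        by_contra hcon
        push Not at hcon
        apply hab'
        rcases ha with ha | ha <;> rcases hb with hb | hb
        · exact classInner_irr_ne ha hb hcon.1
        · simpa [classInner_neg_right] using classInner_irr_ne ha hb hcon.2
        · simpa [classInner_neg_left] using classInner_irr_ne ha hb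
            (fun e => hcon.2 (by rw [← e, neg_neg]))
        · simpa [classInner_neg_left, classInner_neg_right] using classInner_irr_ne ha hb
            (fun e => hcon.1 (neg_injective e))
      have hn : classInner (χ ω') (χ ω') = 1 := by rw [hχ.orthonormal, if_pos rfl]
      rcases key _ _ hirr (hχ.irr_or_neg ω₁) h1 with e | e <;>
        rcases key _ _ hirr (hχ.irr_or_neg ω') h2 with e' | e' <;>
        · first
            | rw [show χ ω₁ = χ ω' from e.symm.trans e'] at h0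
            | rw [show χ ω₁ = -χ ω' from e.symm.trans e'] at h0
            | rw [show χ ω₁ = -χ ω' from neg_eq_iff_eq_neg.mp (e.symm.trans e')] at h0
            | rw [show χ ω₁ = χ ω' from neg_injective (e.symm.trans e')] at h0
          simp only [classInner_neg_right, hn, neg_eq_zero, one_ne_zero] at h0
    · push Not at hex
      exact ⟨1, fun ω' _ => hex ω'⟩
  set D := f - χ (ω ^ k) with hD
  set a : (↥(W₁ ⊔ W₂) →* ℂˣ) → ℂ := fun ω' => classInner D (χ ω') with ha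
  have hsupp : ∀ ω', ω' ≠ ω₁ → ω' ≠ ω ^ k → a ω' = 0 := fun ω' e1 e2 => by
    simp only [ha, hD, classInner_sub_left, hω₁ ω' e1, hχ.orthonormal, if_neg e2.symm, sub_zero]
  have hDV : ∀ w : ↥(W₁ ⊔ W₂), (w : G) ∉ W₁ → (w : G) ∉ W₂ → D w = 0 := by
    intro w h1 h2
    have hkw : k.Coprime (orderOf (w : G)) := hk.coprime_dvd_right (orderOf_dvd_natCard _)
    have hmem : ∀ H : Subgroup G, (w : G) ^ k ∈ H → (w : G) ∈ H := fun H h => by
      obtain ⟨m, hm⟩ := exists_pow_eq_self_of_coprime hkw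
      exact hm ▸ H.pow_mem h m
    have e : χ ω ((w : G) ^ k) = ((ω ^ k) w : ℂ) := by
      have := hχ.eq_on ω (w ^ k) (fun h => h1 (hmem W₁ (by simpa using h)))
        (fun h => h2 (hmem W₂ (by simpa using h)))
      simpa [MonoidHom.pow_apply, map_pow] using this
    simp only [hD, hf, Pi.sub_apply]
    rw [e, hχ.eq_on (ω ^ k) w h1 h2, sub_self]
  have hrect : ∀ (x x' : A) (y y' : B),
      a (x.1 * y.1) + a (x'.1 * y'.1) = a (x.1 * y'.1) + a (x'.1 * y.1) := fun x x' y y' =>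
    Cfsg.Agent.S1506.result W₁ W₂ hW χ hχ D (fun u v => by
      simp only [hD, Pi.sub_apply, hfc u v, hcf _ u v]) hDV _ _ _ _
      (fun w hw => ⟨x.2 w hw, x'.2 w hw⟩) (fun w hw => ⟨y.2 w hw, y'.2 w hw⟩)
  have havoid : ∀ {T : Type _} [Finite T] (u v : T), 3 ≤ Nat.card T → ∃ t : T, t ≠ u ∧ t ≠ v := by
    intro T _ u v h3
    by_contra h
    push Not at h
    haveI := Fintype.ofFinite T
    have hsub : Finset.univ ⊆ ({u, v} : Finset T) := fun t _ => by
      by_cases e : t = u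
      · simp [e]
      · simp [h t e]
    have h2 := (Finset.card_le_card hsub).trans Finset.card_le_two
    rw [Finset.card_univ, ← Nat.card_eq_fintype_card] at h2
    omega
  have hzero : ∀ x y, (x ≠ proj1 ω₁ ∧ x ≠ proj1 (ω ^ k)) ∨
      (y ≠ proj2 ω₁ ∧ y ≠ proj2 (ω ^ k)) → a ((x : A).1 * (y : B).1) = 0 := by
    intro x y h
    refine hsupp _ (fun e => ?_) (fun e => ?_) <;>
      · have e1 := (hid x y).1
        have e2 := (hid x y).2
        rw [e] at e1 e2
        rcases h with h | h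
        · first | exact h.1 e1.symm | exact h.2 e1.symm
        · first | exact h.1 e2.symm | exact h.2 e2.symm
  have hall : ∀ (x : A) (y : B), a (x.1 * y.1) = 0 := by
    intro x y
    obtain ⟨x', hx'⟩ := havoid (proj1 ω₁) (proj1 (ω ^ k)) hA3
    obtain ⟨y', hy'⟩ := havoid (proj2 ω₁) (proj2 (ω ^ k)) hB3
    have h0 := hrect x x' y y'
    rw [hzero x' y' (Or.inl hx'), hzero x y' (Or.inr hy'), hzero x' y (Or.inl hx'), zero_add,
      add_zero] at h0
    exact h0
  have h1 : classInner f (χ (ω ^ k)) = 1 := by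
    have := hall (proj1 (ω ^ k)) (proj2 (ω ^ k))
    rw [hsplit] at this
    simp only [ha, hD, classInner_sub_left, hχ.orthonormal, if_pos] at this
    linear_combination this
  have h2 : classInner D D = 0 := by
    have h3 : classInner (χ (ω ^ k)) f = 1 := by rw [← classInner_conj_symm, h1, map_one]
    simp only [hD, classInner_sub_left, classInner_sub_right, hnorm, h1, h3, hχ.orthonormal,
      if_pos]
    ring
  exact sub_eq_zero.mp (eq_zero_of_classInner_self h2)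

/-- `g` is conjugate to no element of `W` outside `W₁ ∪ W₂`. -/
def OffTI (W₁ W₂ : Subgroup G) (g : G) : Prop :=
  ∀ x : G, x * g * x⁻¹ ∈ W₁ ⊔ W₂ → x * g * x⁻¹ ∈ W₁ ∨ x * g * x⁻¹ ∈ W₂

/-- Off the TI set the family is additive. -/
theorem eta_mul_off (hχ : Cfsg.IsCyclicTIFamily W₁ W₂ χ) {φ ψ : ↥(W₁ ⊔ W₂) →* ℂˣ}
    (hφ : φ ≠ 1) (hψ : ψ ≠ 1) (hφ₂ : ∀ w : ↥(W₁ ⊔ W₂), (w : G) ∈ W₂ → φ w = 1)
    (hψ₁ : ∀ w : ↥(W₁ ⊔ W₂), (w : G) ∈ W₁ → ψ w = 1) {g : G} (hg : OffTI W₁ W₂ g) :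
    χ (φ * ψ) g = χ φ g + χ ψ g - 1 := by
  classical
  have h := congrFun (hχ.induced_eq φ ψ hφ hψ hφ₂ hψ₁) g
  have h0 : indFun (W₁ ⊔ W₂) (ctiAlpha φ ψ) g = 0 := by
    rw [indFun]
    refine mul_eq_zero_of_right _ (Finset.sum_eq_zero fun x _ => ?_)
    simp only [extendByZero]
    by_cases hx : x⁻¹ * g * x ∈ W₁ ⊔ W₂
    · rw [show x⁻¹ * g * x = ((⟨_, hx⟩ : ↥(W₁ ⊔ W₂)) : G) from rfl,
        Subtype.val_injective.extend_apply]
      exact ctiAlpha_eq_zero hφ₂ hψ₁ (by simpa using hg x⁻¹ (by simpa using hx))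
    · rw [Function.extend_apply']
      · rfl
      · rintro ⟨⟨y, hy⟩, rfl⟩
        exact hx hy
  have h' : indFun (W₁ ⊔ W₂) (fun w => 1 - (φ w : ℂ) - (ψ w : ℂ) + (φ w : ℂ) * (ψ w : ℂ)) g = 0 := by
    rw [← h0]
    rfl
  rw [h'] at h
  linear_combination -h

/-- Where the members of one axis agree, they are rational integers. -/
theorem eta_int_of_agree (hW : Cfsg.IsSelfNormalizingCyclic W₁ W₂)
    (hodd : Odd (Nat.card ↥(W₁ ⊔ W₂))) (hχ : Cfsg.IsCyclicTIFamily W₁ W₂ χ)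
    {W : Subgroup G} {φ : ↥(W₁ ⊔ W₂) →* ℂˣ} (hφ : φ ≠ 1)
    (hφW : ∀ w : ↥(W₁ ⊔ W₂), (w : G) ∈ W → φ w = 1) {g : G}
    (hagree : ∀ φ' : ↥(W₁ ⊔ W₂) →* ℂˣ, φ' ≠ 1 →
      (∀ w : ↥(W₁ ⊔ W₂), (w : G) ∈ W → φ' w = 1) → χ φ' g = χ φ g) :
    ∃ n : ℤ, χ φ g = n := by
  have hinv : ∀ k : ℕ, k.Coprime (Nat.card G) → χ φ (g ^ k) = χ φ g := by
    intro k hk
    rw [show χ φ (g ^ k) = χ (φ ^ k) g from congrFun (eta_comp_pow hW hodd hχ φ hk) g]
    refine hagree _ (fun e => hφ ?_) (fun w hw => by simp [MonoidHom.pow_apply, hφW w hw])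
    ext w
    have hkw : (Nat.card ↥(W₁ ⊔ W₂)).Coprime k :=
      (hk.coprime_dvd_right (Subgroup.card_subgroup_dvd_card _)).symm
    obtain ⟨v, rfl⟩ := (powCoprime hkw).surjective w
    have := congrArg (fun F : ↥(W₁ ⊔ W₂) →* ℂˣ => F v) e
    simp only [MonoidHom.pow_apply, MonoidHom.one_apply] at this
    simp [powCoprime, map_pow, this]
  rcases hχ.irr_or_neg φ with h | h
  · exact exists_int_of_pow_invariant h.isCharacter g hinv
  · obtain ⟨m, hm⟩ := exists_int_of_pow_invariant h.isCharacter g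
      (fun k hk => by simp [hinv k hk])
    exact ⟨-m, by push_cast; rw [← hm]; simp⟩

/-- The three integers of the cyclic TI family off the TI set are not all zero. -/
theorem one_le_sq_sum (a b : ℤ) : 1 ≤ a ^ 2 + b ^ 2 + (a + b - 1) ^ 2 := by
  by_contra h
  have h1 : a ^ 2 + b ^ 2 + (a + b - 1) ^ 2 ≤ 0 := by omega
  have ha : a = 0 := by nlinarith [sq_nonneg a, sq_nonneg b, sq_nonneg (a + b - 1)]
  have hb : b = 0 := by nlinarith [sq_nonneg a, sq_nonneg b, sq_nonneg (a + b - 1)]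
  subst ha hb
  norm_num at h1

end Cfsg.Lib.OddOrder
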