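import Cfsg.Agent.Lib.OddOrder.Numeric
import Cfsg.Agent.Lib.OddOrder.PairExists
import Cfsg.Agent.Lib.OddOrder.TIMean
import Cfsg.Agent.Lib.OddOrder.Budget

/-!
# Both sides of a pair are full

Sections 3 and 4: the moment inequality forces both sides to be full with `[N, N] = K₀`, so both are the
elementary abelian `M_F` with a cyclic `U` of order `(p ^ q - 1) / (p - 1)`.
-/

set_option autoImplicit false
set_option linter.unusedSectionVars false
set_option linter.style.haveILetI false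

namespace Cfsg.Lib.OddOrder

open Cfsg Cfsg.Lib.Char Cfsg.Lib.Char.FT
open scoped ComplexConjugate Classical commutatorElement

universe u'

variable {G : Type u'} [Group G] [Fintype G] {S T W₁ W₂ U V Ns Ks Nt Kt : Subgroup G} {u v : ℕ}
  {χ : (↥(W₁ ⊔ W₂) →* ℂˣ) → (G → ℂ)}

theorem PairCtx.tiFacts (c : PairCtx S T W₁ W₂ U V Ns Ks Nt Kt u v χ) :
    TIFacts S T W₁ W₂ Ns Ks Nt Kt χ where
  swap := famSwap_family c.family
  split := muOn_split c
  sq := muOn_ti_sq c.typeS.selfNormalizing c.family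
  re_z _ _ hi hj := muOn_ti_re_z c.typeS.selfNormalizing c.family hi hj
  re_a _ hi := (muOn_ti_re_a c.typeS.selfNormalizing c.family hi).trans (neg_div _ _)
  re_b _ hj := (muOn_ti_re_b c.typeS.selfNormalizing c.family hj).trans (neg_div _ _)

/-- All members take integral values on the rest of `G`. -/
theorem PairCtx.rest_int (c : PairCtx S T W₁ W₂ U V Ns Ks Nt Kt u v χ) :
    ∀ g ∈ restSet S T W₁ W₂ Ns Ks Nt Kt, ∀ (i : Row W₁ W₂) (j : Col W₁ W₂), ∃ n : ℤ, eta χ i j g = n := by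
  intro g hg i j
  obtain ⟨na, nb, h1, h2, h3⟩ := rest_values c hg
  by_cases hi : i = row0 W₁ W₂ <;> by_cases hj : j = col0 W₁ W₂
  · exact ⟨1, by rw [hi, hj, eta_zero c.family]; simp⟩
  · exact ⟨nb, hi ▸ h2 j hj⟩
  · exact ⟨na, hj ▸ h1 i hi⟩
  · exact ⟨_, h3 i j hi hj⟩

/-- The moment inequality, cleared. -/
theorem PairCtx.two_le (c : PairCtx S T W₁ W₂ U V Ns Ks Nt Kt u v χ) :
    (2 : ℝ) ≤ (Nat.card W₂ : ℝ) * ((u : ℝ) + 1) / Ks.relIndex Ns +
      (Nat.card W₁ : ℝ) * ((v : ℝ) + 1) / Kt.relIndex Nt := by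
  have hW := c.typeS.selfNormalizing
  haveI := finite_hom (G := G) hW.2.2.2.2.1
  haveI := Fintype.ofFinite (Row W₁ W₂)
  haveI := Fintype.ofFinite (Col W₁ W₂)
  obtain ⟨i, hi⟩ := Fintype.exists_ne_of_one_lt_card (α := Row W₁ W₂)
    (by rw [← Nat.card_eq_fintype_card, card_row hW]; exact c.sideS.W₁_prime.one_lt) (row0 W₁ W₂)
  obtain ⟨j, hj⟩ := Fintype.exists_ne_of_one_lt_card (α := Col W₁ W₂)
    (by rw [← Nat.card_eq_fintype_card, card_col hW]; exact c.sideS.W₂_prime.one_lt) (col0 W₁ W₂)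
  have h := moment_ineq c c.tiFacts c.dadeS c.dadeT hi hj (fun g hg => c.rest_int g hg i j)
  have hp : (0 : ℝ) < Nat.card W₂ := Nat.cast_pos.2 Nat.card_pos
  have hq : (0 : ℝ) < Nat.card W₁ := Nat.cast_pos.2 Nat.card_pos
  have := mul_le_mul_of_nonneg_left h (mul_pos hp hq).le
  rw [mul_div_cancel₀ _ (mul_pos hp hq).ne', mul_add] at this
  refine this.trans (le_of_eq ?_)
  field_simp

/-- Both sides of a pair are full. -/
theorem both_full (hS : SideHyp S W₁ U W₂) (hT : SideHyp T W₂ V W₁) (hχ : IsCyclicTIFamily W₁ W₂ χ) :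
    ((sideD S U).relIndex U * (Nat.card W₂ - 1) + 1 = Nat.card W₂ ^ Nat.card W₁ ∧
        ⁅sideN S U, sideN S U⁆ = sideK S U) ∧
      ((sideD T V).relIndex V * (Nat.card W₁ - 1) + 1 = Nat.card W₁ ^ Nat.card W₂ ∧
        ⁅sideN T V, sideN T V⁆ = sideK T V) := by
  have hG := hS.minSimple
  have c := pairCtx_of hS hT (Or.inr rfl) (Or.inr rfl) hχ
  have hodd : ∀ X : Subgroup G, Odd (Nat.card X) := Cfsg.Lib.Local.Uniq.odd_subgroup hG
  have hcase : ∀ {M A U B : Subgroup G}, SideHyp M A U B →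
      (⁅sideN M U, sideN M U⁆).relIndex (sideN M U) = Nat.card B ^ Nat.card A →
      ⁅sideN M U, sideN M U⁆ = sideK M U := fun {M A U B} h e => by
    rcases h.relIndex_derived with ⟨h1, -⟩ | h1
    · exact h1
    · rw [e] at h1
      have : 0 < Nat.card B ^ Nat.card A := pow_pos Nat.card_pos _
      omega
  obtain ⟨⟨hu, hn⟩, hv, hm⟩ := full_of_two_le hS.p_prime hS.q_prime (hodd W₂) (hodd W₁) hS.card_ne.symm
    (hS.u_cases.imp_left And.left) (hT.u_cases.imp_left And.left)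
    (hS.relIndex_derived.imp_left And.right) (hT.relIndex_derived.imp_left And.right) c.two_le
  exact ⟨⟨hu, hcase hS hn⟩, hv, hcase hT hm⟩

/-- The data of a full pair. -/
theorem exists_full_pair (hG : Cfsg.IsMinSimpleOddOrder G)
    (hV : ∀ M : Subgroup G, IsCoatom M → ¬ IsOfTypeV M) :
    ∃ (S T W₁ W₂ U V : Subgroup G) (χ : (↥(W₁ ⊔ W₂) →* ℂˣ) → (G → ℂ)),
      SideHyp S W₁ U W₂ ∧ SideHyp T W₂ V W₁ ∧ Nat.card W₁ < Nat.card W₂ ∧
      (IsOfTypeII S ∨ IsOfTypeII T) ∧ (IsOfTypeII S ∨ IsOfTypeIII S ∨ IsOfTypeIV S) ∧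
      (IsOfTypeII T ∨ IsOfTypeIII T ∨ IsOfTypeIV T) ∧
      ((sideD S U).relIndex U * (Nat.card W₂ - 1) + 1 = Nat.card W₂ ^ Nat.card W₁ ∧
        ⁅sideN S U, sideN S U⁆ = sideK S U) ∧
      ((sideD T V).relIndex V * (Nat.card W₁ - 1) + 1 = Nat.card W₁ ^ Nat.card W₂ ∧
        ⁅sideN T V, sideN T V⁆ = sideK T V) ∧
      Nat.card U * (Nat.card W₂ - 1) + 1 = Nat.card W₂ ^ Nat.card W₁ ∧
      Nat.card V * (Nat.card W₁ - 1) + 1 = Nat.card W₁ ^ Nat.card W₂ ∧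
      PairCtx S T W₁ W₂ U V (fittingHallOf S) ⊥ (fittingHallOf T) ⊥ (Nat.card U) (Nat.card V) χ ∧
      (⊥ : Subgroup G).relIndex (fittingHallOf S) = Nat.card W₂ ^ Nat.card W₁ ∧
      (⊥ : Subgroup G).relIndex (fittingHallOf T) = Nat.card W₁ ^ Nat.card W₂ := by
  obtain ⟨S, T, W₁, W₂, U, V, χ, hS, hT, hlt, hII, tS, tT, c, -⟩ := exists_ctx hG hV
  obtain ⟨⟨hu, hKS⟩, hv, hKT⟩ := both_full hS hT c.family
  obtain ⟨eN, eK, -, eH, eU, -⟩ := hS.full_structure hu hKS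
  obtain ⟨eN', eK', -, eH', eV, -⟩ := hT.full_structure hv hKT
  refine ⟨S, T, W₁, W₂, U, V, χ, hS, hT, hlt, hII, tS, tT, ⟨hu, hKS⟩, ⟨hv, hKT⟩, by rw [eU]; exact hu,
    by rw [eV]; exact hv, ?_, by rw [Subgroup.relIndex_bot_left, eH], by rw [Subgroup.relIndex_bot_left, eH']⟩
  rw [eU, eV, ← eN, ← eN']
  rw [eK, eK'] at c
  exact c

end Cfsg.Lib.OddOrder
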