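import Mathlib

/-!
# The last inequality

For odd `q < p` with `u (p - 1) + 1 = p ^ q` and `v (q - 1) + 1 = q ^ p` a region of size `h ≥ (2 p q + 1) u` bounded
by the bridge of `T` and a region of size at least `v` bounded by the bridge of the first are incompatible.
-/

set_option autoImplicit false

namespace Cfsg.Lib.OddOrder

theorem pow_sq_lt {q p : ℕ} (hq : 3 ≤ q) (hp : 7 ≤ p) :
    p * q * (p * q + 1) + 1 < q ^ (p - 1) := by
  induction p, hp using Nat.le_induction with
  | base =>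
    have h1 : q ^ 6 = q ^ 2 * (q ^ 2 * q ^ 2) := by ring
    show 7 * q * (7 * q + 1) + 1 < q ^ 6
    rw [h1]
    nlinarith [Nat.pow_le_pow_left hq 2, Nat.mul_le_mul (Nat.pow_le_pow_left hq 2) (Nat.pow_le_pow_left hq 2)]
  | succ n hn ih =>
    have e : q ^ (n + 1 - 1) = q ^ (n - 1) * q := by
      rw [← pow_succ]; congr 1; omega
    rw [e]
    have h2 := Nat.mul_le_mul_left (q ^ (n - 1)) hq
    have h3 : (n + 1) * q * ((n + 1) * q + 1) + 1 ≤ 2 * (n * q * (n * q + 1) + 1) := by
      have h4 : (n + 1) * (n + 1) ≤ 2 * (n * n) := by nlinarith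
      have h5 : (n + 1) * q ≤ 2 * (n * q) := by nlinarith
      nlinarith [Nat.mul_le_mul_right (q * q) h4]
    omega

/-- The contradiction. -/
theorem last_step {p q u v h h' e' : ℕ} (hq : 3 ≤ q) (hqp : q < p) (hqo : Odd q) (hpo : Odd p)
    (hu : u * (p - 1) + 1 = p ^ q) (hv : v * (q - 1) + 1 = q ^ p) (hh : (2 * (p * q) + 1) * u ≤ h)
    (hT : ((h : ℝ) - 1) / ((p * q : ℕ) : ℝ) ≤ 2 + ((v : ℝ) - 1) / p) (hh' : v ≤ h') (he' : 0 < e')
    (he'le : e' ≤ p * q) (hM : ((h' : ℝ) - 1) / e' ≤ ((p * q : ℕ) : ℝ) + 1) : False := by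
  have hM' : h' ≤ p * q * (p * q + 1) + 1 := by
    rw [div_le_iff₀ (by exact_mod_cast he')] at hM
    have : (h' : ℝ) ≤ ((p * q * (p * q + 1) + 1 : ℕ) : ℝ) := by
      have h1 : (e' : ℝ) ≤ ((p * q : ℕ) : ℝ) := by exact_mod_cast he'le
      push_cast at *
      nlinarith
    exact_mod_cast this
  by_cases hp7 : 7 ≤ p
  · have h1 := pow_sq_lt (q := q) hq hp7
    have h2 : q ^ (p - 1) ≤ v := by
      by_contra hlt
      have h3 : (v + 1) * (q - 1) ≤ q ^ (p - 1) * (q - 1) := Nat.mul_le_mul_right _ (by omega)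
      have h4 : q ^ (p - 1) * (q - 1) + q ^ (p - 1) = q ^ p := by
        rw [← Nat.mul_succ, show (q - 1).succ = q by omega, ← pow_succ]
        congr 1
        omega
      have h5 : 1 ≤ q ^ (p - 1) := Nat.one_le_pow _ _ (by omega)
      have h6 : (v + 1) * (q - 1) = v * (q - 1) + (q - 1) := by ring
      have h7 : q ≤ q ^ (p - 1) := Nat.le_self_pow (by omega) q
      omega
    omega
  · obtain ⟨k, rfl⟩ := hpo
    obtain ⟨m, rfl⟩ := hqo
    have hk : k = 2 := by omega
    have hm : m = 1 := by omega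
    subst hk hm
    norm_num at hu hv hh
    have hu' : u = 31 := by omega
    have hv' : v = 121 := by omega
    subst hu' hv'
    rw [div_le_iff₀ (by norm_num)] at hT
    norm_num at hT
    have : (961 : ℝ) ≤ (h : ℝ) := by exact_mod_cast (by omega : 961 ≤ h)
    linarith

end Cfsg.Lib.OddOrder
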