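import Cfsg.Agent.Lib.OddOrder.Budget
import Cfsg.Agent.Lib.OddOrder.TIMean
import Cfsg.Agent.Lib.OddOrder.Region

/-!
# No region of index `q`

For a pair with both sides full and `q = |W₁| < p = |W₂|` there is no region inside the rest set whose index is
`q` and whose kernel quotient has order at least `u` (notes/ft_main.md, end of section 5).
-/

set_option autoImplicit false
set_option linter.unusedSectionVars false
set_option linter.style.haveILetI false

namespace Cfsg.Lib.OddOrder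

open Cfsg Cfsg.Lib.Char Cfsg.Lib.Char.FT
open scoped ComplexConjugate Classical

universe u'

section Numeric

/-- The standing inequalities of a full pair. -/
theorem full_bounds {p q u v : ℕ} (hq : 3 ≤ q) (hpq : q + 2 ≤ p) (hu : u * (p - 1) + 1 = p ^ q)
    (hv : v * (q - 1) + 1 = q ^ p) :
    (p : ℝ) ^ 2 + p + 1 ≤ u ∧ (u : ℝ) / (p ^ q : ℕ) ≤ 1 / ((p : ℝ) - 1) ∧
      (q : ℝ) ^ 2 + q + 1 ≤ v ∧
      ((v : ℝ) + 1) / (q ^ p : ℕ) ≤ 1 ∧ (v : ℝ) / (q ^ p : ℕ) ≤ 1 / 2 := by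
  have hp1 : 1 ≤ p := by omega
  have hq1 : 1 ≤ q := by omega
  have hu' : (u : ℝ) * ((p : ℝ) - 1) + 1 = (p ^ q : ℕ) := by rw [← hu]; push_cast [hp1]; ring
  have hv' : (v : ℝ) * ((q : ℝ) - 1) + 1 = (q ^ p : ℕ) := by rw [← hv]; push_cast [hq1]; ring
  have hp3 : (p : ℝ) ^ 3 ≤ (p ^ q : ℕ) := by exact_mod_cast Nat.pow_le_pow_right hp1 hq
  have hq3 : (q : ℝ) ^ 3 ≤ (q ^ p : ℕ) := by exact_mod_cast Nat.pow_le_pow_right hq1 (show 3 ≤ p by omega)
  have hp' : (5 : ℝ) ≤ p := by exact_mod_cast (show 5 ≤ p by omega)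
  have hq' : (3 : ℝ) ≤ q := by exact_mod_cast hq
  have hU : (p : ℝ) ^ 2 + p + 1 ≤ u := le_of_mul_le_mul_right (by nlinarith) (show (0 : ℝ) < (p : ℝ) - 1 by linarith)
  have hV : (q : ℝ) ^ 2 + q + 1 ≤ v := le_of_mul_le_mul_right (by nlinarith) (show (0 : ℝ) < (q : ℝ) - 1 by linarith)
  have hP : (0 : ℝ) < (p ^ q : ℕ) := lt_of_lt_of_le (by positivity) hp3
  have hQ : (0 : ℝ) < (q ^ p : ℕ) := lt_of_lt_of_le (by positivity) hq3
  refine ⟨hU, (div_le_div_iff₀ hP (by linarith)).2 (by linarith), hV, (div_le_one hQ).2 ?_,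
    (div_le_div_iff₀ hQ two_pos).2 ?_⟩
  · nlinarith
  · nlinarith

theorem regionQ_numeric {p q u v m : ℝ} (hq : 3 ≤ q) (hpq : q + 2 ≤ p) (hu : p ^ 2 + p + 1 ≤ u) (hv : q ^ 2 + q + 1 ≤ v)
    (hm : u ≤ m) : q / m + 1 / (q * u) + 1 / (p * v) < (q - 1) / (p * q) := by
  have hp : 0 < p := by linarith
  have hq0 : 0 < q := by linarith
  have hu0 : 0 < u := lt_of_lt_of_le (by positivity) hu
  have hm0 : 0 < m := lt_of_lt_of_le hu0 hm
  have hv0 : 0 < v := by nlinarith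
  rw [lt_div_iff₀ (mul_pos hp hq0)]
  have e : (q / m + 1 / (q * u) + 1 / (p * v)) * (p * q) = q ^ 2 * p / m + p / u + q / v := by
    field_simp
  rw [e]
  have h1 : q ^ 2 * p / m ≤ q - 3 + 9 / 6 := by
    rw [div_le_iff₀ hm0]
    have : q ^ 2 * p ≤ (q - 3 + 9 / 6) * u := by
      nlinarith [mul_le_mul_of_nonneg_left hu (show (0 : ℝ) ≤ q - 3 + 9 / 6 by linarith),
        mul_nonneg (sub_nonneg.2 hpq) (sub_nonneg.2 hq), mul_nonneg hp.le (sub_nonneg.2 hpq),
        mul_nonneg (mul_nonneg hp.le (sub_nonneg.2 hq)) (sub_nonneg.2 hpq)]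
    nlinarith
  have h2 : p / u ≤ 1 / 5 := by rw [div_le_iff₀ hu0]; nlinarith
  have h3 : q / v ≤ 1 / 4 := by rw [div_le_iff₀ hv0]; nlinarith
  linarith

theorem regionQ_col_numeric {p q u P m : ℝ} (hq : 3 ≤ q) (hpq : q + 2 ≤ p) (hP : u / P ≤ 1 / (p - 1))
    (hm : p ^ 2 + p + 1 ≤ m) : (q - 1) / (p * q) + u / (q * P) < (1 - 1 / m) / q := by
  have hp : (5 : ℝ) ≤ p := by linarith
  have e : (q - 1) / (p * q) + u / (q * P) = ((q - 1) / p + u / P) / q := by
    rw [add_div, div_div, div_div, mul_comm q P]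
  rw [e, div_lt_div_iff_of_pos_right (by linarith)]
  have h1 : (q - 1) / p ≤ (p - 3) / p := div_le_div_of_nonneg_right (by linarith) (by linarith)
  have h2 : 1 / m ≤ 1 / p ^ 2 := one_div_le_one_div_of_le (by positivity) (by linarith)
  have h3 : (p - 3) / p + 1 / (p - 1) + 1 / p ^ 2 < 1 := by
    rw [div_add_div _ _ (by linarith) (by linarith),
      div_add_div _ _ (mul_ne_zero (by linarith) (by linarith)) (pow_ne_zero 2 (by linarith)),
      div_lt_one (by have : (0 : ℝ) < p * (p - 1) := mul_pos (by linarith) (by linarith); positivity)]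
    nlinarith [mul_nonneg (mul_nonneg (show (0 : ℝ) ≤ p by linarith) (show (0 : ℝ) ≤ p by linarith)) (show (0 : ℝ) ≤ p - 5 by linarith)]
  linarith

theorem regionQ_row_numeric {p q v Q m : ℝ} (hq : 3 ≤ q) (hpq : q + 2 ≤ p) (hQ : (v + 1) / Q ≤ 1) (hm : 31 ≤ m) :
    (v + 1) / (p * Q) < (1 - 1 / m) / q * 2 := by
  have h1 : 1 / m ≤ 1 / 31 := one_div_le_one_div_of_le (by norm_num) hm
  have hp : 0 < p := by linarith
  have h2 : (v + 1) / (p * Q) ≤ 1 / p := by
    rw [mul_comm p Q, ← div_div]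
    exact div_le_div_of_nonneg_right hQ hp.le
  have h3 : 1 / p < 1 / q := one_div_lt_one_div_of_lt (by linarith) (by linarith)
  have h4 : 1 / q * 1 ≤ 1 / q * (2 * (1 - 1 / m)) := mul_le_mul_of_nonneg_left (by linarith) (by positivity)
  have e : (1 - 1 / m) / q * 2 = 1 / q * (2 * (1 - 1 / m)) := by ring
  linarith

theorem regionQ_grid_numeric {p q u P v Q m : ℝ} (hq : 3 ≤ q) (hpq : q + 2 ≤ p) (hP : u / P ≤ 1 / (p - 1))
    (hQ : v / Q ≤ 1 / 2) (hm : 31 ≤ m) : -1 / (p * q) + u / (q * P) + v / (p * Q) < (1 - 1 / m) / q := by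
  have hp : 0 < p := by linarith
  have hq0 : 0 < q := by linarith
  have h1 : 1 / m ≤ 1 / 31 := one_div_le_one_div_of_le (by norm_num) hm
  have h2 : u / (q * P) ≤ 1 / 4 / q := by
    rw [mul_comm q P, ← div_div]
    exact div_le_div_of_nonneg_right (hP.trans (one_div_le_one_div_of_le (by norm_num) (by linarith))) hq0.le
  have h3 : v / (p * Q) ≤ 1 / 2 / q := by
    rw [mul_comm p Q, ← div_div]
    exact (div_le_div_of_nonneg_right hQ hp.le).trans (div_le_div_of_nonneg_left (by norm_num) hq0 (by linarith))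
  have h4 : -1 / (p * q) < 0 := div_neg_of_neg_of_pos (by norm_num) (mul_pos hp hq0)
  have h5 : 3 / 4 / q < (1 - 1 / m) / q := (div_lt_div_iff_of_pos_right hq0).2 (by linarith)
  have e : 1 / 4 / q + 1 / 2 / q = 3 / 4 / q := by rw [← add_div]; norm_num
  linarith

theorem regionQ_bridge_numeric {q m D : ℝ} (hq : 3 ≤ q) (hm : 2 * q + 1 < m) (hD : 1 ≤ |D|) :
    1 < D ^ 2 * (m - 1) / q - 2 * D + 1 := by
  have h1 : 2 * |D| * q < |D| ^ 2 * (m - 1) := by
    have := mul_le_mul_of_nonneg_right hD (mul_nonneg (abs_nonneg D) (show (0 : ℝ) ≤ m - 1 by linarith))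
    nlinarith [mul_lt_mul_of_pos_left (show 2 * q < m - 1 by linarith) (show (0 : ℝ) < |D| by linarith)]
  have h2 : 2 * |D| < D ^ 2 * (m - 1) / q := by rw [← sq_abs, lt_div_iff₀ (by linarith)]; linarith
  linarith [le_abs_self D]

end Numeric

variable {G : Type u'} [Group G] [Fintype G] {S T W₁ W₂ U V Ns Ks Nt Kt : Subgroup G} {u v : ℕ}
  {χ : (↥(W₁ ⊔ W₂) →* ℂˣ) → (G → ℂ)} {A : Set G} {L : Subgroup G} [Fintype L] {H : G → Subgroup G}
  {K N : Subgroup L} [K.Normal] [N.Normal] {τ₁ : (L → ℂ) → (G → ℂ)} {ζ : L → ℂ}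

theorem muOn_eq_finsum (S : Set G) (f : G → ℝ) :
    muOn S f = (Nat.card G : ℝ)⁻¹ * ∑ᶠ g ∈ S, f g := by
  rw [muOn, finsum_mem_eq_toFinset_sum, ← Finset.sum_filter]
  refine congrArg _ (Finset.sum_congr ?_ fun _ _ => rfl)
  ext g
  simp

theorem restSet_notMem_tiSet {g : G} (hg : g ∈ restSet S T W₁ W₂ Ns Ks Nt Kt) : OffTI W₁ W₂ g :=
  not_not.1 hg.1

/-- The members of the family are orthogonal to those of a region in the rest set. -/
theorem inner_eta_region (c : PairCtx S T W₁ W₂ U V Ns Ks Nt Kt u v χ)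
    (d : RegionData A L H K N) (hτ : RegionExt A L H K N τ₁) (hζ : ζ ∈ irrBetween K N)
    (hsub : hitSet A H ⊆ restSet S T W₁ W₂ Ns Ks Nt Kt) (i : Row W₁ W₂) (j : Col W₁ W₂) :
    classInner (eta χ i j) (τ₁ ζ) = 0 := by
  have hW := c.typeS.selfNormalizing
  have hGodd : Odd (Nat.card G) := c.minimal.1
  have hLodd : Odd (Nat.card L) := hGodd.of_dvd_nat L.card_subgroup_dvd_card
  refine classInner_symm_zero (hτ.inner_eta d hLodd hGodd hW c.family (fun w h1 h2 h => ?_) hζ i j)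
  rcases restSet_notMem_tiSet (hsub h) 1 (by simp) with h' | h' <;> simp at h'
  · exact h1 h'
  · exact h2 h'

/-- The lower bound on the rest set. -/
theorem muOn_rest_ge (c : PairCtx S T W₁ W₂ U V Ns Ks Nt Kt u v χ)
    (d : RegionData A L H K N) (hτ : RegionExt A L H K N τ₁) (hζ : ζ ∈ irrBetween K N)
    (hsub : hitSet A H ⊆ restSet S T W₁ W₂ Ns Ks Nt Kt) (hd : ζ 1 = K.index) (i : Row W₁ W₂) (j : Col W₁ W₂) {z : ℤ} (s : ℝ)
    (hz : classInner (eta χ i j) (bridge A L H K ζ) = z)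
    (hnn : ∀ g ∈ restSet S T W₁ W₂ Ns Ks Nt Kt, 0 ≤ ‖eta χ i j g‖ ^ 2 + s * (eta χ i j g).re) :
    regionMeas K N * ((z : ℝ) ^ 2 + s * z) ≤
      muOn (restSet S T W₁ W₂ Ns Ks Nt Kt) (fun g => ‖eta χ i j g‖ ^ 2 + s * (eta χ i j g).re) := by
  have h := hτ.regionMu_norm_ge d hζ hd (eta_classFun c.family i j)
    (fun ξ hξ => inner_eta_region c d hτ hξ hsub i j) (c := (z : ℝ))
    (by rw [hz]; push_cast; rfl) zero_le_one s
  simp only [one_mul] at h
  rw [← muOn_eq_finsum (hitSet A H) fun g => ‖eta χ i j g‖ ^ 2 + s * (eta χ i j g).re] at h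
  exact h.trans (muOn_mono hsub hnn)

/-- The values of the family on such a region: `0` on the columns and `1` on the rows. -/
theorem regionQ_values (c : PairCtx S T W₁ W₂ U V Ns Ks Nt Kt u v χ)
    (d : RegionData A L H K N) (hτ : RegionExt A L H K N τ₁) (hζ : ζ ∈ irrBetween K N)
    (hsub : hitSet A H ⊆ restSet S T W₁ W₂ Ns Ks Nt Kt) (hd : ζ 1 = K.index)
    (hS : u * (Nat.card W₂ - 1) + 1 = Nat.card W₂ ^ Nat.card W₁)
    (hT : v * (Nat.card W₁ - 1) + 1 = Nat.card W₁ ^ Nat.card W₂)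
    (hnS : Ks.relIndex Ns = Nat.card W₂ ^ Nat.card W₁) (hnT : Kt.relIndex Nt = Nat.card W₁ ^ Nat.card W₂)
    (hpq : Nat.card W₁ + 2 ≤ Nat.card W₂)
    (hval : ∀ g ∈ restSet S T W₁ W₂ Ns Ks Nt Kt, ∃ na nb : ℤ,
      (∀ i, i ≠ row0 W₁ W₂ → eta χ i (col0 W₁ W₂) g = na) ∧
      ∀ j, j ≠ col0 W₁ W₂ → eta χ (row0 W₁ W₂) j g = nb)
    (hB : ∀ (i : Row W₁ W₂) (j : Col W₁ W₂), i ≠ row0 W₁ W₂ → j ≠ col0 W₁ W₂ →
      muOn (restSet S T W₁ W₂ Ns Ks Nt Kt) (fun g => ‖eta χ (row0 W₁ W₂) j g‖ ^ 2) ≤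
          ((Nat.card W₁ : ℝ) - 1) / (Nat.card W₂ * Nat.card W₁) + u / (Nat.card W₁ * Ks.relIndex Ns) ∧
      muOn (restSet S T W₁ W₂ Ns Ks Nt Kt)
          (fun g => ‖eta χ i (col0 W₁ W₂) g‖ ^ 2 - (eta χ i (col0 W₁ W₂) g).re) ≤
          ((v : ℝ) + 1) / (Nat.card W₂ * Kt.relIndex Nt) ∧
      muOn (restSet S T W₁ W₂ Ns Ks Nt Kt) (fun g => ‖eta χ i j g‖ ^ 2) ≤
          -1 / ((Nat.card W₂ : ℝ) * Nat.card W₁) + u / (Nat.card W₁ * Ks.relIndex Ns) +
            v / (Nat.card W₂ * Kt.relIndex Nt))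
    (he : K.index = Nat.card W₁) (hm : u ≤ N.relIndex K) :
    (∀ j, j ≠ col0 W₁ W₂ → classInner (eta χ (row0 W₁ W₂) j) (bridge A L H K ζ) = 0) ∧
      ∀ i, i ≠ row0 W₁ W₂ → classInner (eta χ i (col0 W₁ W₂)) (bridge A L H K ζ) = 1 := by
  have hW := c.typeS.selfNormalizing
  have hq3 : 3 ≤ Nat.card W₁ := three_le_card_of_odd c.minimal.1 hW.1
  obtain ⟨hU, hU', hV, hV', hV''⟩ := full_bounds hq3 hpq hS hT
  have hq : (3 : ℝ) ≤ (Nat.card W₁ : ℝ) := by exact_mod_cast hq3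
  have hpq' : (Nat.card W₁ : ℝ) + 2 ≤ (Nat.card W₂ : ℝ) := by exact_mod_cast hpq
  have hum : (u : ℝ) ≤ (N.relIndex K : ℝ) := by exact_mod_cast hm
  have hm31 : (31 : ℝ) ≤ (N.relIndex K : ℝ) := by nlinarith
  have hmeas : regionMeas K N = (1 - 1 / (N.relIndex K : ℝ)) / (Nat.card W₁ : ℝ) := by
    rw [regionMeas, he]
    field_simp
  haveI := finite_hom (G := G) hW.2.2.2.2.1
  have hmeas0 : 0 ≤ regionMeas K N := (d.regionMeas_pos hζ).le
  obtain ⟨i₀, hi₀⟩ : ∃ i : Row W₁ W₂, i ≠ row0 W₁ W₂ := by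
    haveI : Nontrivial (Row W₁ W₂) := Finite.one_lt_card_iff_nontrivial.1 (by rw [card_row hW]; omega)
    exact exists_ne _
  obtain ⟨j₀, hj₀⟩ : ∃ j : Col W₁ W₂, j ≠ col0 W₁ W₂ := by
    haveI : Nontrivial (Col W₁ W₂) := Finite.one_lt_card_iff_nontrivial.1 (by rw [card_col hW]; omega)
    exact exists_ne _
  have hcol : ∀ j, j ≠ col0 W₁ W₂ → classInner (eta χ (row0 W₁ W₂) j) (bridge A L H K ζ) = 0 := by
    intro j hj
    obtain ⟨z, hz⟩ := d.exists_val_int hζ hd (eta_gen c.family (row0 W₁ W₂) j)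
    rw [hz]
    by_contra hne
    have hz1 : (1 : ℝ) ≤ (z : ℝ) ^ 2 := by
      have : z ≠ 0 := fun e => hne (by simp [e])
      have h : 1 ≤ z ^ 2 := by have := sq_pos_of_ne_zero this; omega
      exact_mod_cast h
    have h := muOn_rest_ge c d hτ hζ hsub hd (row0 W₁ W₂) j 0 hz fun g _ => by rw [zero_mul, add_zero]; positivity
    simp only [zero_mul, add_zero] at h
    have h' := (mul_le_mul_of_nonneg_left hz1 hmeas0).trans (h.trans (hB i₀ j hi₀ hj).1)
    rw [hmeas, hnS, mul_one] at h'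
    exact absurd h' (not_le.2 (regionQ_col_numeric hq hpq' hU' (hU.trans hum)))
  refine ⟨hcol, fun i hi => ?_⟩
  obtain ⟨z, hz⟩ := d.exists_val_int hζ hd (eta_gen c.family i (col0 W₁ W₂))
  have hz01 : z = 0 ∨ z = 1 := by
    by_contra hno
    push Not at hno
    have hz2 : (2 : ℝ) ≤ (z : ℝ) ^ 2 + (-1 : ℝ) * z := by
      have h : 2 ≤ z ^ 2 + -z := by
        rcases le_or_gt z (-1) with h | h
        · nlinarith
        · have : 2 ≤ z := by omega
          nlinarith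
      have := (Int.cast_le (R := ℝ)).2 h
      push_cast at this
      linarith
    have h := muOn_rest_ge c d hτ hζ hsub hd i (col0 W₁ W₂) (-1) hz fun g hg => by
      obtain ⟨na, nb, hna, -⟩ := hval g hg
      rw [hna i hi, Complex.norm_intCast, sq_abs, Complex.intCast_re, neg_one_mul, ← sub_eq_add_neg]
      have := (Int.cast_le (R := ℝ)).2 (Int.le_self_sq na)
      push_cast at this
      linarith
    have hfun : (fun g => ‖eta χ i (col0 W₁ W₂) g‖ ^ 2 + (-1 : ℝ) * (eta χ i (col0 W₁ W₂) g).re) =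
        fun g => ‖eta χ i (col0 W₁ W₂) g‖ ^ 2 - (eta χ i (col0 W₁ W₂) g).re := funext fun g => by ring
    rw [hfun] at h
    have h' := (mul_le_mul_of_nonneg_left hz2 hmeas0).trans (h.trans (hB i j₀ hi hj₀).2.1)
    rw [hmeas, hnT] at h'
    exact absurd h' (not_le.2 (regionQ_row_numeric hq hpq' hV' hm31))
  rcases hz01 with rfl | rfl
  · exfalso
    have hzij : classInner (eta χ i j₀) (bridge A L H K ζ) = ((-1 : ℤ) : ℂ) := by
      rw [bridge, inner_dade_congr (F' := eta χ i (col0 W₁ W₂) + eta χ (row0 W₁ W₂) j₀ - fun _ => 1) (fun g hg => ?_),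
        classInner_sub_left, classInner_add_left]
      · rw [← bridge, hz, hcol j₀ hj₀, d.inner_one_bridge hζ hd]
        norm_num
      · have := eta_mul_off c.family (φ := i.1) (ψ := j₀.1) (fun e => hi (Subtype.ext e))
          (fun e => hj₀ (Subtype.ext e)) i.2 j₀.2 (restSet_notMem_tiSet (hsub hg))
        show χ (i.1 * j₀.1) g = χ (i.1 * 1) g + χ (1 * j₀.1) g - 1
        rw [cti_mul_one, cti_one_mul]
        exact this
    have h := muOn_rest_ge c d hτ hζ hsub hd i j₀ 0 hzij fun g _ => by rw [zero_mul, add_zero]; positivity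
    simp only [zero_mul, add_zero, Int.cast_neg, Int.cast_one, neg_one_sq, mul_one] at h
    have h' := h.trans (hB i j₀ hi hj₀).2.2
    rw [hmeas, hnS, hnT] at h'
    exact absurd h' (not_le.2 (regionQ_grid_numeric hq hpq' hU' hV'' hm31))
  · rw [hz]; norm_num

/-- The bridge of such a region. -/
theorem regionQ_bridge_eq (c : PairCtx S T W₁ W₂ U V Ns Ks Nt Kt u v χ)
    (d : RegionData A L H K N) (hτ : RegionExt A L H K N τ₁) (hζ : ζ ∈ irrBetween K N)
    (hsub : hitSet A H ⊆ restSet S T W₁ W₂ Ns Ks Nt Kt) (hd : ζ 1 = K.index) [Fintype (Row W₁ W₂)]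
    (hrow : ∀ i, i ≠ row0 W₁ W₂ → classInner (eta χ i (col0 W₁ W₂)) (bridge A L H K ζ) = 1)
    (he : K.index = Nat.card W₁) (hbig : 2 * Nat.card W₁ + 1 < N.relIndex K) :
    classInner (τ₁ ζ) (bridge A L H K ζ) = -1 ∧
      bridge A L H K ζ = (∑ i, eta χ i (col0 W₁ W₂)) - τ₁ ζ := by
  have hW := c.typeS.selfNormalizing
  have hq : (3 : ℝ) ≤ (Nat.card W₁ : ℝ) := by exact_mod_cast three_le_card_of_odd c.minimal.1 hW.1
  have hm : 2 * (Nat.card W₁ : ℝ) + 1 < (N.relIndex K : ℝ) := by exact_mod_cast hbig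
  -- the bridge
  set F : Row W₁ W₂ → G → ℂ := fun i => eta χ i (col0 W₁ W₂)
  set ψ := τ₁ ζ
  have hF : ∀ i, classInner (F i) (bridge A L H K ζ) = 1 := fun i => by
    by_cases hi : i = row0 W₁ W₂
    · simp only [F, hi, eta_zero c.family]; exact d.inner_one_bridge hζ hd
    · exact hrow i hi
  have hFon : ∀ i i', i ≠ i' → classInner (F i) (F i') = 0 := fun i i' h => by
    simp [F, eta_orthonormal c.family, h]
  have hF1 : ∀ i, classInner (F i) (F i) = 1 := fun i => by simp [F, eta_orthonormal c.family]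
  obtain ⟨z, hz⟩ := (hτ.gen hζ).exists_int_classInner (d.bridge_gen hζ hd)
  have hD : classInner ψ (bridge A L H K ζ) = ((z + 1 : ℤ) : ℂ) - 1 := by rw [hz]; push_cast; ring
  have hbess := hτ.bridge_bessel d hζ hd hD F hFon hF1 fun i ξ hξ => inner_eta_region c d hτ hξ hsub i (col0 W₁ W₂)
  have hrowcard : (Fintype.card (Row W₁ W₂) : ℝ) = (Nat.card W₁ : ℝ) := by
    rw [← Nat.card_eq_fintype_card, card_row hW]
  rw [Finset.sum_congr rfl (g := fun _ => (1 : ℝ)) fun i _ => by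
      rw [← classInner_conj_symm, hF i, map_one, norm_one, one_pow],
    Finset.sum_const, Finset.card_univ, nsmul_eq_mul, mul_one, hrowcard, he] at hbess
  have hD0 : z + 1 = 0 := by
    by_contra hne
    have h1 : (1 : ℝ) ≤ |((z + 1 : ℤ) : ℝ)| := by
      have := Int.one_le_abs hne
      exact_mod_cast this
    have := regionQ_bridge_numeric hq hm h1
    linarith
  have hψβ : classInner ψ (bridge A L H K ζ) = -1 := by rw [hD, hD0]; simp
  have hψF : ∀ i, classInner ψ (F i) = 0 := fun i => classInner_symm_zero (inner_eta_region c d hτ hζ hsub i _)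
  refine ⟨hψβ, ?_⟩
  show bridge A L H K ζ = (∑ i, F i) - ψ
  have hSS : classInner (∑ i, F i) (∑ i, F i) = (Nat.card W₁ : ℂ) := by
    rw [classInner_sum_left, Finset.sum_congr rfl (g := fun _ => (1 : ℂ)) fun i _ => by
      rw [classInner_sum_right, Finset.sum_eq_single i (fun i' _ h => hFon i i' (Ne.symm h))
        (fun h => absurd (Finset.mem_univ i) h), hF1 i]]
    simp [← Nat.card_eq_fintype_card, card_row hW]
  have hSβ : classInner (∑ i, F i) (bridge A L H K ζ) = (Nat.card W₁ : ℂ) := by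
    rw [classInner_sum_left, Finset.sum_congr rfl fun i _ => hF i]
    simp [← Nat.card_eq_fintype_card, card_row hW]
  have hSψ : classInner (∑ i, F i) ψ = 0 := by
    rw [classInner_sum_left]
    exact Finset.sum_eq_zero fun i _ => inner_eta_region c d hτ hζ hsub i _
  refine sub_eq_zero.1 (eq_zero_of_classInner_self ?_)
  simp only [classInner_sub_left, classInner_sub_right]
  rw [d.inner_bridge_self hζ hd, hSS, hτ.norm_one hζ, hψβ, hSψ, classInner_symm_zero hSψ, hSβ,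
    ← classInner_conj_symm (∑ i, F i) (bridge A L H K ζ), hSβ, ← classInner_conj_symm ψ (bridge A L H K ζ), hψβ, he]
  simp

/-- No region of index `q` (budgets and values on the rest set as hypotheses). -/
theorem no_region_q_aux (c : PairCtx S T W₁ W₂ U V Ns Ks Nt Kt u v χ)
    (hS : u * (Nat.card W₂ - 1) + 1 = Nat.card W₂ ^ Nat.card W₁)
    (hT : v * (Nat.card W₁ - 1) + 1 = Nat.card W₁ ^ Nat.card W₂)
    (hnS : Ks.relIndex Ns = Nat.card W₂ ^ Nat.card W₁) (hnT : Kt.relIndex Nt = Nat.card W₁ ^ Nat.card W₂)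
    (hlt : Nat.card W₁ < Nat.card W₂)
    (hval : ∀ g ∈ restSet S T W₁ W₂ Ns Ks Nt Kt, ∃ na nb : ℤ,
      (∀ i, i ≠ row0 W₁ W₂ → eta χ i (col0 W₁ W₂) g = na) ∧
      ∀ j, j ≠ col0 W₁ W₂ → eta χ (row0 W₁ W₂) j g = nb)
    (hB : ∀ (i : Row W₁ W₂) (j : Col W₁ W₂), i ≠ row0 W₁ W₂ → j ≠ col0 W₁ W₂ →
      muOn (restSet S T W₁ W₂ Ns Ks Nt Kt) (fun g => ‖eta χ (row0 W₁ W₂) j g‖ ^ 2) ≤
          ((Nat.card W₁ : ℝ) - 1) / (Nat.card W₂ * Nat.card W₁) + u / (Nat.card W₁ * Ks.relIndex Ns) ∧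
      muOn (restSet S T W₁ W₂ Ns Ks Nt Kt)
          (fun g => ‖eta χ i (col0 W₁ W₂) g‖ ^ 2 - (eta χ i (col0 W₁ W₂) g).re) ≤
          ((v : ℝ) + 1) / (Nat.card W₂ * Kt.relIndex Nt) ∧
      muOn (restSet S T W₁ W₂ Ns Ks Nt Kt) (fun g => ‖eta χ i j g‖ ^ 2) ≤
          -1 / ((Nat.card W₂ : ℝ) * Nat.card W₁) + u / (Nat.card W₁ * Ks.relIndex Ns) +
            v / (Nat.card W₂ * Kt.relIndex Nt))
    (hR : 1 - ((Nat.card W₂ : ℝ) - 1) * ((Nat.card W₁ : ℝ) - 1) / (Nat.card W₂ * Nat.card W₁) -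
        1 / (Nat.card W₁ * u) - 1 / (Nat.card W₂ * v) ≤
      muOn (restSet S T W₁ W₂ Ns Ks Nt Kt) (fun _ => (1 : ℝ)))
    (d : RegionData A L H K N) (hτ : RegionExt A L H K N τ₁) (hζ : ζ ∈ irrBetween K N) (hd : ζ 1 = K.index)
    (hsub : hitSet A H ⊆ restSet S T W₁ W₂ Ns Ks Nt Kt) (he : K.index = Nat.card W₁)
    (hm : u ≤ N.relIndex K) : False := by
  have hW := c.typeS.selfNormalizing
  have hGodd : Odd (Nat.card G) := c.minimal.1
  have hq3 : 3 ≤ Nat.card W₁ := three_le_card_of_odd hGodd hW.1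
  have hp5 : Nat.card W₁ + 2 ≤ Nat.card W₂ := by
    obtain ⟨a, ha⟩ := hGodd.of_dvd_nat W₁.card_subgroup_dvd_card
    obtain ⟨b, hb⟩ := hGodd.of_dvd_nat W₂.card_subgroup_dvd_card
    omega
  obtain ⟨hU, -, hV, -, -⟩ := full_bounds hq3 hp5 hS hT
  have hq : (3 : ℝ) ≤ (Nat.card W₁ : ℝ) := by exact_mod_cast hq3
  have hpq : (Nat.card W₁ : ℝ) + 2 ≤ (Nat.card W₂ : ℝ) := by exact_mod_cast hp5
  have hum : (u : ℝ) ≤ (N.relIndex K : ℝ) := by exact_mod_cast hm
  haveI := finite_hom (G := G) hW.2.2.2.2.1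
  letI : Fintype (Row W₁ W₂) := Fintype.ofFinite _
  have hbig : 2 * Nat.card W₁ + 1 < N.relIndex K := by
    have h : (2 * (Nat.card W₁ : ℝ) + 1) < (N.relIndex K : ℝ) := by nlinarith
    exact_mod_cast h
  obtain ⟨-, hrow⟩ := regionQ_values c d hτ hζ hsub hd hS hT hnS hnT hp5 hval hB he hm
  obtain ⟨hψβ, hbeq⟩ := regionQ_bridge_eq c d hτ hζ hsub hd hrow he hbig
  set R := restSet S T W₁ W₂ Ns Ks Nt Kt with hRdef
  set ψ := τ₁ ζ
  -- the mean square of `ψ`
  have hhit := hτ.sum_psi_ge d hζ hd (D := 0) (by rw [hψβ]; simp)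
  rw [← muOn_eq_finsum (hitSet A H) fun g => ‖ψ g‖ ^ 2, he] at hhit
  simp only [Int.cast_zero, mul_zero, zero_div, sub_zero, ne_eq, OfNat.ofNat_ne_zero, not_false_eq_true, zero_pow,
    add_zero] at hhit
  have hrest : muOn (R \ hitSet A H) (fun _ => (1 : ℝ)) ≤ muOn (R \ hitSet A H) fun g => ‖ψ g‖ ^ 2 := by
    refine mul_le_mul_of_nonneg_left (Finset.sum_le_sum fun g _ => ?_) (by positivity)
    by_cases hg : g ∈ R \ hitSet A H
    · rw [if_pos hg, if_pos hg]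
      obtain ⟨na, nb, hna, -⟩ := hval g hg.1
      have hb0 : bridge A L H K ζ g = 0 := dadeIsometry_eq_zero_of_notMem hg.2
      have e : ψ g = ((1 + ((Nat.card W₁ : ℤ) - 1) * na : ℤ) : ℂ) := by
        have h := congrFun hbeq g
        rw [hb0, Pi.sub_apply, eq_comm, sub_eq_zero] at h
        rw [← h, Finset.sum_apply, ← Finset.add_sum_erase _ _ (Finset.mem_univ (row0 W₁ W₂)),
          Finset.sum_congr rfl (g := fun _ => (na : ℂ)) fun i hi => hna i (Finset.mem_erase.1 hi).1]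
        simp only [eta_zero c.family, Finset.sum_const, nsmul_eq_mul]
        rw [Finset.card_erase_of_mem (Finset.mem_univ _), Finset.card_univ, ← Nat.card_eq_fintype_card, card_row hW,
          Nat.cast_sub (by omega)]
        push_cast
        ring
      show (1 : ℝ) ≤ ‖ψ g‖ ^ 2
      rw [e, Complex.norm_intCast, sq_abs]
      have hne : 1 + ((Nat.card W₁ : ℤ) - 1) * na ≠ 0 := fun h0 => by
        have hdvd : (Nat.card W₁ : ℤ) - 1 ∣ 1 := ⟨-na, by linarith⟩
        have := Int.le_of_dvd one_pos hdvd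
        omega
      have h : 1 ≤ (1 + ((Nat.card W₁ : ℤ) - 1) * na) ^ 2 := by
        have := sq_pos_of_ne_zero hne; omega
      exact_mod_cast h
    · rw [if_neg hg, if_neg hg]
  have htot : muOn (hitSet A H) (fun g => ‖ψ g‖ ^ 2) + muOn (R \ hitSet A H) (fun g => ‖ψ g‖ ^ 2) ≤ 1 := by
    rw [← muOn_union (by simp)]
    refine (muOn_mono (Set.subset_univ _) fun g _ => by positivity).trans (le_of_eq ?_)
    rw [(muOn_univ ψ).1, hτ.norm_one hζ, Complex.one_re]
  have hmeas1 : muOn (hitSet A H) (fun _ => (1 : ℝ)) = regionMeas K N := by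
    have h := congrArg Complex.re (d.regionMu_one hζ hd)
    rw [Complex.ofReal_re, regionMu, ← Complex.ofReal_natCast, ← Complex.ofReal_inv, Complex.re_ofReal_mul,
      Complex.re_sum] at h
    rw [← h, muOn]
    refine congrArg _ (Finset.sum_congr rfl fun g _ => ?_)
    split_ifs <;> simp
  have hsplit : muOn R (fun _ => (1 : ℝ)) = muOn (hitSet A H) (fun _ => 1) + muOn (R \ hitSet A H) fun _ => 1 := by
    rw [← muOn_union (by simp), Set.union_diff_cancel hsub]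
  have hmeas : regionMeas K N = (1 - 1 / (N.relIndex K : ℝ)) / (Nat.card W₁ : ℝ) := by
    rw [regionMeas, he, mul_comm (Nat.card W₁ : ℝ), ← div_div, sub_div,
      div_self (Nat.cast_ne_zero.2 d.relIndex_ne_zero)]
  have hnum := regionQ_numeric hq hpq hU hV hum
  rw [hmeas1, hmeas] at hsplit
  have h8 : (1 - 1 / (N.relIndex K : ℝ)) / (Nat.card W₁ : ℝ) ≤ 1 / (Nat.card W₁ : ℝ) :=
    div_le_div_of_nonneg_right (sub_le_self _ (by positivity)) (by linarith)
  have h9 : 1 - ((Nat.card W₂ : ℝ) - 1) * ((Nat.card W₁ : ℝ) - 1) / (Nat.card W₂ * Nat.card W₁) - 1 / (Nat.card W₁ : ℝ) =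
      ((Nat.card W₁ : ℝ) - 1) / (Nat.card W₂ * Nat.card W₁) := by field_simp; ring
  linarith

/-- The measure of the support of a side is at most `1 / (q u)`. -/
theorem muOn_sideSet_one_le {M N K₀ : Subgroup G} [Fintype M] (h : Side M W₁ W₂ N K₀ u)
    (hA : DadeHypothesis (sideSet N K₀) M (Cfsg.supportR M)) :
    muOn (hitSet (sideSet N K₀) (Cfsg.supportR M)) (fun _ => (1 : ℝ)) ≤ 1 / ((Nat.card W₁ : ℝ) * u) := by
  have h1 : classInner (dadeIsometry (sideSet N K₀) M (Cfsg.supportR M) (sideInd M N K₀)) (fun _ => 1) =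
      classInner (sideInd M N K₀) (fun _ => 1) := by
    rw [classInner_dade_proj hA (isClassFunction_sideInd h hA) (fun x hx => if_neg hx) fun _ _ => rfl]
    refine congrArg (_ * ·) (Finset.sum_congr rfl fun x _ => ?_)
    by_cases hx : (x : G) ∈ sideSet N K₀
    · rw [dadeProj_one hx]
    · simp [sideInd, hx]
  have h2 := congrArg Complex.re h1
  rw [classInner_one_right, classInner_one_right, ← Complex.ofReal_natCast, ← Complex.ofReal_natCast,
    ← Complex.ofReal_inv, ← Complex.ofReal_inv, Complex.re_ofReal_mul, Complex.re_ofReal_mul, Complex.re_sum,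
    Complex.re_sum] at h2
  have e : muOn (hitSet (sideSet N K₀) (Cfsg.supportR M)) (fun _ => (1 : ℝ)) =
      (Nat.card G : ℝ)⁻¹ * ∑ g, (dadeIsometry (sideSet N K₀) M (Cfsg.supportR M) (sideInd M N K₀) g).re := by
    rw [muOn]
    refine congrArg _ (Finset.sum_congr rfl fun g _ => ?_)
    rw [dadeIsometry_indicator h hA]
    split_ifs <;> simp
  rw [e, h2]
  have h3 : (Finset.univ.filter fun x : M => (x : G) ∈ sideSet N K₀).card ≤ Nat.card ↥(N.subgroupOf M) := by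
    rw [Nat.card_eq_fintype_card, Fintype.card_subtype]
    exact Finset.card_le_card fun x hx => Finset.mem_filter.2
      ⟨Finset.mem_univ _, Subgroup.mem_subgroupOf.2 (Finset.mem_filter.1 hx).2.1⟩
  have h4 : (∑ x : M, (sideInd M N K₀ x).re) ≤ (Nat.card ↥(N.subgroupOf M) : ℝ) := by
    simp only [sideInd, apply_ite Complex.re, Complex.one_re, Complex.zero_re, Finset.sum_boole]
    exact_mod_cast h3
  refine (mul_le_mul_of_nonneg_left h4 (by positivity)).trans (le_of_eq ?_)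
  rw [h.card_M]
  field_simp

/-- No region of index `q`: end of section 5. -/
theorem no_region_q [Fintype S] [Fintype T] [Fintype ↥(Ns.subgroupOf S)] [Fintype ↥(Nt.subgroupOf T)]
    (c : PairCtx S T W₁ W₂ U V Ns Ks Nt Kt u v χ)
    (hS : u * (Nat.card W₂ - 1) + 1 = Nat.card W₂ ^ Nat.card W₁)
    (hT : v * (Nat.card W₁ - 1) + 1 = Nat.card W₁ ^ Nat.card W₂)
    (hnS : Ks.relIndex Ns = Nat.card W₂ ^ Nat.card W₁) (hnT : Kt.relIndex Nt = Nat.card W₁ ^ Nat.card W₂)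
    (hlt : Nat.card W₁ < Nat.card W₂)
    (d : RegionData A L H K N) (hτ : RegionExt A L H K N τ₁) (hζ : ζ ∈ irrBetween K N) (hd : ζ 1 = K.index)
    (hsub : hitSet A H ⊆ restSet S T W₁ W₂ Ns Ks Nt Kt) (he : K.index = Nat.card W₁)
    (hm : u ≤ N.relIndex K) : False := by
  have hW := c.typeS.selfNormalizing
  have F : TIFacts S T W₁ W₂ Ns Ks Nt Kt χ :=
    ⟨famSwap_family c.family, muOn_split c, muOn_ti_sq hW c.family, fun _ _ hi hj => muOn_ti_re_z hW c.family hi hj,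
      fun _ hi => (muOn_ti_re_a hW c.family hi).trans (by ring), fun _ hj => (muOn_ti_re_b hW c.family hj).trans (by ring)⟩
  have hR : 1 - ((Nat.card W₂ : ℝ) - 1) * ((Nat.card W₁ : ℝ) - 1) / (Nat.card W₂ * Nat.card W₁) -
        1 / (Nat.card W₁ * u) - 1 / (Nat.card W₂ * v) ≤
      muOn (restSet S T W₁ W₂ Ns Ks Nt Kt) (fun _ => (1 : ℝ)) := by
    have h := muOn_split c fun _ => (1 : ℝ)
    have hu : muOn (Set.univ : Set G) (fun _ => (1 : ℝ)) = 1 := by
      simp [muOn, Nat.card_eq_fintype_card]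
    have hti := muOn_ti_sq hW c.family (row0 W₁ W₂) (col0 W₁ W₂)
    simp only [eta_zero c.family, norm_one, one_pow] at hti
    have h1 := muOn_sideSet_one_le c.sideS c.dadeS
    have h2 := muOn_sideSet_one_le (W₁ := W₂) (W₂ := W₁) c.sideT c.dadeT
    linarith
  refine no_region_q_aux c hS hT hnS hnT hlt
    (fun g hg => let ⟨na, nb, h1, h2, _⟩ := rest_values c hg; ⟨na, nb, h1, h2⟩)
    (fun i j hi hj => ⟨budget_b_sq c F c.dadeS c.dadeT hj, budget_a_sub c F c.dadeS c.dadeT hi,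
      (budget_z_sq c F c.dadeS c.dadeT hi hj).trans (le_of_eq (by ring))⟩) hR d hτ hζ hd hsub he hm

end Cfsg.Lib.OddOrder
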