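import Cfsg.Agent.Lib.OddOrder.Region

/-!
# Two disjoint regions

The bridges of two regions with disjoint hit sets meet with odd product; if the first region is too large for
the bridge of the second to meet it, the second is bounded by the bridge of the first.
-/

set_option autoImplicit false
set_option linter.unusedSectionVars false
set_option linter.style.haveILetI false

namespace Cfsg.Lib.OddOrder

open Cfsg Cfsg.Lib.Char Cfsg.Lib.Char.FT
open scoped ComplexConjugate Classical

universe u

variable {G : Type u} [Group G] [Fintype G] {A A' : Set G} {L L' : Subgroup G} [Fintype L] [Fintype L']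
  {H H' : G → Subgroup G} {K N : Subgroup L} [K.Normal] [N.Normal] {K' N' : Subgroup L'} [K'.Normal] [N'.Normal]
  {τ₁ : (L → ℂ) → (G → ℂ)} {τ₁' : (L' → ℂ) → (G → ℂ)} {ζ : L → ℂ} {ζ' : L' → ℂ}

/-- Section 8: two disjoint regions. -/
theorem two_regions_bound (hodd : Odd (Nat.card G)) (hτ : RegionExt A L H K N τ₁) (d : RegionData A L H K N)
    (hζ : ζ ∈ irrBetween K N) (hd : ζ 1 = K.index) (hτ' : RegionExt A' L' H' K' N' τ₁')
    (d' : RegionData A' L' H' K' N') (hζ' : ζ' ∈ irrBetween K' N') (hd' : ζ' 1 = K'.index)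
    (hdis : ∀ g, g ∈ hitSet A H → g ∈ hitSet A' H' → False)
    (hbig : (K'.index : ℝ) + 1 < ((N.relIndex K : ℝ) - 1) / K.index) :
    ((N'.relIndex K' : ℝ) - 1) / K'.index ≤ (K.index : ℝ) + 1 := by
  have hL : Odd (Nat.card L) := hodd.of_dvd_nat L.card_subgroup_dvd_card
  have hL' : Odd (Nat.card L') := hodd.of_dvd_nat L'.card_subgroup_dvd_card
  set β := bridge A L H K ζ
  set β' := bridge A' L' H' K' ζ'
  have hvan : ∀ g ∈ hitSet A H, β' g = 0 := fun g hg =>
    dadeIsometry_eq_zero_of_notMem fun hg' => hdis g hg hg'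
  have hvan' : ∀ g ∈ hitSet A' H', β g = 0 := fun g hg =>
    dadeIsometry_eq_zero_of_notMem fun hg' => hdis g hg' hg
  obtain ⟨a, ha⟩ := (d'.bridge_gen hζ' hd').exists_int_classInner (hτ.gen hζ)
  obtain ⟨b, hb⟩ := (d.bridge_gen hζ hd).exists_int_classInner (hτ'.gen hζ')
  have h1 := hτ.coef_bound d hζ hd hvan ha
  have h2 := hτ'.coef_bound d' hζ' hd' hvan' hb
  rw [show classInner β' β' = _ from d'.inner_bridge_self hζ' hd', Complex.add_re, Complex.natCast_re,
    Complex.one_re] at h1
  rw [show classInner β β = _ from d.inner_bridge_self hζ hd, Complex.add_re, Complex.natCast_re,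
    Complex.one_re] at h2
  have hpos : (0 : ℝ) ≤ ((N'.relIndex K' : ℝ) - 1) / K'.index := by
    have : (1 : ℝ) < N'.relIndex K' := by exact_mod_cast d'.relIndex_gt_one hζ'
    exact div_nonneg (by linarith) (Nat.cast_nonneg _)
  -- the bridge of the second region misses the first
  have ha0 : a = 0 := by
    by_contra hne
    have h3 : (1 : ℝ) ≤ (a : ℝ) ^ 2 := by
      have : (1 : ℤ) ≤ a ^ 2 := sq_pos_of_ne_zero hne
      exact_mod_cast this
    rw [mul_div_assoc] at h1
    have hpos' : (0 : ℝ) ≤ ((N.relIndex K : ℝ) - 1) / K.index := by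
      have : (0 : ℝ) ≤ (K'.index : ℝ) := Nat.cast_nonneg _
      linarith
    have := le_mul_of_one_le_left hpos' h3
    linarith
  -- parity
  have hm : classInner (β + τ₁ ζ) (β' + τ₁' ζ') = ((a + b : ℤ) : ℂ) := by
    rw [classInner_add_left, classInner_add_right, classInner_add_right, hb,
      show classInner β β' = 0 from inner_dade_dade_eq_zero hdis _ _,
      show classInner (τ₁ ζ) β' = (a : ℂ) from classInner_symm_int ha,
      hτ.inner_of_disjoint d hL hτ' d' hL' hdis hζ hζ']
    push_cast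
    ring
  have h1' : classInner (β + τ₁ ζ) (fun _ => 1) = ((1 : ℤ) : ℂ) := by
    rw [classInner_add_left, d.inner_bridge_one hζ hd, hτ.inner_one d hL hζ]; simp
  have h2' : classInner (β' + τ₁' ζ') (fun _ => 1) = ((1 : ℤ) : ℂ) := by
    rw [classInner_add_left, d'.inner_bridge_one hζ' hd', hτ'.inner_one d' hL' hζ']; simp
  have hpar := parity hodd ((d.bridge_gen hζ hd).add (hτ.gen hζ)) ((d'.bridge_gen hζ' hd').add (hτ'.gen hζ'))
    (hτ.bridge_real d hL hζ) (hτ'.bridge_real d' hL' hζ') hm h1' h2'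
  have hb1 : (1 : ℝ) ≤ (b : ℝ) ^ 2 := by
    have hne : b ≠ 0 := by rintro rfl; omega
    have : (1 : ℤ) ≤ b ^ 2 := sq_pos_of_ne_zero hne
    exact_mod_cast this
  rw [mul_div_assoc] at h2
  exact (le_mul_of_one_le_left hpos hb1).trans h2

end Cfsg.Lib.OddOrder
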