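import Cfsg.Agent.Lib.OddOrder.RegionPQ
import Cfsg.Agent.Lib.OddOrder.TwoRegion
import Cfsg.Agent.Lib.OddOrder.LastStep
import Cfsg.Agent.Lib.OddOrder.FullPair
import Cfsg.Agent.Lib.OddOrder.RegionQ

/-!
# The contradiction from the two neighbouring regions

For a full pair with `q = |W₁| < p = |W₂|`: a region of index `p q` and size at least `(2 p q + 1) u` next to `S`
and a disjoint region of index at most `p q` and size at least `v` next to `T` cannot both exist.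
-/

set_option autoImplicit false
set_option linter.unusedSectionVars false
set_option linter.style.haveILetI false

namespace Cfsg.Lib.OddOrder

open Cfsg Cfsg.Lib.Char Cfsg.Lib.Char.FT
open scoped Classical

universe u'

variable {G : Type u'} [Group G] [Fintype G]

/-- A region with hit set `X` inside `R`, of index `e` and size `m`, with a coherent family and a member of
least degree. -/
def HasRegion (R X : Set G) (e m : ℕ) : Prop :=
  ∃ (A : Set G) (L : Subgroup G) (_ : Fintype L) (H : G → Subgroup G) (K N₀ : Subgroup L) (_ : K.Normal)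
    (_ : N₀.Normal) (τ₁ : (L → ℂ) → (G → ℂ)) (ζ : L → ℂ),
    RegionData A L H K N₀ ∧ RegionExt A L H K N₀ τ₁ ∧ ζ ∈ irrBetween K N₀ ∧ ζ 1 = K.index ∧
      hitSet A H = X ∧ X ⊆ R ∧ K.index = e ∧ N₀.relIndex K = m

variable {S T W₁ W₂ U V Ns Ks Nt Kt : Subgroup G} {u v : ℕ} {χ : (↥(W₁ ⊔ W₂) →* ℂˣ) → (G → ℂ)}

/-- A region of index `|W₁|` and size at least `u` does not exist. -/
theorem absurd_index_q [Fintype S] [Fintype T] (c : PairCtx S T W₁ W₂ U V Ns Ks Nt Kt u v χ)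
    (hu : u * (Nat.card W₂ - 1) + 1 = Nat.card W₂ ^ Nat.card W₁)
    (hv : v * (Nat.card W₁ - 1) + 1 = Nat.card W₁ ^ Nat.card W₂)
    (hnS : Ks.relIndex Ns = Nat.card W₂ ^ Nat.card W₁) (hnT : Kt.relIndex Nt = Nat.card W₁ ^ Nat.card W₂)
    (hlt : Nat.card W₁ < Nat.card W₂) {X : Set G} {m : ℕ}
    (hR : HasRegion (restSet S T W₁ W₂ Ns Ks Nt Kt) X (Nat.card W₁) m) (hm : u ≤ m) : False := by
  haveI := Fintype.ofFinite ↥(Ns.subgroupOf S)
  haveI := Fintype.ofFinite ↥(Nt.subgroupOf T)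
  obtain ⟨A, L, _, H, K, N₀, _, _, τ₁, ζ, d, hτ, hζ, hd, rfl, hsub, he, rfl⟩ := hR
  exact no_region_q c hu hv hnS hnT hlt d hτ hζ hd hsub he hm

/-- The two regions. -/
theorem absurd_two_regions [Fintype S] [Fintype T] (c : PairCtx S T W₁ W₂ U V Ns Ks Nt Kt u v χ)
    (hu : u * (Nat.card W₂ - 1) + 1 = Nat.card W₂ ^ Nat.card W₁)
    (hv : v * (Nat.card W₁ - 1) + 1 = Nat.card W₁ ^ Nat.card W₂)
    (hnS : Ks.relIndex Ns = Nat.card W₂ ^ Nat.card W₁) (hnT : Kt.relIndex Nt = Nat.card W₁ ^ Nat.card W₂)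
    (hlt : Nat.card W₁ < Nat.card W₂) {X X' : Set G} {h e' h' : ℕ}
    (hR : HasRegion (restSet S T W₁ W₂ Ns Ks Nt Kt) X (Nat.card W₂ * Nat.card W₁) h)
    (hh : (2 * (Nat.card W₂ * Nat.card W₁) + 1) * u ≤ h)
    (hR' : HasRegion (restSet S T W₁ W₂ Ns Ks Nt Kt) X' e' h') (he' : e' ≤ Nat.card W₂ * Nat.card W₁)
    (hh' : v ≤ h') (hdis : ∀ g, g ∈ X → g ∈ X' → False) : False := by
  haveI := Fintype.ofFinite ↥(Ns.subgroupOf S)
  haveI := Fintype.ofFinite ↥(Nt.subgroupOf T)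
  obtain ⟨A, L, _, H, K, N₀, _, _, τ₁, ζ, d, hτ, hζ, hd, rfl, hsub, he, rfl⟩ := hR
  obtain ⟨A', L', _, H', K', N₀', _, _, τ₁', ζ', d', hτ', hζ', hd', rfl, -, rfl, rfl⟩ := hR'
  have hG := c.minimal
  have hW := c.typeS.selfNormalizing
  set p := Nat.card W₂
  set q := Nat.card W₁
  have hq3 : 3 ≤ q := three_le_card_of_odd hG.1 hW.1
  have hp3 : 3 ≤ p := three_le_card_of_odd hG.1 hW.2.1
  have hu2 : p * q + 1 ≤ u := by
    have h1 : p ^ 3 ≤ p ^ q := Nat.pow_le_pow_right (by omega) hq3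
    have h2 : (p * q + 1) * (p - 1) + 1 ≤ p ^ 3 := by
      obtain ⟨k, hk⟩ : ∃ k, p = k + 1 := ⟨p - 1, by omega⟩
      rw [hk, Nat.add_sub_cancel]
      have hqk : q ≤ k := by omega
      nlinarith [Nat.mul_le_mul_left ((k + 1) * k) hqk]
    by_contra hlt'
    have h3 : (u + 1) * (p - 1) ≤ (p * q + 1) * (p - 1) := Nat.mul_le_mul_right _ (by omega)
    rw [Nat.add_mul, one_mul] at h3
    omega
  have hp' : (0 : ℝ) < p := by exact_mod_cast (by omega : 0 < p)
  have hq' : (3 : ℝ) ≤ q := by exact_mod_cast hq3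
  have hu' : (p : ℝ) * q + 1 ≤ u := by exact_mod_cast hu2
  have hh0 : (2 * ((p : ℝ) * q) + 1) * u ≤ (N₀.relIndex K : ℝ) := by exact_mod_cast hh
  have hek : (K.index : ℝ) = (p : ℝ) * q := by rw [he]; push_cast; ring
  have hlow : 2 * (u : ℝ) ≤ ((N₀.relIndex K : ℝ) - 1) / K.index := by
    rw [hek, le_div_iff₀ (by positivity)]
    nlinarith
  have h1 := region_pq_bound c c.tiFacts c.dadeS c.dadeT hu hv hnS hnT c.rest_int hτ d hζ hd hsub he
    (by have : 0 < u := by omega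
        nlinarith [Nat.le_mul_of_pos_right (2 * (p * q) + 1) this, Nat.mul_le_mul hp3 hq3])
    (lt_of_lt_of_le (by
      have h2 : ((u : ℝ) - 1) / q ≤ ((u : ℝ) - 1) / 3 :=
        div_le_div_of_nonneg_left (by nlinarith) (by norm_num) hq'
      nlinarith) hlow)
  have h2 := two_regions_bound hG.1 hτ d hζ hd hτ' d' hζ' hd' hdis (lt_of_lt_of_le (by
    have : (K'.index : ℝ) ≤ ((p * q : ℕ) : ℝ) := by exact_mod_cast he'
    push_cast at this
    nlinarith) hlow)
  rw [he] at h1 h2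
  exact last_step hq3 hlt (hG.1.of_dvd_nat W₁.card_subgroup_dvd_card) (hG.1.of_dvd_nat W₂.card_subgroup_dvd_card)
    hu hv hh h1 hh' (Nat.pos_of_ne_zero Subgroup.index_ne_zero_of_finite) he' h2

end Cfsg.Lib.OddOrder
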