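import Cfsg.Agent.Lib.Char.Central
import Cfsg.Agent.Lib.Char.Linear
import Mathlib.GroupTheory.PGroup

/-!
# Congruences of algebraic integers modulo a rational integer

Congruences in `ℂ` modulo `q` times algebraic integers, sums over the orbits of a group of order `q`,
and the values of a virtual character on a coset of a subgroup of order `q` of an abelian group.
-/

set_option autoImplicit false
set_option linter.unusedSectionVars false
set_option linter.style.haveILetI false

namespace Cfsg.Lib.OddOrder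

open Cfsg Cfsg.Lib.Char
open scoped ComplexConjugate

universe u v

/-- `z` and `w` differ by `q` times an algebraic integer. -/
def ModEqC (q : ℕ) (z w : ℂ) : Prop := ∃ r : ℂ, IsIntegral ℤ r ∧ z - w = q * r

variable {q : ℕ} {z w z' w' x : ℂ}

theorem ModEqC.refl (q : ℕ) (z : ℂ) : ModEqC q z z := ⟨0, isIntegral_zero, by ring⟩

theorem ModEqC.symm (h : ModEqC q z w) : ModEqC q w z := by
  obtain ⟨r, hr, e⟩ := h
  exact ⟨-r, hr.neg, by linear_combination -e⟩

theorem ModEqC.trans (h : ModEqC q z w) (h' : ModEqC q w x) : ModEqC q z x := by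
  obtain ⟨r, hr, e⟩ := h
  obtain ⟨s, hs, e'⟩ := h'
  exact ⟨r + s, hr.add hs, by linear_combination e + e'⟩

theorem ModEqC.add (h : ModEqC q z w) (h' : ModEqC q z' w') : ModEqC q (z + z') (w + w') := by
  obtain ⟨r, hr, e⟩ := h
  obtain ⟨s, hs, e'⟩ := h'
  exact ⟨r + s, hr.add hs, by linear_combination e + e'⟩

theorem ModEqC.sub (h : ModEqC q z w) (h' : ModEqC q z' w') : ModEqC q (z - z') (w - w') := by
  obtain ⟨r, hr, e⟩ := h
  obtain ⟨s, hs, e'⟩ := h'
  exact ⟨r - s, hr.sub hs, by linear_combination e - e'⟩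

theorem ModEqC.mul_left (h : ModEqC q z w) (hx : IsIntegral ℤ x) : ModEqC q (x * z) (x * w) := by
  obtain ⟨r, hr, e⟩ := h
  exact ⟨x * r, hx.mul hr, by linear_combination x * e⟩

theorem ModEqC.mul_right (h : ModEqC q z w) (hx : IsIntegral ℤ x) : ModEqC q (z * x) (w * x) := by
  simpa [mul_comm x] using h.mul_left hx

theorem ModEqC.sum {ι : Type*} (s : Finset ι) {f g : ι → ℂ} (h : ∀ i ∈ s, ModEqC q (f i) (g i)) :
    ModEqC q (∑ i ∈ s, f i) (∑ i ∈ s, g i) := by
  classical
  induction s using Finset.induction with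
  | empty => simpa using ModEqC.refl q 0
  | insert a s ha ih =>
    rw [Finset.sum_insert ha, Finset.sum_insert ha]
    exact (h a (Finset.mem_insert_self a s)).add (ih fun i hi => h i (Finset.mem_insert_of_mem hi))

theorem ModEqC.of_int {a b : ℤ} (h : a ≡ b [ZMOD q]) : ModEqC q (a : ℂ) (b : ℂ) := by
  obtain ⟨k, hk⟩ := Int.ModEq.dvd h
  refine ⟨(-k : ℤ), isIntegral_algebraMap, ?_⟩
  have : (b : ℂ) - a = q * k := by exact_mod_cast hk
  push_cast
  linear_combination -this

/-- A congruence between rational integers. -/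
theorem ModEqC.int {a b : ℤ} (h : ModEqC q (a : ℂ) (b : ℂ)) : a ≡ b [ZMOD q] := by
  obtain ⟨r, hr, e⟩ := h
  rcases Nat.eq_zero_or_pos q with rfl | hq
  · have : (a : ℂ) = b := by simpa [sub_eq_zero] using e
    rw [Int.cast_inj] at this
    rw [this]
  · have hqC : (q : ℂ) ≠ 0 := Nat.cast_ne_zero.2 hq.ne'
    have hr' : r = (((a - b : ℤ) : ℚ) / (q : ℚ) : ℚ) := by
      push_cast
      rw [eq_div_iff hqC]
      linear_combination -e
    rw [hr'] at hr
    obtain ⟨m, hm⟩ := exists_int_of_isIntegral_rat hr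
    have hm' : (a - b : ℤ) = (m : ℤ) * q := by
      have := hm
      rw [div_eq_iff (by exact_mod_cast hq.ne' : (q : ℚ) ≠ 0)] at this
      exact_mod_cast this
    exact (Int.modEq_iff_dvd.2 ⟨-m, by linarith⟩)

/-- An integer prime to `q` can be cancelled. -/
theorem ModEqC.cancel {m : ℕ} (hm : m.Coprime q) (h : ModEqC q (m * z) (m * w))
    (hz : IsIntegral ℤ z) (hw : IsIntegral ℤ w) : ModEqC q z w := by
  obtain ⟨r, hr, e⟩ := h
  obtain ⟨s, t, hst⟩ : IsCoprime (m : ℤ) (q : ℤ) := Nat.isCoprime_iff_coprime.2 hm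
  have hst' : (s : ℂ) * m + t * q = 1 := by exact_mod_cast hst
  refine ⟨(s : ℂ) * r + t * (z - w),
    (isIntegral_algebraMap.mul hr).add (isIntegral_algebraMap.mul (hz.sub hw)), ?_⟩
  linear_combination (w - z) * hst' + s * e

/-- A sum over a set on which a group of prime order `q` acts: the fixed points give it modulo `q`. -/
theorem sum_modEqC_fixed {A : Type u} [Group A] [Finite A] {X : Type v} [Fintype X] [MulAction A X]
    [DecidableEq X] [hq : Fact q.Prime] (hA : Nat.card A = q) (f : X → ℂ) (hint : ∀ y, IsIntegral ℤ (f y))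
    (hinv : ∀ (a : A) (y : X), f (a • y) = f y) (S : Finset X) (hS : ∀ y, y ∈ S ↔ ∀ a : A, a • y = y) :
    ModEqC q (∑ y, f y) (∑ y ∈ S, f y) := by
  classical
  have hp : IsPGroup q A := IsPGroup.of_card (n := 1) (by rw [hA, pow_one])
  rw [← Finset.sum_fiberwise_of_maps_to (g := f) (fun y _ => Finset.mem_image_of_mem f (Finset.mem_univ y)),
    ← Finset.sum_fiberwise_of_maps_to (s := S) (t := Finset.univ.image f) (g := f)
      (fun y _ => Finset.mem_image_of_mem f (Finset.mem_univ y))]
  refine ModEqC.sum _ fun c hc => ?_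
  obtain ⟨y, -, rfl⟩ := Finset.mem_image.1 hc
  rw [Finset.sum_congr rfl (fun x hx => (Finset.mem_filter.1 hx).2),
    Finset.sum_congr rfl (fun x hx => (Finset.mem_filter.1 hx).2), Finset.sum_const, Finset.sum_const,
    nsmul_eq_mul, nsmul_eq_mul]
  refine ModEqC.mul_right ?_ (hint y)
  letI : MulAction A {x : X // f x = f y} :=
    { smul := fun a x => ⟨a • x.1, (hinv a x.1).trans x.2⟩
      one_smul := fun x => Subtype.ext (one_smul A x.1)
      mul_smul := fun a b x => Subtype.ext (mul_smul a b x.1) }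
  have h := hp.card_modEq_card_fixedPoints {x : X // f x = f y}
  rw [Nat.card_eq_fintype_card, Fintype.card_subtype] at h
  have e : Nat.card (MulAction.fixedPoints A {x : X // f x = f y}) = (S.filter fun x => f x = f y).card := by
    rw [← Fintype.card_coe, ← Nat.card_eq_fintype_card]
    exact Nat.card_congr
      { toFun := fun x => ⟨x.1.1, Finset.mem_filter.2 ⟨(hS _).2 fun a => congrArg Subtype.val (x.2 a), x.1.2⟩⟩
        invFun := fun x => ⟨⟨x.1, (Finset.mem_filter.1 x.2).2⟩,
          fun a => Subtype.ext ((hS _).1 (Finset.mem_filter.1 x.2).1 a)⟩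
        left_inv := fun x => rfl
        right_inv := fun x => rfl }
  rw [e] at h
  have h' := ModEqC.of_int (q := q) (Int.natCast_modEq_iff.2 h)
  simpa using h'

variable {W : Type u} [Group W] [Fintype W]

/-- The sum of a virtual character of an abelian group over a coset of a subgroup of order `q` is `0`
modulo `q`. -/
theorem sum_coset_modEqC_zero (hab : ∀ a b : W, a * b = b * a) (X : Subgroup W) [Fintype X]
    (hX : Nat.card X = q) {F : W → ℂ} (hF : IsGeneralizedCharacter W F) (v : W) :
    ModEqC q (∑ y : X, F ((y : W) * v)) 0 := by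
  classical
  suffices h : ∀ χ : W → ℂ, IsCharacter W χ → ModEqC q (∑ y : X, χ ((y : W) * v)) 0 by
    obtain ⟨a, b, ha, hb, rfl⟩ := hF
    simpa [Pi.sub_apply, Finset.sum_sub_distrib] using (h a ha).sub (h b hb)
  intro χ hχ
  have hirr : ∀ η : IrrCharacter W, ModEqC q (∑ y : X, (η : W → ℂ) ((y : W) * v)) 0 := by
    intro η
    obtain ⟨φ, hφ⟩ := exists_hom_of_degree_one η.2.isCharacter (degree_eq_one_of_comm hab η.2)
    simp only [hφ, map_mul, Units.val_mul, ← Finset.sum_mul]
    by_cases hone : ∀ y : X, φ y = 1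
    · refine ⟨(φ v : ℂ), ?_, ?_⟩
      · have := η.2.isCharacter.isIntegral v
        rwa [hφ] at this
      · rw [Finset.sum_congr rfl (fun y _ => by rw [hone y, Units.val_one]), Finset.sum_const,
          Finset.card_univ, ← Nat.card_eq_fintype_card, hX]
        simp
    · push Not at hone
      obtain ⟨y₀, hy₀⟩ := hone
      have h0 : ∑ y : X, (φ (y : W) : ℂ) = 0 := by
        have h1 : (φ (y₀ : W) : ℂ) * ∑ y : X, (φ (y : W) : ℂ) = ∑ y : X, (φ (y : W) : ℂ) := by
          rw [Finset.mul_sum]
          refine Fintype.sum_equiv (Equiv.mulLeft y₀) _ _ fun y => ?_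
          rw [Equiv.coe_mulLeft, Subgroup.coe_mul, map_mul, Units.val_mul]
        have h2 : (φ (y₀ : W) : ℂ) ≠ 1 := fun e => hy₀ (Units.ext e)
        by_contra h3
        exact h2 (mul_right_cancel₀ h3 (by rw [h1, one_mul]))
      rw [h0, zero_mul]
      exact ModEqC.refl q 0
  rw [eq_sum_classInner hχ.isClassFunction]
  simp only [Finset.sum_apply, Pi.smul_apply, smul_eq_mul]
  rw [Finset.sum_comm]
  have h0 : (0 : ℂ) = ∑ η : IrrCharacter W, classInner χ η * 0 := by simp
  rw [h0]
  refine ModEqC.sum _ fun η _ => ?_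
  rw [← Finset.mul_sum]
  obtain ⟨n, hn⟩ := hχ.isGeneralized.exists_int_classInner η.2.isGeneralized
  rw [hn]
  exact (hirr η).mul_left isIntegral_algebraMap

end Cfsg.Lib.OddOrder
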