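import Cfsg.Agent.Lib.OddOrder.PairData
import Cfsg.Agent.Lib.Local.Sigma.NeighbourTau
import Cfsg.Agent.Lib.OddOrder12.Orbit
import Cfsg.Agent.Lib.OddOrder12.Setup
import Cfsg.Agent.S1435
import Mathlib.GroupTheory.SpecificGroups.Cyclic

/-!
# The neighbour of a full type II member of a pair (notes/ft_main.md, section 6)

For a pair `S`, `T`, both full, `S` of type II, and `L` maximal over `N (R)`, `R` a Sylow subgroup of `U`:
`L` is a Frobenius group with kernel `L_σ ≥ U` and complement `W₁` or `W₁ × W₂^y`, `y ∈ T_F`.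
-/

set_option autoImplicit false
set_option linter.style.haveILetI false
set_option linter.unusedSectionVars false

namespace Cfsg.Lib.OddOrder

open Subgroup Cfsg.Lib Cfsg.Lib.Local Cfsg.Lib.Local.Uniq Cfsg.Lib.Local.Sigma
open scoped commutatorElement

universe u

/-- The standing hypotheses of section 6. -/
structure NeighbourCtx {G : Type u} [Group G] (S T W₁ W₂ U V L : Subgroup G) : Prop where
  minimal : Cfsg.IsMinSimpleOddOrder G
  coatomS : IsCoatom S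
  coatomT : IsCoatom T
  typeS : Cfsg.IsTypePWith S W₁ U W₂
  typeT : Cfsg.IsTypePWith T W₂ V W₁
  twoS : Cfsg.IsOfTypeII S
  twoT : Cfsg.IsOfTypeII T ∨ Cfsg.IsOfTypeIII T
  prime₁ : (Nat.card W₁).Prime
  prime₂ : (Nat.card W₂).Prime
  fullS : FullP S W₁ U W₂
  fullT : FullP T W₂ V W₁
  coatom : IsCoatom L
  normalizer_le : ∃ (r : ℕ) (_ : Fact r.Prime), r ∣ Nat.card U ∧
    ∃ R : Sylow r U, normalizer (((R : Subgroup U).map U.subtype : Subgroup G) : Set G) ≤ L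

variable {G : Type u} [Group G] [Finite G] {S T W₁ W₂ U V L : Subgroup G}

/-- Such an `L` exists. -/
theorem exists_neighbour (hG : Cfsg.IsMinSimpleOddOrder G) (hS : IsCoatom S) (hT : IsCoatom T)
    (hSP : Cfsg.IsTypePWith S W₁ U W₂) (hTP : Cfsg.IsTypePWith T W₂ V W₁) (hSII : Cfsg.IsOfTypeII S)
    (hT23 : Cfsg.IsOfTypeII T ∨ Cfsg.IsOfTypeIII T) (hp₁ : (Nat.card W₁).Prime) (hp₂ : (Nat.card W₂).Prime)
    (hfS : FullP S W₁ U W₂) (hfT : FullP T W₂ V W₁) :
    ∃ L : Subgroup G, NeighbourCtx S T W₁ W₂ U V L := by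
  obtain ⟨-, hU1, -⟩ := decomp_of_typeP hG hS hSP hSII
  obtain ⟨r, hr, hrd⟩ := Nat.exists_prime_and_dvd fun e => hU1 (eq_bot_of_card_eq _ e)
  haveI := Fact.mk hr
  obtain ⟨R⟩ : Nonempty (Sylow r U) := inferInstance
  set R' := (R : Subgroup U).map U.subtype
  have hne : R' ≠ ⊥ := fun e => by
    rw [map_eq_bot_iff_of_injective _ U.subtype_injective] at e
    exact R.ne_bot_of_dvd_card hrd e
  have hlt : normalizer (R' : Set G) ≠ ⊤ :=
    OddTransitivity.normalizer_ne_top_of hG hne (ne_top_of_isPGroup hG (R.isPGroup'.map _))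
  obtain ⟨L, hL, hle⟩ := (eq_top_or_exists_le_coatom (normalizer (R' : Set G))).resolve_left hlt
  exact ⟨L, hG, hS, hT, hSP, hTP, hSII, hT23, hp₁, hp₂, hfS, hfT, hL, r, inferInstance, hrd, R, hle⟩

namespace NeighbourCtx

theorem decomp (c : NeighbourCtx S T W₁ W₂ U V L) :
    Cfsg.IsSigmaDecomposition S W₁ U ∧ U ≠ ⊥ ∧ Cfsg.fittingHallOf S = Cfsg.sigmaCore S :=
  decomp_of_typeP c.minimal c.coatomS c.typeS c.twoS

theorem nb (c : NeighbourCtx S T W₁ W₂ U V L) : Neighbour S W₁ U T L :=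
  ⟨c.minimal, c.coatomS, c.decomp.1, c.typeS.W₁_ne, c.decomp.2.1,
    pair_of_data c.minimal c.coatomS c.coatomT c.typeS c.typeT, c.coatom, c.normalizer_le⟩

theorem kappa_empty (c : NeighbourCtx S T W₁ W₂ U V L) : Cfsg.kappa L = ∅ := c.nb.kappa_empty

theorem nilpotent (c : NeighbourCtx S T W₁ W₂ U V L) : Group.IsNilpotent (Cfsg.sigmaCore L) :=
  Cfsg.Lib.FT12.nilpotent_of_free c.minimal c.coatom c.kappa_empty

theorem fittingHallOf_eq (c : NeighbourCtx S T W₁ W₂ U V L) :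
    Cfsg.fittingHallOf L = Cfsg.sigmaCore L :=
  Sigma.fittingHallOf_eq c.minimal c.coatom c.nilpotent

theorem U_le (c : NeighbourCtx S T W₁ W₂ U V L) : U ≤ Cfsg.sigmaCore L := c.nb.U_le_sigmaCore

theorem inter_S (c : NeighbourCtx S T W₁ W₂ U V L) : S ⊓ L = U ⊔ W₁ := c.nb.inter_M

theorem compl (c : NeighbourCtx S T W₁ W₂ U V L) : Compl L (L ⊓ T) := c.nb.compl

theorem W₁_le (c : NeighbourCtx S T W₁ W₂ U V L) : W₁ ≤ L ⊓ T :=
  c.nb.inter_compl.1.trans (Uniq.fitting_le _)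

theorem not_conj_S (c : NeighbourCtx S T W₁ W₂ U V L) (g : G) : L ≠ cj g S := c.nb.not_conj g

theorem not_conj_T (c : NeighbourCtx S T W₁ W₂ U V L) (g : G) : L ≠ cj g T := c.nb.not_conj_L g

theorem card_W₁_ne (c : NeighbourCtx S T W₁ W₂ U V L) : Nat.card W₁ ≠ Nat.card W₂ := by
  intro e
  haveI := Fact.mk c.prime₂
  refine c.nb.U_not_sigma c.prime₁ ?_ |>.2 rfl |>.elim
  exfalso
  refine (c.decomp.1.hall.2.1 _ c.prime₁ dvd_rfl).2.2.1 ?_
  rw [e]
  exact sigmaCore_isPiSub S _ c.prime₂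
    (card_dvd_of_le ((c.typeS.W₂_le.trans inf_le_left).trans (fittingHallOf_le c.minimal c.coatomS)))

theorem centralizer_le_T (c : NeighbourCtx S T W₁ W₂ U V L) {x : G} (hx : x ∈ Cfsg.fittingHallOf T) (hx1 : x ≠ 1) :
    centralizer ({x} : Set G) ≤ T :=
  centralizer_le_of_fitting_ti c.minimal c.coatomT c.typeT (fitting_ti_of_typeII_or_III c.twoT) hx hx1

theorem centralizer_le_S (c : NeighbourCtx S T W₁ W₂ U V L) {x : G} (hx : x ∈ Cfsg.fittingHallOf S) (hx1 : x ≠ 1) :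
    centralizer ({x} : Set G) ≤ S :=
  centralizer_le_of_fitting_ti c.minimal c.coatomS c.typeS
    (fitting_ti_of_typeII_or_III (Or.inl c.twoS)) hx hx1

theorem W₁_le_Q (c : NeighbourCtx S T W₁ W₂ U V L) : W₁ ≤ Cfsg.fittingHallOf T := c.typeT.W₂_le.trans inf_le_left

theorem W₂_le_P (c : NeighbourCtx S T W₁ W₂ U V L) : W₂ ≤ Cfsg.fittingHallOf S := c.typeS.W₂_le.trans inf_le_left

theorem W₂_le_T (c : NeighbourCtx S T W₁ W₂ U V L) : W₂ ≤ T := c.typeT.W₁_compl.2.1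

theorem T_normalizes (_c : NeighbourCtx S T W₁ W₂ U V L) :
    T ≤ normalizer (Cfsg.fittingHallOf T : Set G) := le_normalizer_fittingHallOf

theorem sigmaCore_inf_T (c : NeighbourCtx S T W₁ W₂ U V L) : Cfsg.sigmaCore L ⊓ T = ⊥ :=
  le_bot_iff.1 fun _ hz => (c.compl.compl.2.2.1).le
    ⟨⟨sigmaCore_le L hz.1, hz.2⟩, hz.1⟩

theorem coprime_Q (c : NeighbourCtx S T W₁ W₂ U V L) :
    (Nat.card ↥(Cfsg.fittingHallOf T)).Coprime (Nat.card W₂) := by
  rw [c.fullT.card_fitting]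
  exact ((Nat.coprime_primes c.prime₁ c.prime₂).2 c.card_W₁_ne).pow_left _

/-- `E ∩ T_F = W₁`. -/
theorem inter_Q (c : NeighbourCtx S T W₁ W₂ U V L) : L ⊓ T ⊓ Cfsg.fittingHallOf T = W₁ := by
  haveI := Fact.mk c.prime₁
  set A := L ⊓ T ⊓ Cfsg.fittingHallOf T
  haveI := c.fullT.comm
  haveI hAc : IsMulCommutative A :=
    ⟨⟨fun a b => Subtype.ext (congrArg Subtype.val
      (mul_comm' (⟨a, a.2.2⟩ : Cfsg.fittingHallOf T) ⟨b, b.2.2⟩) : (a : G) * b = b * a)⟩⟩
  have hcyc : IsCyclic A := by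
    by_contra hnc
    have hcop : (Nat.card A).Coprime (Nat.card (Cfsg.sigmaCore L)) := by
      refine Nat.coprime_of_dvd fun t ht h1 h2 => ?_
      exact c.compl.not_mem_sigma c.minimal ht (h1.trans (card_dvd_of_le inf_le_left))
        (sigmaCore_isPiSub L t ht h2)
    refine sigmaCore_ne_bot c.minimal c.coatom (le_bot_iff.1
      ((Coprime.le_iSup_centralizer_of_not_isCyclic hnc
        (inf_le_left.trans (inf_le_left.trans (le_normalizer_sigmaCore L))) hcop).trans (iSup_le ?_)))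
    rintro ⟨a, ha, ha1⟩
    exact (inf_le_inf le_rfl (c.centralizer_le_T ha.2 ha1)).trans c.sigmaCore_inf_T.le
  refine (eq_of_le_of_card_ge (le_inf c.W₁_le c.W₁_le_Q) ?_).symm
  obtain ⟨g, hg⟩ := hcyc.exists_ofOrder_eq_natCard
  rw [← hg]
  exact Nat.le_of_dvd c.prime₁.pos (orderOf_dvd_of_pow_eq_one (Subtype.ext (c.fullT.pow_eq g g.2.2)))

/-- `E ≤ T_F W₂`. -/
theorem inter_le (c : NeighbourCtx S T W₁ W₂ U V L) : L ⊓ T ≤ Cfsg.fittingHallOf T ⊔ W₂ := by
  intro e he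
  haveI := Fact.mk c.prime₁
  set Q := Cfsg.fittingHallOf T
  have hQT : Q ≤ T := fittingHallOf_le_self
  have hen : e ∈ normalizer (W₁ : Set G) := by
    refine Core.mem_normalizer_iff_map_conj.2 (eq_of_le_of_card_ge ?_ (Coprime.card_map_conj _ _).ge)
    rintro _ ⟨z, hz, rfl⟩
    exact c.inter_Q.le (Subgroup.mem_inf.2 ⟨mul_mem (mul_mem he (c.W₁_le hz)) (inv_mem he),
      (mem_normalizer_iff.1 (c.T_normalizes he.2) z).1 (c.W₁_le_Q hz)⟩)
  obtain ⟨d, hd, w, hw, rfl⟩ := c.typeT.W₁_compl.2.2.2 e he.2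
  obtain ⟨a, ha, v, hv, rfl⟩ := c.typeT.U_compl.2.2.2 d hd
  haveI := c.fullT.comm
  have han : a ∈ normalizer (W₁ : Set G) := centralizer_le_normalizer _ (mem_centralizer_iff.2 fun z hz =>
    congrArg Subtype.val (mul_comm' (⟨z, c.W₁_le_Q hz⟩ : Q) ⟨a, ha⟩))
  have hwn : w ∈ normalizer (W₁ : Set G) := centralizer_le_normalizer _ (mem_centralizer_iff.2 fun z hz =>
    c.typeS.selfNormalizing.2.2.2.1 z hz w hw)
  have hvn : v ∈ normalizer (W₁ : Set G) := by
    have h1 := mul_mem (mul_mem (inv_mem han) hen) (inv_mem hwn)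
    rwa [show a⁻¹ * (a * v * w) * w⁻¹ = v by group] at h1
  have hv1 : v = 1 := by
    by_contra hv1
    set φ := Subgroup.normalizerMonoidHom W₁
    haveI := c.typeS.W₁_cyclic
    have hd1 : orderOf (φ ⟨v, hvn⟩) ∣ Nat.card W₁ - 1 := by
      have h := orderOf_dvd_natCard (φ ⟨v, hvn⟩)
      rwa [IsCyclic.card_mulAut, Nat.totient_prime c.prime₁] at h
    have hd2 : orderOf (φ ⟨v, hvn⟩) ∣ Nat.card V :=
      (orderOf_map_dvd φ _).trans (by rw [Subgroup.orderOf_mk]; exact Subgroup.orderOf_dvd_natCard _ hv)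
    have h1 : φ ⟨v, hvn⟩ = 1 := orderOf_eq_one_iff.1 (Nat.eq_one_of_dvd_coprimes c.fullT.coprime hd2 hd1)
    obtain ⟨x, hx, hx1⟩ := (bot_or_exists_ne_one W₁).resolve_left c.typeS.W₁_ne
    have h2 : v * x * v⁻¹ = x := congrArg (fun f => ((f ⟨x, hx⟩ : W₁) : G)) h1
    exact hx1 (c.fullT.free v hv hv1 x (c.W₁_le_Q hx) (mul_inv_eq_iff_eq_mul.1 h2))
  rw [hv1, mul_one]
  exact mul_mem (mem_sup_left ha) (mem_sup_right hw)

/-- An element of order `p` of `T_F W₂` is conjugate to one of `W₂` under `T_F`. -/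
theorem exists_conj_W₂ (c : NeighbourCtx S T W₁ W₂ U V L) {x : G} (hx : x ∈ Cfsg.fittingHallOf T ⊔ W₂)
    (hxo : orderOf x = Nat.card W₂) :
    ∃ n ∈ Cfsg.fittingHallOf T, zpowers x = cj n W₂ := by
  haveI : IsCyclic W₂ := c.typeT.W₁_cyclic
  letI := IsCyclic.commGroup (α := W₂)
  exact Coprime.exists_conj_of_coprime _ W₂ (zpowers x) (c.W₂_le_T.trans c.T_normalizes) c.coprime_Q.symm
    (Or.inl (Group.isSolvable_of_comm fun a b => mul_comm a b)) (zpowers_le.2 hx) (by rw [Nat.card_zpowers, hxo])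

/-- The shape of the complement. -/
theorem inter_shape (c : NeighbourCtx S T W₁ W₂ U V L) :
    (L ⊓ T = W₁ ∧ Nat.card ↥(L ⊓ T) = Nat.card W₁) ∨
      ∃ y ∈ Cfsg.fittingHallOf T, L ⊓ T = W₁ ⊔ cj y W₂ ∧
        Nat.card ↥(L ⊓ T) = Nat.card W₁ * Nat.card W₂ := by
  haveI := Fact.mk c.prime₂
  set Q := Cfsg.fittingHallOf T
  have hWn : W₂ ≤ normalizer (Q : Set G) := c.W₂_le_T.trans c.T_normalizes
  by_cases hd : Nat.card W₂ ∣ Nat.card ↥(L ⊓ T)
  · right
    obtain ⟨⟨x, hx⟩, hxo⟩ := exists_prime_orderOf_dvd_card' (Nat.card W₂) hd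
    rw [Subgroup.orderOf_mk] at hxo
    obtain ⟨n, hn, hnx⟩ := c.exists_conj_W₂ (c.inter_le hx) hxo
    have hW2 : cj n W₂ ≤ L ⊓ T := hnx.ge.trans (zpowers_le.2 hx)
    have hW2Q : Q ⊓ cj n W₂ = ⊥ :=
      inf_eq_bot_of_coprime (by rw [Coprime.card_map_conj]; exact c.coprime_Q)
    have hdec : ∀ e ∈ L ⊓ T, ∃ a ∈ W₁, ∃ b ∈ cj n W₂, e = a * b := by
      intro e he
      obtain ⟨a, ha, w, hw, rfl⟩ := Coprime.exists_mul_of_mem_sup hWn (c.inter_le he)
      refine ⟨a * w * (n * w * n⁻¹)⁻¹, ?_, n * w * n⁻¹, mem_cj hw, by group⟩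
      refine c.inter_Q.le (Subgroup.mem_inf.2 ⟨mul_mem he (inv_mem (hW2 (mem_cj hw))), ?_⟩)
      rw [show a * w * (n * w * n⁻¹)⁻¹ = a * (w * n * w⁻¹) * n⁻¹ by group]
      exact mul_mem (mul_mem ha ((mem_normalizer_iff.1 (hWn hw) n).1 hn)) (Subgroup.inv_mem _ hn)
    have hcompl : Cfsg.IsComplIn W₁ (cj n W₂) (L ⊓ T) :=
      ⟨c.W₁_le, hW2, le_bot_iff.1 ((inf_le_inf_right _ c.W₁_le_Q).trans hW2Q.le), hdec⟩
    refine ⟨n, hn, le_antisymm (fun e he => ?_) (sup_le c.W₁_le hW2), ?_⟩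
    · obtain ⟨a, ha, b, hb, rfl⟩ := hdec e he
      exact mul_mem (mem_sup_left ha) (mem_sup_right hb)
    · rw [← card_of_isComplIn hcompl, Coprime.card_map_conj]
  · left
    have heq : L ⊓ T = W₁ := by
      refine le_antisymm (fun e he => c.inter_Q.le ⟨he, ?_⟩) c.W₁_le
      obtain ⟨a, ha, w, hw, hew⟩ := Coprime.exists_mul_of_mem_sup hWn (c.inter_le he)
      -- `e ^ |E| = 1` lands in `Q · w ^ |E|`
      let H := Q ⊔ W₂
      haveI : (Q.subgroupOf H).Normal :=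
        (normal_subgroupOf_iff_le_normalizer le_sup_left).2 (sup_le Subgroup.le_normalizer hWn)
      have heH : e ∈ H := c.inter_le he
      have hwQ : w ^ Nat.card ↥(L ⊓ T) ∈ Q := by
        have he1 : (⟨e, heH⟩ : H) ^ Nat.card ↥(L ⊓ T) = 1 := Subtype.ext (by
          have := congrArg Subtype.val (pow_card_eq_one' (x := (⟨e, he⟩ : ↥(L ⊓ T))))
          simpa using this)
        have hmk : (QuotientGroup.mk (⟨e, heH⟩ : H) : H ⧸ Q.subgroupOf H) =
            QuotientGroup.mk (⟨w, mem_sup_right hw⟩ : H) := by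
          rw [show (⟨e, heH⟩ : H) = ⟨a, mem_sup_left ha⟩ * ⟨w, mem_sup_right hw⟩ from Subtype.ext hew,
            QuotientGroup.mk_mul,
            (QuotientGroup.eq_one_iff _).2 (show (⟨a, mem_sup_left ha⟩ : H) ∈ Q.subgroupOf H from ha), one_mul]
        have := congrArg (fun z => z ^ Nat.card ↥(L ⊓ T)) hmk
        beta_reduce at this
        rw [← QuotientGroup.mk_pow, ← QuotientGroup.mk_pow, he1, QuotientGroup.mk_one, eq_comm,
          QuotientGroup.eq_one_iff] at this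
        exact this
      have hw1 : w = 1 := by
        by_contra hw1
        have ho : orderOf w = Nat.card W₂ :=
          ((Nat.dvd_prime c.prime₂).1 (Subgroup.orderOf_dvd_natCard _ hw)).resolve_left
            (fun h => hw1 (orderOf_eq_one_iff.1 h))
        refine hd (ho ▸ orderOf_dvd_of_pow_eq_one (mem_bot.1 ((inf_eq_bot_of_coprime c.coprime_Q).le
          (Subgroup.mem_inf.2 ⟨hwQ, pow_mem hw _⟩))))
      rwa [hew, hw1, mul_one]
    exact ⟨heq, by rw [heq]⟩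

/-- `C_{S}(x) ≤ S_F W₁` for `x ∈ W₂#`. -/
theorem centralizer_W₂ (c : NeighbourCtx S T W₁ W₂ U V L) {x : G} (hx : x ∈ W₂) (hx1 : x ≠ 1) :
    centralizer ({x} : Set G) ≤ Cfsg.fittingHallOf S ⊔ W₁ := by
  intro s hs
  haveI := c.fullS.comm
  obtain ⟨d, hd, w, hw, rfl⟩ := c.typeS.W₁_compl.2.2.2 s (c.centralizer_le_S (c.W₂_le_P hx) hx1 hs)
  obtain ⟨a, ha, v, hv, rfl⟩ := c.typeS.U_compl.2.2.2 d hd
  have hax : a ∈ centralizer ({x} : Set G) := mem_centralizer_singleton_iff.2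
    (congrArg Subtype.val (mul_comm' (⟨a, ha⟩ : Cfsg.fittingHallOf S) ⟨x, c.W₂_le_P hx⟩))
  have hwx : w ∈ centralizer ({x} : Set G) :=
    mem_centralizer_singleton_iff.2 (c.typeS.selfNormalizing.2.2.2.1 w hw x hx)
  have hvx := mul_mem (mul_mem (inv_mem hax) hs) (inv_mem hwx)
  rw [show a⁻¹ * (a * v * w) * w⁻¹ = v by group] at hvx
  have hv1 : v = 1 := by_contra fun hv1 =>
    hx1 (c.fullS.free v hv hv1 x (c.W₂_le_P hx) (mem_centralizer_singleton_iff.1 hvx))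
  rw [hv1, mul_one]
  exact mul_mem (mem_sup_left ha) (mem_sup_right hw)

/-- The complement acts without fixed points on `L_σ`. -/
theorem fixedfree (c : NeighbourCtx S T W₁ W₂ U V L) {e : G} (he : e ∈ L ⊓ T) (he1 : e ≠ 1) :
    Cfsg.sigmaCore L ⊓ centralizer ({e} : Set G) = ⊥ := by
  obtain ⟨t, ht, htd⟩ := Nat.exists_prime_and_dvd fun h => he1 (orderOf_eq_one_iff.1 h)
  set f := e ^ (orderOf e / t)
  have hfo : orderOf f = t := orderOf_pow_orderOf_div (orderOf_pos e).ne' htd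
  have hfE : f ∈ L ⊓ T := pow_mem he _
  have hf1 : f ≠ 1 := fun h => ht.ne_one (by rw [← hfo, h, orderOf_one])
  refine le_bot_iff.1 ((inf_le_inf le_rfl (fun z hz => mem_centralizer_singleton_iff.2
    ((show Commute z e from mem_centralizer_singleton_iff.1 hz).pow_right _).eq :
      centralizer ({e} : Set G) ≤ centralizer ({f} : Set G))).trans (le_of_eq ?_))
  rcases c.inter_shape with ⟨-, hc⟩ | ⟨y, hy, -, hc⟩
  · have hd : t ∣ Nat.card W₁ := hfo ▸ hc ▸ Subgroup.orderOf_dvd_natCard _ hfE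
    rw [Nat.prime_dvd_prime_iff_eq ht c.prime₁] at hd
    have hfW : f ∈ W₁ := by
      rw [← c.inter_Q]
      refine ⟨hfE, ?_⟩
      have h1 : L ⊓ T = W₁ := (eq_of_le_of_card_ge c.W₁_le hc.le).symm
      exact c.W₁_le_Q (h1 ▸ hfE)
    exact c.nb.fixedfree hfW hf1
  · have hd : t ∣ Nat.card W₁ * Nat.card W₂ := hfo ▸ hc ▸ Subgroup.orderOf_dvd_natCard _ hfE
    rcases ht.dvd_mul.1 hd with hd | hd
    · rw [Nat.prime_dvd_prime_iff_eq ht c.prime₁] at hd
      have hfW : f ∈ W₁ := by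
        rw [← c.inter_Q]
        refine ⟨hfE, ?_⟩
        obtain ⟨a, ha, w, hw, hfw⟩ :=
          Coprime.exists_mul_of_mem_sup (c.W₂_le_T.trans c.T_normalizes) (c.inter_le hfE)
        let H := Cfsg.fittingHallOf T ⊔ W₂
        haveI : ((Cfsg.fittingHallOf T).subgroupOf H).Normal :=
          (normal_subgroupOf_iff_le_normalizer le_sup_left).2
            (sup_le Subgroup.le_normalizer (c.W₂_le_T.trans c.T_normalizes))
        have hmk : (QuotientGroup.mk (⟨f, c.inter_le hfE⟩ : H) : H ⧸ (Cfsg.fittingHallOf T).subgroupOf H) =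
            QuotientGroup.mk (⟨w, mem_sup_right hw⟩ : H) := by
          rw [show (⟨f, c.inter_le hfE⟩ : H) = ⟨a, mem_sup_left ha⟩ * ⟨w, mem_sup_right hw⟩ from Subtype.ext hfw,
            QuotientGroup.mk_mul,
            (QuotientGroup.eq_one_iff _).2
              (show (⟨a, mem_sup_left ha⟩ : H) ∈ (Cfsg.fittingHallOf T).subgroupOf H from ha), one_mul]
        have h1 : orderOf (QuotientGroup.mk (⟨w, mem_sup_right hw⟩ : H) : H ⧸ (Cfsg.fittingHallOf T).subgroupOf H)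
            ∣ Nat.card W₁ := by
          rw [← hmk, ← hd, ← hfo, ← Subgroup.orderOf_mk f (c.inter_le hfE)]
          exact orderOf_map_dvd (QuotientGroup.mk' ((Cfsg.fittingHallOf T).subgroupOf H)) _
        have h2 : orderOf (QuotientGroup.mk (⟨w, mem_sup_right hw⟩ : H) : H ⧸ (Cfsg.fittingHallOf T).subgroupOf H)
            ∣ Nat.card W₂ :=
          (orderOf_map_dvd (QuotientGroup.mk' ((Cfsg.fittingHallOf T).subgroupOf H)) _).trans
            (by rw [Subgroup.orderOf_mk]; exact Subgroup.orderOf_dvd_natCard _ hw)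
        have h3 := Nat.eq_one_of_dvd_coprimes ((Nat.coprime_primes c.prime₁ c.prime₂).2 c.card_W₁_ne) h1 h2
        rw [orderOf_eq_one_iff, QuotientGroup.eq_one_iff] at h3
        rw [hfw]
        exact mul_mem ha h3
      exact c.nb.fixedfree hfW hf1
    · rw [Nat.prime_dvd_prime_iff_eq ht c.prime₂] at hd
      obtain ⟨n, hn, hnf⟩ := c.exists_conj_W₂ (c.inter_le hfE) (hfo.trans hd)
      obtain ⟨x, hx, hxf⟩ := hnf.le (mem_zpowers f)
      have hxf : n * x * n⁻¹ = f := hxf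
      have hx1 : x ≠ 1 := fun h => hf1 (by rw [← hxf, h, mul_one, mul_inv_cancel])
      refine le_bot_iff.1 fun z hz => ?_
      have hzx : n⁻¹ * z * n ∈ centralizer ({x} : Set G) := mem_centralizer_singleton_iff.2 (by
        have h0 : z * f = f * z := mem_centralizer_singleton_iff.1 hz.2
        calc n⁻¹ * z * n * x = n⁻¹ * (z * (n * x * n⁻¹)) * n := by group
          _ = n⁻¹ * ((n * x * n⁻¹) * z) * n := by rw [hxf, h0]
          _ = x * (n⁻¹ * z * n) := by group)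
      have hPW : Nat.card ↥(Cfsg.fittingHallOf S ⊔ W₁) ∣ Nat.card W₂ ^ Nat.card W₁ * Nat.card W₁ :=
        c.fullS.card_fitting ▸ card_sup_dvd (c.typeS.W₁_compl.2.1.trans le_normalizer_fittingHallOf)
      have hoz : orderOf z ∣ Nat.card W₂ ^ Nat.card W₁ * Nat.card W₁ := by
        have h1 := (Subgroup.orderOf_dvd_natCard _ (c.centralizer_W₂ hx hx1 hzx)).trans hPW
        rwa [show orderOf (n⁻¹ * z * n) = orderOf z by simpa using orderOf_conj n⁻¹ z] at h1
      rw [mem_bot, ← orderOf_eq_one_iff, Nat.eq_one_iff_not_exists_prime_dvd]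
      intro r hr hrd
      have hrσ : r ∈ Cfsg.sigma L :=
        sigmaCore_isPiSub L r hr (hrd.trans (Subgroup.orderOf_dvd_natCard _ hz.1))
      rcases hr.dvd_mul.1 (hrd.trans hoz) with h1 | h1
      · have h2 := (Nat.prime_dvd_prime_iff_eq hr c.prime₂).1 (hr.dvd_of_dvd_pow h1)
        refine c.compl.not_mem_sigma c.minimal hr ?_ hrσ
        rw [h2, hc]
        exact dvd_mul_left _ _
      · rw [(Nat.prime_dvd_prime_iff_eq hr c.prime₁).1 h1] at hrσ
        exact c.nb.not_sigma hrσ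

/-- `L` is a Frobenius group with kernel `L_σ`. -/
theorem isFrob (c : NeighbourCtx S T W₁ W₂ U V L) : Cfsg.Lib.FT12.IsFrob L := by
  intro y hy hy1 z hz
  have hG := c.minimal
  by_contra hzK
  -- a `σ (L)'`-element commuting with `y` is conjugate into `L ∩ T`
  obtain ⟨r, hr, hrd, hrσ⟩ : ∃ r : ℕ, r.Prime ∧ r ∣ orderOf z ∧ r ∉ Cfsg.sigma L := by
    by_contra h
    push Not at h
    exact hzK (mem_sigmaCore_of_primes hG c.coatom hz.1 h)
  set w := z ^ (orderOf z / r)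
  have hwo : orderOf w = r := orderOf_pow_orderOf_div (orderOf_pos z).ne' hrd
  obtain ⟨g, hg, hgw⟩ := exists_conj_le_hall (π := {t | t ∉ Cfsg.sigma L}) (hG.2.2.2 L c.coatom.1) c.compl.le
    (fun t ht hd => c.compl.not_mem_sigma hG ht hd) (fun t ht htσ => c.compl.not_dvd_relIndex ht htσ)
    (zpowers_le.2 (pow_mem hz.1 (orderOf z / r))) fun t ht hd => by
      rw [Nat.card_zpowers, hwo] at hd
      exact (Nat.prime_dvd_prime_iff_eq ht hr).1 hd ▸ hrσ
  rw [cj_zpowers, zpowers_le] at hgw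
  have hw1 : g * w * g⁻¹ ≠ 1 := fun e => hr.ne_one (by rw [← hwo, conj_eq_one_iff.1 e, orderOf_one])
  refine hy1 (conj_eq_one_iff.1 (mem_bot.1 ((c.fixedfree hgw hw1).le (Subgroup.mem_inf.2
    ⟨(mem_normalizer_iff.1 (le_normalizer_sigmaCore L hg) y).1 hy, mem_centralizer_singleton_iff.2 ?_⟩))))
  have h0 : y * w = w * y :=
    ((show Commute z y from mem_centralizer_singleton_iff.1 hz.2).pow_left _).symm.eq
  rw [conj_mul, conj_mul, h0]

theorem card_eq (c : NeighbourCtx S T W₁ W₂ U V L) :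
    Nat.card ↥(L ⊓ T) * Nat.card (Cfsg.sigmaCore L) = Nat.card L :=
  card_of_isComplIn c.compl.compl

theorem index_eq (c : NeighbourCtx S T W₁ W₂ U V L) :
    (Cfsg.sigmaCore L).relIndex L = Nat.card ↥(L ⊓ T) := by
  refine Nat.eq_of_mul_eq_mul_left (Nat.card_pos (α := Cfsg.sigmaCore L)) ?_
  rw [Core.card_mul_relIndex (sigmaCore_le L), mul_comm, c.card_eq]

/-- `|L : L_σ|` is `q`, or `p q` and then `L` contains a conjugate of `W₂` under `T_F`. -/
theorem index_cases (c : NeighbourCtx S T W₁ W₂ U V L) :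
    (Cfsg.sigmaCore L).relIndex L = Nat.card W₁ ∨
      ((Cfsg.sigmaCore L).relIndex L = Nat.card W₁ * Nat.card W₂ ∧
        ∃ y ∈ Cfsg.fittingHallOf T, cj y W₂ ≤ L) := by
  rw [c.index_eq]
  rcases c.inter_shape with ⟨-, h⟩ | ⟨y, hy, e, h⟩
  · exact Or.inl h
  · exact Or.inr ⟨h, y, hy, (le_sup_right.trans e.ge).trans inf_le_left⟩

/-- `|L : L_σ|` divides `|L_σ| - 1`. -/
theorem index_dvd (c : NeighbourCtx S T W₁ W₂ U V L) :
    (Cfsg.sigmaCore L).relIndex L ∣ Nat.card (Cfsg.sigmaCore L) - 1 := by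
  have h := Cfsg.Lib.FT12.dvd_card_sub_one_of_stab (M := L ⊓ T) (Cfsg.sigmaCore L)
    (inf_le_left.trans (le_normalizer_sigmaCore L)) ⊥ fun m hm v hv hv1 => ?_
  · rwa [relIndex_bot_left, ← c.index_eq] at h
  · refine ⟨fun e => ?_, fun e => by rw [mem_bot.1 e]; group⟩
    rw [mem_bot]
    by_contra hm1
    exact hv1 (mem_bot.1 ((c.fixedfree hm hm1).le (Subgroup.mem_inf.2
      ⟨hv, mem_centralizer_singleton_iff.2 (mul_inv_eq_iff_eq_mul.1 e).symm⟩)))

end NeighbourCtx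

end Cfsg.Lib.OddOrder
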