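import Cfsg.Agent.Lib.OddOrder.Neighbour
import Cfsg.Agent.S1472

/-!
# Orders in the neighbour, and the field configuration (notes/ft_main.md, section 6)

`|U| ≡ 1` modulo `p q`; if `W₂^y ≤ L` and `L_σ ≠ U` then `|L_σ| = m |U|` with `m ≡ 1` modulo `p q`,
`m ≥ 2 p q + 1`; if `W₂^y` does not normalize `U` then `L_σ` is not cyclic; otherwise `p ≤ q`.
-/

set_option autoImplicit false
set_option linter.style.haveILetI false
set_option linter.unusedSectionVars false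

namespace Cfsg.Lib.OddOrder

open Subgroup Cfsg.Lib Cfsg.Lib.Local Cfsg.Lib.Local.Uniq Cfsg.Lib.Local.Sigma

universe u

variable {G : Type u} [Group G] [Finite G] {S T W₁ W₂ U V L : Subgroup G}

theorem pow_pred_gt {p : ℕ} (hp : 3 ≤ p) : ∀ q : ℕ, 3 ≤ q → q * p ≤ p ^ (q - 1) := by
  intro q hq
  induction q, hq using Nat.le_induction with
  | base =>
    rw [show (3 : ℕ) - 1 = 2 from rfl, pow_two]
    exact Nat.mul_le_mul_right _ hp
  | succ q hq ih =>
    rw [show q + 1 - 1 = (q - 1) + 1 by omega, pow_succ]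
    calc (q + 1) * p ≤ (q * p) * p := Nat.mul_le_mul_right _ (by nlinarith)
      _ ≤ p ^ (q - 1) * p := Nat.mul_le_mul_right _ ih

theorem mul_lt_of_full {p q u : ℕ} (hp : 3 ≤ p) (hq : 3 ≤ q) (h : u * (p - 1) + 1 = p ^ q) : p * q < u := by
  by_contra hle
  push Not at hle
  have h1 : u * (p - 1) + 1 ≤ p * q * (p - 1) + 1 := Nat.add_le_add_right (Nat.mul_le_mul_right _ hle) 1
  have h2 : q * p * p ≤ p ^ q := by
    rw [show q = (q - 1) + 1 by omega, pow_succ]
    have := Nat.mul_le_mul_right p (pow_pred_gt hp q hq)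
    rwa [show q - 1 + 1 = q by omega] at *
  obtain ⟨k, rfl⟩ : ∃ k, p = k + 1 := ⟨p - 1, by omega⟩
  simp only [Nat.add_sub_cancel] at *
  nlinarith

/-- In a cyclic group a subgroup is determined by its order. -/
theorem eq_of_card_eq_in_cyclic {G : Type*} [Group G] [Finite G] {O A B : Subgroup G} (hO : IsCyclic O)
    (hA : A ≤ O) (hB : B ≤ O) (h : Nat.card A = Nat.card B) : A = B := by
  haveI := hO
  letI : CommGroup O := IsCyclic.commGroup
  have key : ∀ C : Subgroup G, C ≤ O → Nat.card C = Nat.card A →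
      C.subgroupOf O = (powMonoidHom (Nat.card A) : O →* O).ker := by
    intro C hC hc
    refine Subgroup.eq_of_le_of_card_ge (fun w hw => ?_) (le_of_eq ?_)
    · refine Subtype.ext ?_
      show (w : G) ^ Nat.card A = 1
      rw [← hc]
      exact congrArg Subtype.val (pow_card_eq_one' (x := (⟨w, hw⟩ : C)))
    · rw [IsCyclic.card_powMonoidHom_ker, Nat.card_congr (Subgroup.subgroupOfEquivOfLe hC).toEquiv, hc,
        Nat.gcd_eq_right (Subgroup.card_dvd_of_le hA)]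
  have e := (key A hA rfl).trans (key B hB h.symm).symm
  rw [← Subgroup.map_subgroupOf_eq_of_le hA, ← Subgroup.map_subgroupOf_eq_of_le hB, e]

namespace NeighbourCtx

theorem three_le_W₁ (c : NeighbourCtx S T W₁ W₂ U V L) : 3 ≤ Nat.card W₁ := by
  have := c.prime₁.two_le
  have h2 := Uniq.ne_two c.minimal W₁.card_subgroup_dvd_card
  omega

theorem three_le_W₂ (c : NeighbourCtx S T W₁ W₂ U V L) : 3 ≤ Nat.card W₂ := by
  have := c.prime₂.two_le
  have h2 := Uniq.ne_two c.minimal W₂.card_subgroup_dvd_card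
  omega

theorem mul_lt_card_U (c : NeighbourCtx S T W₁ W₂ U V L) :
    Nat.card W₂ * Nat.card W₁ < Nat.card U :=
  mul_lt_of_full c.three_le_W₂ c.three_le_W₁ c.fullS.card_U

/-- `|U| ≡ 1` modulo `q`. -/
theorem card_U_mod_W₁ (c : NeighbourCtx S T W₁ W₂ U V L) : Nat.card W₁ ∣ Nat.card U - 1 := by
  have h := Cfsg.Lib.FT12.dvd_card_sub_one_of_stab (M := W₁) U c.typeS.U_normal ⊥ fun m hm v hv hv1 => ?_
  · rwa [relIndex_bot_left] at h
  · refine ⟨fun e => ?_, fun e => by rw [mem_bot.1 e]; group⟩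
    rw [mem_bot]
    by_contra hm1
    exact hv1 (mem_bot.1 ((c.nb.fixedfree hm hm1).le (Subgroup.mem_inf.2
      ⟨c.U_le hv, mem_centralizer_singleton_iff.2 (mul_inv_eq_iff_eq_mul.1 e).symm⟩)))

/-- `|U| ≡ 1` modulo `p`. -/
theorem card_U_mod_W₂ (c : NeighbourCtx S T W₁ W₂ U V L) : Nat.card W₂ ∣ Nat.card U - 1 := by
  set p := Nat.card W₂
  set u := Nat.card U
  have h := c.fullS.card_U
  have hu : 1 ≤ u := Nat.card_pos
  have hp : 1 ≤ p := Nat.card_pos
  have hq : p ∣ p ^ Nat.card W₁ := dvd_pow_self p Nat.card_pos.ne'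
  have e : p * u = (u - 1) + p ^ Nat.card W₁ := by
    have h2 : p * u = u * (p - 1) + u := by
      obtain ⟨k, hk⟩ : ∃ k, p = k + 1 := ⟨p - 1, by omega⟩
      rw [hk, Nat.add_sub_cancel]; ring
    obtain ⟨w, hw⟩ : ∃ w, u = w + 1 := ⟨u - 1, by omega⟩
    rw [h2, hw, Nat.add_sub_cancel]
    have h' : u * (p - 1) + 1 = p ^ Nat.card W₁ := h
    rw [hw] at h'
    linarith
  exact (Nat.dvd_add_left hq).1 (e ▸ dvd_mul_right p u)

/-- The numbers when `|L : L_σ| = p q` and `L_σ ≠ U`. -/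
theorem card_sigmaCore (c : NeighbourCtx S T W₁ W₂ U V L)
    (he : (Cfsg.sigmaCore L).relIndex L = Nat.card W₁ * Nat.card W₂) (hne : Cfsg.sigmaCore L ≠ U) :
    ∃ m : ℕ, Nat.card (Cfsg.sigmaCore L) = m * Nat.card U ∧ Nat.card W₁ * Nat.card W₂ ∣ m - 1 ∧
      2 * (Nat.card W₁ * Nat.card W₂) + 1 ≤ m := by
  obtain ⟨m, hm⟩ := card_dvd_of_le c.U_le
  set n := Nat.card W₁ * Nat.card W₂
  set u := Nat.card U
  refine ⟨m, by rw [hm, mul_comm], ?_⟩
  have hu : n ∣ u - 1 := ((Nat.coprime_primes c.prime₁ c.prime₂).2 c.card_W₁_ne).mul_dvd_of_dvd_of_dvd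
    c.card_U_mod_W₁ c.card_U_mod_W₂
  have hh : n ∣ Nat.card (Cfsg.sigmaCore L) - 1 := he ▸ c.index_dvd
  have hu1 : 1 ≤ u := Nat.card_pos
  have hm1 : 1 ≤ m := Nat.one_le_iff_ne_zero.2 fun e => by
    have : 0 < Nat.card (Cfsg.sigmaCore L) := Nat.card_pos
    rw [hm, e, mul_zero] at this
    exact lt_irrefl 0 this
  have hdiv : n ∣ m - 1 := by
    obtain ⟨a, ha⟩ := hu
    rw [hm] at hh
    have e : u * m - 1 = (m - 1) + n * (a * m) := by
      have : u = n * a + 1 := by omega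
      rw [this, add_mul, one_mul, mul_assoc]
      omega
    exact (Nat.dvd_add_left (dvd_mul_right n _)).1 (e ▸ hh)
  refine ⟨hdiv, ?_⟩
  obtain ⟨k, hk⟩ := hdiv
  have hm2 : m ≠ 1 := fun e => hne (eq_of_le_of_card_ge c.U_le (by rw [hm, e, mul_one])).symm
  have hoddm : Odd m := (Uniq.odd_subgroup c.minimal (Cfsg.sigmaCore L)).of_dvd_nat ⟨u, by rw [hm]; ring⟩
  have hoddn : Odd n := (Uniq.odd_subgroup c.minimal W₁).mul (Uniq.odd_subgroup c.minimal W₂)
  have hk2 : 2 ≤ k := by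
    rcases k with _ | _ | k
    · omega
    · exfalso
      obtain ⟨a, ha⟩ := hoddm
      obtain ⟨b, hb⟩ := hoddn
      omega
    · omega
  have := Nat.mul_le_mul_left n hk2
  omega

/-- If `L_σ` is cyclic then `L` normalizes `U`. -/
theorem le_normalizer_U_of_cyclic (c : NeighbourCtx S T W₁ W₂ U V L) (hc : IsCyclic (Cfsg.sigmaCore L)) :
    L ≤ normalizer (U : Set G) := by
  have hle := c.U_le
  intro l hl
  refine Core.mem_normalizer_iff_map_conj.2 ?_
  haveI := hc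
  have hlK : cj l (Cfsg.sigmaCore L) = Cfsg.sigmaCore L :=
    Core.map_conj_eq_of_mem_normalizer (le_normalizer_sigmaCore L hl)
  have h1 : cj l U ≤ Cfsg.sigmaCore L := (map_mono hle).trans hlK.le
  exact eq_of_card_eq_in_cyclic hc h1 hle (Coprime.card_map_conj _ _)

/-- If a conjugate of `W₂` in `L` does not normalize `U`, then `L_σ` is neither `U` nor cyclic. -/
theorem not_cyclic (c : NeighbourCtx S T W₁ W₂ U V L) {y : G} (hy : cj y W₂ ≤ L)
    (hN : ¬ cj y W₂ ≤ normalizer (U : Set G)) :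
    Cfsg.sigmaCore L ≠ U ∧ ¬ IsCyclic (Cfsg.sigmaCore L) :=
  ⟨fun e => hN (hy.trans (e ▸ le_normalizer_sigmaCore L)),
    fun h => hN (hy.trans (c.le_normalizer_U_of_cyclic h))⟩

/-- The field configuration of appendix C. -/
theorem le_of_normalizes (c : NeighbourCtx S T W₁ W₂ U V L) (F : Type*) [Field F] [Fintype F]
    (hF : Fintype.card F = Nat.card W₂ ^ Nat.card W₁) (f ψ : G → F)
    (hf : Set.BijOn f (Cfsg.fittingHallOf S : Set G) Set.univ)
    (hfadd : ∀ x ∈ Cfsg.fittingHallOf S, ∀ x' ∈ Cfsg.fittingHallOf S, f (x * x') = f x + f x')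
    (hψ : ∀ v ∈ U, ψ v ≠ 0 ∧ ∀ x ∈ Cfsg.fittingHallOf S, f (v * x * v⁻¹) = ψ v * f x)
    (hψmul : ∀ v ∈ U, ∀ v' ∈ U, ψ (v * v') = ψ v * ψ v') (hψinj : Set.InjOn ψ (U : Set G))
    (hW₂ : ∀ x ∈ Cfsg.fittingHallOf S, f x ^ Nat.card W₂ = f x → x ∈ W₂)
    {y : G} (hy : y ∈ Cfsg.fittingHallOf T) (hN : cj y W₂ ≤ normalizer (U : Set G)) :
    Nat.card W₂ ≤ Nat.card W₁ := by
  haveI := Fact.mk c.prime₁
  haveI := Fact.mk c.prime₂
  have hp : 2 ≤ Nat.card W₂ := c.prime₂.two_le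
  have hcard := c.fullS.card_U
  refine Cfsg.Agent.S1472.result (Nat.card W₂) (Nat.card W₁) ?_ F hF (Cfsg.fittingHallOf S) U
    (Cfsg.fittingHallOf T) f ψ hf hfadd ?_ hψ hψmul hψinj (by omega) c.fullT.comm c.coprime_Q
    (fun x hx hxp => c.T_normalizes (c.W₂_le_T (hW₂ x hx hxp))) y hy
    fun x hx hxp => hN (mem_cj (hW₂ x hx hxp))
  · have : (Nat.card W₂ ^ Nat.card W₁ - 1) / (Nat.card W₂ - 1) = Nat.card U :=
      Nat.div_eq_of_eq_mul_left (by omega) (by omega)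
    rw [this]
    exact c.fullS.coprime
  · exact (c.decomp.1.compl.1).trans le_normalizer_fittingHallOf

end NeighbourCtx

end Cfsg.Lib.OddOrder
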