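import Mathlib
import Cfsg.Agent.Lib.Core.Basic
import Cfsg.Prelude.Def_OddOrder

/-!
# Reduction of the odd order theorem to minimal simple groups
-/

set_option autoImplicit false
set_option linter.style.haveILetI false

namespace Cfsg.Lib.OddOrder

open Subgroup

universe u

theorem isSolvable_of_no_minSimple_aux
    (h : ∀ (G : Type u) [Group G] [Finite G], ¬ Cfsg.IsMinSimpleOddOrder G) :
    ∀ (n : ℕ) (G : Type u) [Group G] [Finite G], Nat.card G = n →
      Odd (Nat.card G) → Group.IsSolvable G := by
  intro n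
  induction n using Nat.strong_induction_on with
  | _ n ih =>
  intro G _ _ hn hodd
  have hsub : ∀ H : Subgroup G, H ≠ ⊤ → Group.IsSolvable H := fun H hH => by
    have hlt : Nat.card H < n := hn ▸ lt_of_le_of_ne
      (Nat.le_of_dvd Nat.card_pos (card_subgroup_dvd_card H))
      fun e => hH (eq_top_of_card_eq H e)
    exact ih _ hlt H rfl (hodd.of_dvd_nat (card_subgroup_dvd_card H))
  by_cases hs : ∃ N : Subgroup G, N.Normal ∧ N ≠ ⊥ ∧ N ≠ ⊤
  · obtain ⟨N, hN, hN1, hN2⟩ := hs
    haveI := hsub N hN2
    haveI : Group.IsSolvable (G ⧸ N) :=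
      ih _ (hn ▸ Cfsg.Lib.Core.card_quotient_lt hN1) _ rfl (hodd.of_dvd_nat N.card_quotient_dvd_card)
    exact Group.isSolvable_of_ker_le_range N.subtype (QuotientGroup.mk' N) (by simp)
  · push Not at hs
    by_cases hc : IsMulCommutative G
    · exact Group.isSolvable_of_comm fun a b => mul_comm' a b
    exfalso
    haveI : Nontrivial G := by
      by_contra hnt
      rw [not_nontrivial_iff_subsingleton] at hnt
      exact hc ⟨⟨fun a b => Subsingleton.elim _ _⟩⟩
    haveI : IsSimpleGroup G :=
      ⟨fun N hN => or_iff_not_imp_left.2 fun hN1 => hs N hN hN1⟩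
    exact h G ⟨hodd, inferInstance, hc, hsub⟩

/-- The odd order theorem, given that there is no minimal simple group of odd order. -/
theorem isSolvable_of_no_minSimple
    (h : ∀ (G : Type u) [Group G] [Finite G], ¬ Cfsg.IsMinSimpleOddOrder G)
    {G : Type u} [Group G] [Finite G] (hodd : Odd (Nat.card G)) : Group.IsSolvable G :=
  isSolvable_of_no_minSimple_aux h _ G rfl hodd

end Cfsg.Lib.OddOrder
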