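import Cfsg.Agent.Lib.OddOrder.NoMinimalOf
import Cfsg.Agent.Lib.OddOrder.Reduction
import Cfsg.Agent.Lib.OddOrder.NoTypeV

/-!
# There is no minimal simple group of odd order
-/

set_option autoImplicit false

namespace Cfsg.Lib.OddOrder

universe u

/-- The odd order theorem, in its minimal form. -/
theorem not_minSimple (G : Type u) [Group G] [Finite G] : ¬ Cfsg.IsMinSimpleOddOrder G :=
  not_minSimple_of_not_typeV G fun hG _ hM => not_typeV hG hM

end Cfsg.Lib.OddOrder
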