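import Cfsg.Agent.Lib.OddOrder.NeighbourFinal

/-!
# No minimal simple group of odd order, given that none has a maximal subgroup of type V
-/

set_option autoImplicit false

namespace Cfsg.Lib.OddOrder

open Cfsg

universe u

/-- The main line, with the absence of type V as the only input. -/
theorem not_minSimple_of_not_typeV (G : Type u) [Group G] [Finite G]
    (hV : Cfsg.IsMinSimpleOddOrder G → ∀ M : Subgroup G, IsCoatom M → ¬ IsOfTypeV M) :
    ¬ Cfsg.IsMinSimpleOddOrder G := fun hG => by
  haveI := Fintype.ofFinite G
  exact not_minSimple_of hG (hV hG) fun S T W₁ W₂ U V χ P => neighbours P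

end Cfsg.Lib.OddOrder
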