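import Mathlib
import Cfsg.Agent.Lib.OddOrder.Arith

/-!
# The size of the group acting on a chief factor of a side

An abelian group `A` of odd order acts faithfully on an elementary abelian group `V` of order `p ^ q`;
an automorphism `σ` of order dividing `q` normalises it and fixes no nontrivial element of it, and no
proper nontrivial subgroup of `V` is invariant under both.  Then `(p - 1) |A| + 1` is `p ^ q` or at most
a third of it.
-/

set_option autoImplicit false
set_option linter.style.haveILetI false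

namespace Cfsg.Lib.OddOrder.SideBound

open Subgroup

universe u v

variable {V : Type u} [CommGroup V] {A : Type v} [CommGroup A]

/-- The data of an action on a chief factor. -/
structure Data (p q : ℕ) (ρ : A →* MulAut V) (σ : MulAut V) (α : MulAut A) : Prop where
  p_prime : p.Prime
  q_prime : q.Prime
  p_odd : Odd p
  q_odd : Odd q
  exponent : ∀ v : V, v ^ p = 1
  card : Nat.card V = p ^ q
  odd : Odd (Nat.card A)
  injective : Function.Injective ρ
  σ_pow : σ ^ q = 1
  α_pow : α ^ q = 1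
  comm : ∀ a v, σ (ρ a v) = ρ (α a) (σ v)
  α_free : ∀ a, α a = a → a = 1
  irr : ∀ W : Subgroup V, (∀ a, ∀ w ∈ W, ρ a w ∈ W) → (∀ w ∈ W, σ w ∈ W) → W = ⊥ ∨ W = ⊤

variable {p q : ℕ} {ρ : A →* MulAut V} {σ : MulAut V} {α : MulAut A}

/-- No element of `A` other than `1` has an eigenvalue in the prime field. -/
def IsFree (ρ : A →* MulAut V) : Prop :=
  ∀ (a : A) (c : ℕ) (v : V), v ≠ 1 → ρ a v = v ^ c → a = 1

theorem pow_eq_pow_of_cast (h : Data p q ρ σ α) {v : V} {m n : ℕ} (hmn : (m : ZMod p) = n) :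
    v ^ m = v ^ n :=
  pow_eq_pow_iff_modEq.2 (((ZMod.natCast_eq_natCast_iff _ _ _).1 hmn).of_dvd
    (orderOf_dvd_of_pow_eq_one (h.exponent v)))

theorem cast_eq_of_pow (h : Data p q ρ σ α) {v : V} (hv : v ≠ 1) {m n : ℕ} (hmn : v ^ m = v ^ n) :
    (m : ZMod p) = n := by
  haveI := Fact.mk h.p_prime
  exact (ZMod.natCast_eq_natCast_iff _ _ _).2
    (orderOf_eq_prime (h.exponent v) hv ▸ pow_eq_pow_iff_modEq.1 hmn)

theorem iterate_comm (h : Data p q ρ σ α) (i : ℕ) (a : A) (v : V) :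
    (σ ^ i) (ρ a v) = ρ ((α ^ i) a) ((σ ^ i) v) := by
  induction i with
  | zero => simp
  | succ i ih => rw [pow_succ', pow_succ', MulAut.mul_apply, MulAut.mul_apply, MulAut.mul_apply, ih, h.comm]

/-- The action of `A × 𝔽ₚˣ` on `V`. -/
def act (ρ : A →* MulAut V) (g : A × (ZMod p)ˣ) (v : V) : V := ρ g.1 (v ^ (g.2 : ZMod p).val)

theorem act_mul (h : Data p q ρ σ α) (g k : A × (ZMod p)ˣ) (v : V) :
    act ρ (g * k) v = act ρ g (act ρ k v) := by
  haveI := Fact.mk h.p_prime
  simp only [act, Prod.fst_mul, Prod.snd_mul, map_mul, MulAut.mul_apply, ← map_pow, ← pow_mul]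
  congr 2
  refine pow_eq_pow_of_cast h ?_
  push_cast
  simp only [ZMod.natCast_val, ZMod.cast_id', id_eq]
  ring

theorem act_one (h : Data p q ρ σ α) (v : V) : act (p := p) ρ 1 v = v := by
  haveI := Fact.mk h.p_prime
  simp [act, ZMod.val_one]

theorem act_ne (h : Data p q ρ σ α) (g : A × (ZMod p)ˣ) {v : V} (hv : v ≠ 1) : act ρ g v ≠ 1 := fun e => by
  refine hv ?_
  have h1 := act_mul h g⁻¹ g v
  rw [inv_mul_cancel, act_one h, e] at h1
  rw [h1]
  simp [act]

theorem act_injective (h : Data p q ρ σ α) (hfree : IsFree ρ) {v : V} (hv : v ≠ 1) {g : A × (ZMod p)ˣ}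
    (hg : act ρ g v = v) : g = 1 := by
  haveI := Fact.mk h.p_prime
  obtain ⟨a, c⟩ := g
  have hw : act ρ ((a, 1) : A × (ZMod p)ˣ) (act ρ ((1, c) : A × (ZMod p)ˣ) v) = v := by
    rw [← act_mul h]; simpa using hg
  have hc : act ρ ((1, c) : A × (ZMod p)ˣ) v = v ^ (c : ZMod p).val := by simp [act]
  have hne := act_ne h ((1, c) : A × (ZMod p)ˣ) hv
  have ha : a = 1 := by
    refine hfree a ((c⁻¹ : (ZMod p)ˣ) : ZMod p).val _ hne ?_
    rw [hc, ← pow_mul]
    have h1 : ρ a (v ^ (c : ZMod p).val) = v := hg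
    refine h1.trans ((pow_one v).symm.trans (pow_eq_pow_of_cast h ?_))
    push_cast
    simp only [ZMod.natCast_val, ZMod.cast_id', id_eq]
    exact (mul_inv_cancel₀ c.ne_zero).symm
  subst ha
  refine Prod.ext rfl (Units.ext ?_)
  have h1 : v ^ (c : ZMod p).val = v ^ 1 := by rw [pow_one]; simpa [act] using hg
  have := cast_eq_of_pow h hv h1
  simpa using this

theorem card_units (h : Data p q ρ σ α) : Nat.card (ZMod p)ˣ = p - 1 := by
  haveI := Fact.mk h.p_prime
  rw [Nat.card_eq_fintype_card, ZMod.card_units]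

theorem card_nonone [Finite V] (h : Data p q ρ σ α) : Nat.card {v : V // v ≠ 1} = p ^ q - 1 := by
  classical
  haveI := Fintype.ofFinite V
  rw [← h.card, Nat.card_eq_fintype_card, Nat.card_eq_fintype_card, Fintype.card_subtype_compl,
    Fintype.card_subtype_eq]

theorem dvd_of_free [Finite V] [Finite A] (h : Data p q ρ σ α) (hfree : IsFree ρ) :
    Nat.card A * (p - 1) ∣ p ^ q - 1 := by
  haveI := Fact.mk h.p_prime
  letI : MulAction (A × (ZMod p)ˣ) {v : V // v ≠ 1} :=
    { smul := fun g v => ⟨act ρ g v, act_ne h g v.2⟩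
      one_smul := fun v => Subtype.ext (act_one h v)
      mul_smul := fun g k v => Subtype.ext (act_mul h g k v) }
  rw [← card_nonone h, ← card_units h, ← Nat.card_prod]
  haveI : Finite (A × (ZMod p)ˣ) := inferInstance
  classical
  haveI : Fintype (Quotient (MulAction.orbitRel (A × (ZMod p)ˣ) {v : V // v ≠ 1})) := Fintype.ofFinite _
  rw [Nat.card_congr (MulAction.selfEquivSigmaOrbitsQuotientStabilizer (A × (ZMod p)ˣ) {v : V // v ≠ 1}),
    Nat.card_sigma]
  refine Finset.dvd_sum fun ω _ => ?_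
  have hb : MulAction.stabilizer (A × (ZMod p)ˣ) ω.out = ⊥ :=
    eq_bot_iff.2 fun g hg => act_injective h hfree ω.out.2 (congrArg Subtype.val hg)
  rw [← Subgroup.index, hb, index_bot]

/-- For the largest possible `A` the action on `V ∖ 1` of `A × 𝔽ₚˣ` is transitive. -/
theorem transitive_of_full [Finite V] [Finite A] (h : Data p q ρ σ α) (hfree : IsFree ρ)
    (hfull : Nat.card A * (p - 1) + 1 = p ^ q) {v w : V} (hv : v ≠ 1) (hw : w ≠ 1) :
    ∃ (a : A) (c : ℕ), ρ a v ^ c = w := by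
  haveI := Fact.mk h.p_prime
  let f : A × (ZMod p)ˣ → {v : V // v ≠ 1} := fun g => ⟨act ρ g v, act_ne h g hv⟩
  have hf : Function.Injective f := by
    intro g k hgk
    have h1 : act ρ g v = act ρ k v := congrArg Subtype.val hgk
    have h2 := act_injective h hfree hv (g := k⁻¹ * g) (by
      rw [act_mul h, h1, ← act_mul h, inv_mul_cancel, act_one h])
    exact (eq_of_inv_mul_eq_one h2).symm
  have hb := hf.bijective_of_nat_card_le (by
    rw [card_nonone h, Nat.card_prod, card_units h]; omega)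
  obtain ⟨g, hg⟩ := hb.2 ⟨w, hw⟩
  exact ⟨g.1, (g.2 : ZMod p).val, by rw [← map_pow]; exact congrArg Subtype.val hg⟩

theorem card_le_of_lines [Finite V] [Finite A] (h : Data p q ρ σ α) {v : V} (hv : v ≠ 1)
    (hline : ∀ a, ρ a v ∈ zpowers v) : Nat.card A ≤ ((p - 1) / 2) ^ (q - 1) := by
  classical
  haveI := Fact.mk h.p_prime
  have hex : ∀ a, ∃ c : ℕ, ρ a v = v ^ c := fun a => by
    obtain ⟨c, hc⟩ := (Submonoid.mem_powers_iff _ _).1 ((isOfFinOrder_of_finite v).mem_powers_iff_mem_zpowers.2 (hline a))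
    exact ⟨c, hc.symm⟩
  choose c hc using hex
  let l : A →* ZMod p :=
    { toFun := fun a => c a
      map_one' := by
        rw [← Nat.cast_one]
        refine cast_eq_of_pow h hv ?_
        rw [← hc, map_one, pow_one, MulAut.one_apply]
      map_mul' := fun a b => by
        rw [← Nat.cast_mul]
        refine cast_eq_of_pow h hv ?_
        rw [← hc, map_mul, MulAut.mul_apply, hc b, map_pow, hc a, ← pow_mul] }
  let lam : A →* (ZMod p)ˣ := l.toHomUnits
  have hlam : ∀ a, ((lam a : (ZMod p)ˣ) : ZMod p) = c a := fun a => rfl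
  -- the product over the conjugates is trivial
  let θ : A → A := fun a => (α a) / a
  have hθ : Function.Surjective θ := by
    refine Finite.injective_iff_surjective.1 fun a b hab => ?_
    have h1 : α a / a = α b / b := hab
    have h2 : α (a / b) = a / b := by rw [map_div, div_eq_div_iff_div_eq_div]; exact h1
    exact div_eq_one.1 (h.α_free _ h2)
  have hprod : ∀ a, ∏ i ∈ Finset.range q, lam ((α ^ i) a) = 1 := by
    intro a
    obtain ⟨b, rfl⟩ := hθ a
    simp only [θ, map_div, Finset.prod_div_distrib]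
    rw [div_eq_one]
    have h1 : ∀ i, (α ^ i) (α b) = (α ^ (i + 1)) b := fun i => by rw [pow_succ, MulAut.mul_apply]
    simp only [h1]
    have h2 := Finset.prod_range_succ' (fun i => lam ((α ^ i) b)) q
    rw [Finset.prod_range_succ, h.α_pow, pow_zero] at h2
    exact (mul_right_cancel h2).symm
  -- the translates of `v` generate `V`
  have hspan : Subgroup.closure (Set.range fun i : ℕ => (σ ^ i) v) = ⊤ := by
    refine (h.irr _ (fun a w hw => ?_) fun w hw => ?_).resolve_left fun e =>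
      hv (mem_bot.1 (e.le (Subgroup.subset_closure ⟨0, by simp⟩)))
    · suffices hle : Subgroup.closure (Set.range fun i : ℕ => (σ ^ i) v) ≤
          (Subgroup.closure (Set.range fun i : ℕ => (σ ^ i) v)).comap (ρ a).toMonoidHom from hle hw
      rw [closure_le]
      rintro _ ⟨i, rfl⟩
      have hi : ρ a ((σ ^ i) v) = (σ ^ i) v ^ c ((α ^ i)⁻¹ a) := by
        rw [← map_pow, ← hc, iterate_comm h, MulAut.apply_inv_self]
      show ρ a ((σ ^ i) v) ∈ Subgroup.closure (Set.range fun i : ℕ => (σ ^ i) v)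
      rw [hi]
      exact pow_mem (Subgroup.subset_closure (show (σ ^ i) v ∈ Set.range (fun i : ℕ => (σ ^ i) v) from ⟨i, rfl⟩)) _
    · suffices hle : Subgroup.closure (Set.range fun i : ℕ => (σ ^ i) v) ≤
          (Subgroup.closure (Set.range fun i : ℕ => (σ ^ i) v)).comap σ.toMonoidHom from hle hw
      rw [closure_le]
      rintro _ ⟨i, rfl⟩
      exact Subgroup.subset_closure ⟨i + 1, by show (σ ^ (i + 1)) v = σ ((σ ^ i) v); rw [pow_succ', MulAut.mul_apply]⟩
  have hker : ∀ a, (∀ i < q, lam ((α ^ i) a) = 1) → a = 1 := by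
    intro a ha
    refine h.injective (MulEquiv.ext fun w => ?_)
    rw [map_one, MulAut.one_apply]
    suffices hle : (⊤ : Subgroup V) ≤ MonoidHom.eqLocus (ρ a).toMonoidHom (MonoidHom.id V) from hle (mem_top w)
    rw [← hspan, closure_le]
    rintro _ ⟨i, rfl⟩
    show ρ a ((σ ^ i) v) = (σ ^ i) v
    obtain ⟨j, hj, hij⟩ : ∃ j < q, (α ^ i)⁻¹ = α ^ j := by
      refine ⟨(q - i % q) % q, Nat.mod_lt _ h.q_prime.pos, inv_eq_of_mul_eq_one_right ?_⟩
      rw [← pow_add]
      have hdvd : q ∣ i + (q - i % q) % q := by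
        rw [Nat.dvd_iff_mod_eq_zero, Nat.add_mod, Nat.mod_mod, ← Nat.add_mod,
          show i + (q - i % q) = i / q * q + q by have := Nat.div_add_mod' i q; have := Nat.mod_lt i h.q_prime.pos; omega]
        simp
      obtain ⟨k, hk⟩ := hdvd
      rw [hk, pow_mul, h.α_pow, one_pow]
    have h1 : ρ ((α ^ i)⁻¹ a) v = v := by
      rw [hc, hij]
      refine (pow_eq_pow_of_cast h ?_).trans (pow_one v)
      rw [← hlam, ha j hj]; simp
    rw [← MulAut.apply_inv_self _ (α ^ i) a, ← iterate_comm h, h1]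
  let S : Type := {x : (ZMod p)ˣ // x ^ ((p - 1) / 2) = 1}
  have hsq : ∀ a, lam a ^ ((p - 1) / 2) = 1 := fun a => by
    obtain ⟨b, rfl⟩ : ∃ b, b ^ 2 = a := by
      refine ⟨a ^ ((Nat.card A + 1) / 2), ?_⟩
      obtain ⟨k, hk⟩ := h.odd
      rw [← pow_mul, show (Nat.card A + 1) / 2 * 2 = Nat.card A + 1 by omega, pow_succ, pow_card_eq_one', one_mul]
    rw [map_pow, ← pow_mul, show 2 * ((p - 1) / 2) = p - 1 by
      obtain ⟨k, hk⟩ := h.p_odd; omega, ← card_units h, pow_card_eq_one']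
  let F : A → (Fin (q - 1) → S) := fun a i => ⟨lam ((α ^ ((i : ℕ) + 1)) a), hsq _⟩
  have hF : Function.Injective F := by
    intro a b hab
    refine div_eq_one.1 (hker _ fun i hi => ?_)
    have hsucc : ∀ j < q - 1, lam ((α ^ (j + 1)) (a / b)) = 1 := fun j hj => by
      rw [map_div, map_div, div_eq_one]
      exact congrArg Subtype.val (congrFun hab ⟨j, hj⟩)
    rcases i with _ | i
    · have h0 := hprod (a / b)
      rw [show q = q - 1 + 1 by have := h.q_prime.pos; omega, Finset.prod_range_succ',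
        Finset.prod_eq_one fun j hj => hsucc j (Finset.mem_range.1 hj), one_mul] at h0
      exact h0
    · exact hsucc i (by omega)
  refine (Nat.card_le_card_of_injective F hF).trans ?_
  rw [Nat.card_fun, Nat.card_fin]
  refine Nat.pow_le_pow_left ?_ _
  have h2 := h.p_prime.two_le
  have hpos : 0 < (p - 1) / 2 := by obtain ⟨k, hk⟩ := h.p_odd; omega
  show Nat.card {x : (ZMod p)ˣ // x ^ ((p - 1) / 2) = 1} ≤ _
  rw [Nat.card_eq_fintype_card, Fintype.card_subtype]
  exact IsCyclic.card_pow_eq_one_le hpos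

/-- An element with an eigenvalue in the prime field makes `A` small. -/
theorem exists_line [Finite V] [Finite A] (h : Data p q ρ σ α) (hfree : ¬ IsFree ρ) :
    ∃ v : V, v ≠ 1 ∧ ∀ a, ρ a v ∈ zpowers v := by
  classical
  simp only [IsFree, not_forall] at hfree
  obtain ⟨a, c, v, hv, hav, ha⟩ := hfree
  haveI := Fact.mk h.p_prime
  let E : Subgroup V :=
    MonoidHom.eqLocus (ρ a).toMonoidHom (powMonoidHom c)
  have hEmem : ∀ w, w ∈ E ↔ ρ a w = w ^ c := fun w => Iff.rfl
  have hEne : E ≠ ⊤ := fun e => ha (h.α_free a (h.injective (MulEquiv.ext fun w => by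
    obtain ⟨x, rfl⟩ := σ.surjective w
    rw [← h.comm, (hEmem _).1 (e.ge (mem_top _)), map_pow, (hEmem _).1 (e.ge (mem_top _))])))
  let T : Set (Subgroup V) := {W | W ≤ E ∧ W ≠ ⊥ ∧ ∀ b, ∀ w ∈ W, ρ b w ∈ W}
  have hET : E ∈ T := ⟨le_rfl, fun e => hv (mem_bot.1 (e.le ((hEmem v).2 hav))), fun b w hw => (hEmem _).2 (by
    have hab : ρ a (ρ b w) = ρ b (ρ a w) := by
      rw [← MulAut.mul_apply, ← MulAut.mul_apply, ← map_mul, ← map_mul, mul_comm]
    rw [hab, (hEmem w).1 hw, map_pow])⟩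
  obtain ⟨W, hWm⟩ := (Set.toFinite T).exists_minimal ⟨E, hET⟩
  obtain ⟨hWE, hW0, hWinv⟩ := hWm.1
  -- the translates of `W`
  let Wt : ℕ → Subgroup V := fun i => W.map (σ ^ i).toMonoidHom
  have hWtinv : ∀ i b, ∀ w ∈ Wt i, ρ b w ∈ Wt i := by
    rintro i b _ ⟨w, hw, rfl⟩
    exact ⟨ρ ((α ^ i)⁻¹ b) w, hWinv _ w hw, by
      show (σ ^ i) (ρ ((α ^ i)⁻¹ b) w) = ρ b ((σ ^ i) w)
      rw [iterate_comm h, MulAut.apply_inv_self]⟩
  have hWtcard : ∀ i, Nat.card (Wt i) = Nat.card W := fun i =>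
    Subgroup.card_map_of_injective (σ ^ i).injective
  let S : ℕ → Subgroup V := fun n => ⨆ i ∈ Finset.range n, Wt i
  have hSsucc : ∀ n, S (n + 1) = S n ⊔ Wt n := fun n => by
    simp only [S, Finset.range_add_one, Finset.iSup_insert]; exact sup_comm _ _
  have hSinv : ∀ n b, ∀ w ∈ S n, ρ b w ∈ S n := by
    intro n b
    suffices hle : S n ≤ (S n).comap (ρ b).toMonoidHom from fun w hw => hle hw
    exact iSup₂_le fun i hi w hw => mem_iSup_of_mem i (mem_iSup_of_mem hi (hWtinv i b w hw))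
  have hcard : ∀ n, ∃ k, Nat.card (S n) = Nat.card W ^ k := by
    intro n
    induction n with
    | zero => exact ⟨0, by simp [S]⟩
    | succ n ih =>
      obtain ⟨k, hk⟩ := ih
      by_cases hle : Wt n ≤ S n
      · exact ⟨k, by rw [hSsucc, sup_eq_left.2 hle, hk]⟩
      · refine ⟨k + 1, ?_⟩
        have hd : S n ⊓ Wt n = ⊥ := by
          by_contra hne
          set Z : Subgroup V := (S n ⊓ Wt n).comap (σ ^ n).toMonoidHom with hZ
          have hZW : Z ≤ W := fun w hw => by
            obtain ⟨x, hx, hxe⟩ := hw.2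
            rwa [← (σ ^ n).injective hxe]
          have hZT : Z ∈ T := ⟨hZW.trans hWE, fun e => hne (eq_bot_iff.2 fun w hw => by
              obtain ⟨x, -, rfl⟩ := hw.2
              have : x ∈ Z := hw
              rw [e, mem_bot] at this
              rw [this, map_one]; exact one_mem _), fun b w hw => by
            show (σ ^ n) (ρ b w) ∈ S n ⊓ Wt n
            rw [iterate_comm h]
            exact ⟨hSinv n _ _ hw.1, hWtinv n _ _ hw.2⟩⟩
          refine hle ?_
          rintro _ ⟨w, hw, rfl⟩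
          exact ((le_antisymm hZW (hWm.2 hZT hZW)).ge hw).1
        rw [hSsucc, pow_succ, ← hk, ← hWtcard n]
        have hdis : Disjoint (S n) (Wt n) := disjoint_iff.2 hd
        rw [← Nat.card_prod]
        refine (Nat.card_congr (Equiv.ofBijective (fun x : ↥(S n) × ↥(Wt n) =>
          (⟨(x.1 : V) * x.2, mul_mem_sup x.1.2 x.2.2⟩ : ↥(S n ⊔ Wt n))) ⟨fun x y e => ?_, fun w => ?_⟩)).symm
        · exact Subgroup.mul_injective_of_disjoint hdis (congrArg Subtype.val e)
        · obtain ⟨x, hx, y, hy, he⟩ := mem_sup.1 w.2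
          exact ⟨(⟨x, hx⟩, ⟨y, hy⟩), Subtype.ext he⟩
  have htop : S q = ⊤ := by
    refine (h.irr _ (hSinv q) ?_).resolve_left fun e => hW0 (eq_bot_iff.2 fun w hw => e.le
      (mem_iSup_of_mem 0 (mem_iSup_of_mem (Finset.mem_range.2 h.q_prime.pos) ⟨w, hw, by simp⟩)))
    suffices hle : S q ≤ (S q).comap σ.toMonoidHom from fun w hw => hle hw
    refine iSup₂_le fun i hi w hw => ?_
    obtain ⟨x, hx, rfl⟩ := hw
    show σ ((σ ^ i) x) ∈ S q
    rw [← MulAut.mul_apply, ← pow_succ']
    by_cases hi' : i + 1 < q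
    · exact mem_iSup_of_mem _ (mem_iSup_of_mem (Finset.mem_range.2 hi') ⟨x, hx, rfl⟩)
    · rw [show i + 1 = q by have := Finset.mem_range.1 hi; omega, h.σ_pow]
      exact mem_iSup_of_mem 0 (mem_iSup_of_mem (Finset.mem_range.2 h.q_prime.pos) ⟨x, hx, by simp⟩)
  obtain ⟨k, hk⟩ := hcard q
  rw [htop, card_top, h.card] at hk
  obtain ⟨d, hd, hWd⟩ := (Nat.dvd_prime_pow h.p_prime).1 (h.card ▸ W.card_subgroup_dvd_card)
  rw [hWd, ← pow_mul] at hk
  have hdk : d ∣ q := ⟨k, Nat.pow_right_injective h.p_prime.two_le hk⟩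
  rcases h.q_prime.eq_one_or_self_of_dvd d hdk with rfl | rfl
  · obtain ⟨w, hw, hw1⟩ := W.bot_or_exists_ne_one.resolve_left hW0
    have hz : zpowers w = W := eq_of_le_of_card_ge (zpowers_le.2 hw) (by
      rw [Nat.card_zpowers, orderOf_eq_prime (h.exponent w) hw1, hWd, pow_one])
    exact ⟨w, hw1, fun b => hz ▸ hWinv b w hw⟩
  · exact absurd (eq_top_iff.2 ((eq_top_of_card_eq W (hWd.trans h.card.symm)).ge.trans hWE)) hEne

theorem arith {p q : ℕ} (hp : Odd p) (hq : 3 ≤ q) :
    3 * ((p - 1) / 2) ^ (q - 1) * (p - 1) + 1 ≤ p ^ q := by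
  obtain ⟨m, rfl⟩ := hp
  obtain ⟨r, rfl⟩ : ∃ r, q = r + 3 := ⟨q - 3, by omega⟩
  rw [show (2 * m + 1 - 1) / 2 = m by omega, show 2 * m + 1 - 1 = 2 * m by omega,
    show r + 3 - 1 = r + 2 by omega]
  have h1 : 3 * m ^ (r + 2) * (2 * m) = 6 * m ^ (r + 3) := by ring
  have h2 : (2 * m) ^ (r + 3) + 1 ≤ (2 * m + 1) ^ (r + 3) := Nat.pow_lt_pow_left (by omega) (by omega)
  have h3 : 8 * m ^ (r + 3) ≤ (2 * m) ^ (r + 3) := by
    rw [mul_pow]
    exact Nat.mul_le_mul_right _ (le_trans (by norm_num) (Nat.pow_le_pow_right (by norm_num) (show 3 ≤ r + 3 by omega)))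
  omega

/-- The bound on `A`. -/
theorem dichotomy [Finite V] [Finite A] (h : Data p q ρ σ α) :
    (Nat.card A * (p - 1) + 1 = p ^ q ∧ IsFree ρ) ∨ 3 * Nat.card A * (p - 1) + 1 ≤ p ^ q := by
  have hp2 := h.p_prime.two_le
  have hpos : 1 ≤ p ^ q := Nat.one_le_pow _ _ (by omega)
  by_cases hfree : IsFree ρ
  · have hd := dvd_of_free h hfree
    have hfull := fullIndex_mul_of_pos (by omega : 0 < p) q
    have hd' : Nat.card A ∣ fullIndex p q := by
      rw [← hfull, Nat.add_sub_cancel] at hd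
      exact Nat.dvd_of_mul_dvd_mul_right (by omega) hd
    by_cases he : Nat.card A = fullIndex p q
    · exact Or.inl ⟨by rw [he]; exact hfull, hfree⟩
    · refine Or.inr ?_
      have h3 := three_mul_le_of_dvd (odd_fullIndex h.p_odd h.q_odd) hd' he
      have := Nat.mul_le_mul_right (p - 1) h3
      omega
  · refine Or.inr ?_
    obtain ⟨v, hv, hline⟩ := exists_line h hfree
    have hq3 : 3 ≤ q := by
      obtain ⟨k, hk⟩ := h.q_odd
      have := h.q_prime.two_le
      omega
    refine le_trans ?_ (arith h.p_odd hq3)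
    exact Nat.add_le_add_right (Nat.mul_le_mul_right _ (Nat.mul_le_mul_left _ (card_le_of_lines h hv hline))) _

end Cfsg.Lib.OddOrder.SideBound
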