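import Cfsg.Agent.S1545
import Cfsg.Agent.Lib.Local.TypeP
import Cfsg.Agent.Lib.Local.Sigma.DadeSets
import Cfsg.Agent.Lib.Char.CoherenceKernel
import Cfsg.Agent.Lib.Coprime.Action
import Cfsg.Agent.Lib.OddOrder.SideBound

/-!
# The chief factor of a side

For data of type P with `U ≠ 1` and `|W₂|`, `|W₁|` primes `p`, `q`: the centralizer `H₀ = C_H (U)` of `U` in
`H = M_F` is normal in `M`, `H / H₀` is a chief factor of order `p ^ q`, and `W₂ ∩ H₀ = 1`.
-/

set_option autoImplicit false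
set_option linter.style.haveILetI false

namespace Cfsg.Lib.OddOrder

open Subgroup Cfsg
open Cfsg.Lib.Local.Sigma
open scoped commutatorElement

universe u

variable {G : Type u} [Group G]

/-- The elements acting trivially on the section `H / H₀`. -/
def chiefKer (H H₀ : Subgroup G) : Subgroup G where
  carrier := {g | g ∈ normalizer (H : Set G) ⊓ normalizer (H₀ : Set G) ∧ ∀ h ∈ H, ⁅g, h⁆ ∈ H₀}
  one_mem' := ⟨one_mem _, fun h _ => by simp⟩
  mul_mem' {a b} ha hb := ⟨mul_mem ha.1 hb.1, fun h hh => by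
    have h1 : b * h * b⁻¹ ∈ H := (mem_normalizer_iff.1 hb.1.1 h).1 hh
    rw [show ⁅a * b, h⁆ = (a * ⁅b, h⁆ * a⁻¹) * ⁅a, h⁆ by simp [commutatorElement_def, mul_assoc]]
    exact mul_mem ((mem_normalizer_iff.1 ha.1.2 _).1 (hb.2 h hh)) (ha.2 h hh)⟩
  inv_mem' {a} ha := ⟨inv_mem ha.1, fun h hh => by
    have h1 : a⁻¹ * h * a ∈ H := by
      simpa using (mem_normalizer_iff.1 (inv_mem ha.1.1) h).1 hh
    have h2 := inv_mem (ha.2 _ h1)
    rw [show ⁅a⁻¹, h⁆ = ⁅a, a⁻¹ * h * a⁆⁻¹ by simp [commutatorElement_def, mul_assoc]]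
    exact h2⟩

theorem mem_chiefKer {H H₀ : Subgroup G} {g : G} :
    g ∈ chiefKer H H₀ ↔ (g ∈ normalizer (H : Set G) ⊓ normalizer (H₀ : Set G)) ∧ ∀ h ∈ H, ⁅g, h⁆ ∈ H₀ :=
  Iff.rfl

theorem conj_commutatorElement' (g a b : G) : g * ⁅a, b⁆ * g⁻¹ = ⁅g * a * g⁻¹, g * b * g⁻¹⁆ := by
  simp [commutatorElement_def, mul_assoc]

theorem mem_normalizer_of_forall [Finite G] {Y : Subgroup G} {g : G} (h : ∀ x ∈ Y, g * x * g⁻¹ ∈ Y) :
    g ∈ normalizer (Y : Set G) := by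
  have he : Y.map (MulAut.conj g).toMonoidHom = Y := by
    refine eq_of_le_of_card_ge ?_ (Cfsg.Lib.Coprime.card_map_conj _ _).ge
    rintro _ ⟨x, hx, rfl⟩
    exact h x hx
  refine mem_normalizer_iff.2 fun x => ⟨h x, fun hx => ?_⟩
  obtain ⟨y, hy, hye⟩ := he.ge hx
  have hye' : g * y * g⁻¹ = g * x * g⁻¹ := hye
  rwa [← mul_left_cancel (mul_right_cancel hye')]

theorem normalizer_le_chiefKer [Finite G] {H H₀ : Subgroup G} {g : G}
    (hg : g ∈ normalizer (H : Set G) ⊓ normalizer (H₀ : Set G)) :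
    g ∈ normalizer (chiefKer H H₀ : Set G) := by
  refine mem_normalizer_of_forall fun x hx => ⟨mul_mem (mul_mem hg hx.1) (inv_mem hg), fun h hh => ?_⟩
  have h1 : g⁻¹ * h * g ∈ H := by simpa using (mem_normalizer_iff.1 (inv_mem hg.1) h).1 hh
  have h2 := (mem_normalizer_iff.1 hg.2 _).1 (hx.2 _ h1)
  rw [conj_commutatorElement'] at h2
  simpa [mul_assoc] using h2

/-- `M_F`, the kernel `C_H (U)` of the section and the part of `U` acting trivially on it. -/
def sideH₀ (M U : Subgroup G) : Subgroup G := fittingHallOf M ⊓ centralizer (U : Set G)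

/-- The part of `U` acting trivially on the chief factor. -/
def sideD (M U : Subgroup G) : Subgroup G := U ⊓ chiefKer (fittingHallOf M) (sideH₀ M U)

/-- `N = H D`. -/
def sideN (M U : Subgroup G) : Subgroup G := fittingHallOf M ⊔ sideD M U

/-- `K₀ = H₀ D`. -/
def sideK (M U : Subgroup G) : Subgroup G := sideH₀ M U ⊔ sideD M U

/-- The standing hypotheses of a side. -/
structure SideHyp (M W₁ U W₂ : Subgroup G) : Prop where
  minSimple : IsMinSimpleOddOrder G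
  coatom : IsCoatom M
  typeP : IsTypePWith M W₁ U W₂
  U_ne : U ≠ ⊥
  q_prime : (Nat.card W₁).Prime
  p_prime : (Nat.card W₂).Prime

variable {M W₁ U W₂ : Subgroup G}

namespace SideHyp

theorem derived_le (h : SideHyp M W₁ U W₂) : ⁅M, M⁆ ≤ M := h.typeP.W₁_compl.1

theorem W₁_le (h : SideHyp M W₁ U W₂) : W₁ ≤ M := h.typeP.W₁_compl.2.1

theorem H_le_derived (h : SideHyp M W₁ U W₂) : fittingHallOf M ≤ ⁅M, M⁆ := h.typeP.U_compl.1

theorem U_le_derived (h : SideHyp M W₁ U W₂) : U ≤ ⁅M, M⁆ := h.typeP.U_compl.2.1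

theorem U_le (h : SideHyp M W₁ U W₂) : U ≤ M := h.U_le_derived.trans h.derived_le

theorem W₂_le_H (h : SideHyp M W₁ U W₂) : W₂ ≤ fittingHallOf M := h.typeP.W₂_le.trans inf_le_left

theorem commute_W (h : SideHyp M W₁ U W₂) {a b : G} (ha : a ∈ W₁) (hb : b ∈ W₂) : a * b = b * a :=
  h.typeP.selfNormalizing.2.2.2.1 a ha b hb

theorem W₁_elem (h : SideHyp M W₁ U W₂) : ∃ w ∈ W₁, w ≠ 1 :=
  W₁.bot_or_exists_ne_one.resolve_left h.typeP.W₁_ne

theorem le_of_parts (h : SideHyp M W₁ U W₂) {Z : Subgroup G} (hH : fittingHallOf M ≤ Z) (hU : U ≤ Z)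
    (hW : W₁ ≤ Z) : M ≤ Z := by
  intro m hm
  obtain ⟨a, ha, b, hb, rfl⟩ := h.typeP.W₁_compl.2.2.2 m hm
  obtain ⟨x, hx, y, hy, rfl⟩ := h.typeP.U_compl.2.2.2 a ha
  exact mul_mem (mul_mem (hH hx) (hU hy)) (hW hb)

variable [Finite G]

theorem M_le_normalizer_H (_h : SideHyp M W₁ U W₂) : M ≤ normalizer (fittingHallOf M : Set G) :=
  Cfsg.Lib.Local.TypeP.le_normalizer_map_normal (fittingHall M)

theorem coprime_W₁ (h : SideHyp M W₁ U W₂) : (Nat.card W₁).Coprime (Nat.card ↥⁅M, M⁆) := by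
  have e1 := Cfsg.Lib.Core.card_mul_relIndex h.W₁_le
  have e2 := card_of_isComplIn h.typeP.W₁_compl
  have e3 : W₁.relIndex M = Nat.card ↥⁅M, M⁆ :=
    Nat.eq_of_mul_eq_mul_left Nat.card_pos (e1.trans (e2.symm.trans (mul_comm _ _)))
  exact e3 ▸ h.typeP.W₁_hall

theorem coprime_HU (h : SideHyp M W₁ U W₂) : (Nat.card (fittingHallOf M)).Coprime (Nat.card U) :=
  Cfsg.Lib.Local.TypeP.coprime_U h.typeP

theorem coprime_HW₁ (h : SideHyp M W₁ U W₂) : (Nat.card (fittingHallOf M)).Coprime (Nat.card W₁) :=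
  (h.coprime_W₁.coprime_dvd_right (card_dvd_of_le h.H_le_derived)).symm

theorem coprime_W₁U (h : SideHyp M W₁ U W₂) : (Nat.card W₁).Coprime (Nat.card U) :=
  h.coprime_W₁.coprime_dvd_right (card_dvd_of_le h.U_le_derived)

theorem card_ne (h : SideHyp M W₁ U W₂) : Nat.card W₁ ≠ Nat.card W₂ := fun e =>
  h.p_prime.ne_one (Nat.eq_one_of_dvd_coprimes h.coprime_W₁ (by rw [e])
    (card_dvd_of_le (h.W₂_le_H.trans h.H_le_derived)))

omit [Finite G] in
theorem card_M (h : SideHyp M W₁ U W₂) :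
    Nat.card (fittingHallOf M) * Nat.card U * Nat.card W₁ = Nat.card M := by
  rw [card_of_isComplIn h.typeP.U_compl, card_of_isComplIn h.typeP.W₁_compl]

omit [Finite G] in
theorem fixed_W₁ (h : SideHyp M W₁ U W₂) {x : G} (hx : x ∈ ⁅M, M⁆) {w : G} (hw : w ∈ W₁) (hw1 : w ≠ 1)
    (hc : x * w = w * x) : x ∈ W₂ :=
  (h.typeP.W₂_centralizer w hw hw1).le (mem_inf.2 ⟨hx, mem_centralizer_singleton_iff.2 hc⟩)

omit [Finite G] in
theorem free_U (h : SideHyp M W₁ U W₂) {x : G} (hx : x ∈ U) {w : G} (hw : w ∈ W₁) (hw1 : w ≠ 1)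
    (hc : x * w = w * x) : x = 1 :=
  mem_bot.1 (h.typeP.U_compl.2.2.1.le
    (mem_inf.2 ⟨h.W₂_le_H (h.fixed_W₁ (h.U_le_derived hx) hw hw1 hc), hx⟩))

omit [Finite G] in
theorem solvable_H (h : SideHyp M W₁ U W₂) : Group.IsSolvable (fittingHallOf M) :=
  Cfsg.Lib.Coprime.isSolvable_of_le (h.H_le_derived.trans h.derived_le) (h.minSimple.2.2.2 M h.coatom.1)

theorem disjoint_H (h : SideHyp M W₁ U W₂) : fittingHallOf M ⊓ (U ⊔ W₁) = ⊥ ∧
    (Nat.card (fittingHallOf M)).Coprime (Nat.card ↥(U ⊔ W₁)) := by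
  have hc : Nat.card ↥(U ⊔ W₁) = Nat.card U * Nat.card W₁ :=
    Cfsg.Lib.Coprime.card_sup_of_disjoint h.typeP.U_normal
      (Cfsg.Lib.Coprime.disjoint_of_coprime_card h.coprime_W₁U).symm
  have hcop : (Nat.card (fittingHallOf M)).Coprime (Nat.card ↥(U ⊔ W₁)) := by
    rw [hc]; exact h.coprime_HU.mul_right h.coprime_HW₁
  exact ⟨disjoint_iff.1 (Cfsg.Lib.Coprime.disjoint_of_coprime_card hcop), hcop⟩

/-- An element above `C_H (U)` of `H` and maximal proper invariant. -/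
theorem exists_top (h : SideHyp M W₁ U W₂) :
    ∃ Z : Subgroup G, sideH₀ M U ≤ Z ∧ ⁅fittingHallOf M, fittingHallOf M⁆ ≤ Z ∧ Z < fittingHallOf M ∧
      M ≤ normalizer (Z : Set G) ∧ ∀ Y : Subgroup G, Z ≤ Y → Y ≤ fittingHallOf M →
        M ≤ normalizer (Y : Set G) → Y = Z ∨ Y = fittingHallOf M := by
  classical
  set H := fittingHallOf M with hH
  have hMH := h.M_le_normalizer_H
  set X : Subgroup G := sideH₀ M U ⊔ ⁅H, H⁆
  have hXH : X ≤ H := sup_le inf_le_left (Cfsg.Lib.Coprime.commutator_le_of_le_normalizer Subgroup.le_normalizer)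
  have hHX : H ≤ normalizer (X : Set G) := by
    intro g hg
    refine mem_normalizer_of_forall fun x hx => ?_
    have : g * x * g⁻¹ = ⁅g, x⁆ * x := by simp [commutatorElement_def, mul_assoc]
    rw [this]
    exact mul_mem (mem_sup_right (commutator_mem_commutator hg (hXH hx))) hx
  have hgen : ∀ g ∈ normalizer (U : Set G) ⊓ normalizer (H : Set G), g ∈ normalizer (X : Set G) := by
    intro g hg
    refine mem_normalizer_of_forall fun x hx => ?_
    suffices hle : X ≤ X.comap (MulAut.conj g).toMonoidHom from hle hx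
    refine sup_le (fun y hy => mem_sup_left ⟨(mem_normalizer_iff.1 hg.2 y).1 hy.1,
      mem_centralizer_iff.2 fun v hv => ?_⟩) (commutator_le.2 fun a ha b hb => ?_)
    · have hv' : g⁻¹ * v * g ∈ U := by simpa using (mem_normalizer_iff.1 (inv_mem hg.1) v).1 hv
      have := mem_centralizer_iff.1 hy.2 _ hv'
      show v * (g * y * g⁻¹) = g * y * g⁻¹ * v
      calc v * (g * y * g⁻¹) = g * (g⁻¹ * v * g * y) * g⁻¹ := by group
        _ = g * (y * (g⁻¹ * v * g)) * g⁻¹ := by rw [this]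
        _ = _ := by group
    · show g * ⁅a, b⁆ * g⁻¹ ∈ X
      rw [conj_commutatorElement']
      exact mem_sup_right (commutator_mem_commutator ((mem_normalizer_iff.1 hg.2 a).1 ha)
        ((mem_normalizer_iff.1 hg.2 b).1 hb))
  have hMX : M ≤ normalizer (X : Set G) := h.le_of_parts hHX
    (fun g hg => hgen g ⟨Subgroup.le_normalizer hg, hMH (h.U_le hg)⟩)
    (fun g hg => hgen g ⟨h.typeP.U_normal hg, hMH (h.W₁_le hg)⟩)
  have hXne : X ≠ H := by
    intro e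
    haveI hnil := (Cfsg.Lib.Local.TypeP.fittingHallOf_hall M).1
    have htop : (sideH₀ M U).subgroupOf H ⊔ frattini H = ⊤ := by
      refine eq_top_iff.2 (le_trans ?_ (sup_le_sup_left
        (Cfsg.Lib.Char.commutator_le_frattini_of_nilpotent hnil) _))
      have hc : commutator ↥H = (⁅H, H⁆).subgroupOf H := by
        apply map_injective H.subtype_injective
        rw [map_subtype_commutator, map_subgroupOf_eq_of_le
          (Cfsg.Lib.Coprime.commutator_le_of_le_normalizer Subgroup.le_normalizer)]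
      rw [hc, ← subgroupOf_sup (show sideH₀ M U ≤ H from inf_le_left)
        (Cfsg.Lib.Coprime.commutator_le_of_le_normalizer Subgroup.le_normalizer)]
      show ⊤ ≤ X.subgroupOf H
      rw [e, subgroupOf_self]
    have := frattini_nongenerating htop
    rw [subgroupOf_eq_top] at this
    refine Cfsg.Lib.Local.TypeP.U_not_le_centralizer h.typeP h.U_ne fun v hv => mem_centralizer_iff.2 fun y hy => ?_
    exact (mem_centralizer_iff.1 (this hy).2 v hv).symm
  let T : Set (Subgroup G) := {Y | X ≤ Y ∧ Y < H ∧ M ≤ normalizer (Y : Set G)}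
  obtain ⟨Z, hZ⟩ := (Set.toFinite T).exists_maximal ⟨X, le_rfl, lt_of_le_of_ne hXH hXne, hMX⟩
  refine ⟨Z, le_sup_left.trans hZ.1.1, le_sup_right.trans hZ.1.1, hZ.1.2.1, hZ.1.2.2, fun Y hZY hYH hYn => ?_⟩
  by_cases hY : Y = H
  · exact Or.inr hY
  · exact Or.inl (le_antisymm (hZ.2 ⟨hZ.1.1.trans hZY, lt_of_le_of_ne hYH hY, hYn⟩ hZY) hZY)

/-- The chief factor `H / C_H (U)`. -/
theorem factor (h : SideHyp M W₁ U W₂) :
    M ≤ normalizer (sideH₀ M U : Set G) ∧ ⁅fittingHallOf M, fittingHallOf M⁆ ≤ sideH₀ M U ∧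
      sideH₀ M U < fittingHallOf M ∧ W₂ ⊓ sideH₀ M U = ⊥ ∧
      (sideH₀ M U).relIndex (fittingHallOf M) = Nat.card W₂ ^ Nat.card W₁ ∧
      ∀ Y : Subgroup G, sideH₀ M U ≤ Y → Y ≤ fittingHallOf M →
        M ≤ normalizer (Y : Set G) → Y = sideH₀ M U ∨ Y = fittingHallOf M := by
  obtain ⟨Z, hZ0, hZd, hZH, hZn, hZmax⟩ := h.exists_top
  set H := fittingHallOf M
  haveI := h.solvable_H
  obtain ⟨hdisj, hcop⟩ := h.disjoint_H
  have hUE : U ⊓ W₁ = ⊥ := disjoint_iff.1 (Cfsg.Lib.Coprime.disjoint_of_coprime_card h.coprime_W₁U).symm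
  have hUn : ∀ e ∈ W₁, ∀ v ∈ U, e * v * e⁻¹ ∈ U := fun e he v hv =>
    (mem_normalizer_iff.1 (h.typeP.U_normal he) v).1 hv
  have hfpf : ∀ e ∈ W₁, e ≠ 1 → ∀ v ∈ U, e * v = v * e → v = 1 := fun e he he1 v hv hc =>
    h.free_U hv he he1 hc.symm
  have key : ∀ Y : Subgroup G, Y ≤ H → M ≤ normalizer (Y : Set G) →
      Nat.card ↥(Y ⊓ centralizer ((U ⊔ W₁ : Subgroup G) : Set G)) ^ Nat.card W₁ * Nat.card Y =
        Nat.card ↥(Y ⊓ centralizer (W₁ : Set G)) ^ Nat.card W₁ * Nat.card ↥(Y ⊓ centralizer (U : Set G)) :=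
    fun Y hY hYn => Cfsg.Agent.S1545.result U W₁ Y h.U_ne h.typeP.W₁_ne hUE hUn hfpf
      (fun x hx y hy => (mem_normalizer_iff.1 (hYn (sup_le h.U_le h.W₁_le hx)) y).1 hy)
      (eq_bot_iff.2 ((inf_le_inf_right _ hY).trans hdisj.le)) (Cfsg.Lib.Coprime.isSolvable_of_le hY h.solvable_H)
      (hcop.coprime_dvd_left (card_dvd_of_le hY))
  obtain ⟨w, hw, hw1⟩ := h.W₁_elem
  have hW2 : H ⊓ centralizer (W₁ : Set G) = W₂ := le_antisymm
    (fun x hx => h.fixed_W₁ (h.H_le_derived hx.1) hw hw1 (mem_centralizer_iff.1 hx.2 w hw).symm)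
    (fun x hx => ⟨h.W₂_le_H hx, mem_centralizer_iff.2 fun v hv => h.commute_W hv hx⟩)
  have hZW : Z ⊓ centralizer (W₁ : Set G) = W₂ ⊓ Z := by
    rw [← hW2, inf_right_comm, inf_eq_right.2 hZH.le]
  have hUeq : Z ⊓ centralizer (U : Set G) = sideH₀ M U :=
    le_antisymm (inf_le_inf_right _ hZH.le) (le_inf hZ0 inf_le_right)
  have hA : H ⊓ centralizer ((U ⊔ W₁ : Subgroup G) : Set G) =
      Z ⊓ centralizer ((U ⊔ W₁ : Subgroup G) : Set G) :=
    le_antisymm (le_inf (fun x hx => hZ0 ⟨hx.1, centralizer_le (show (U : Set G) ⊆ (U ⊔ W₁ : Subgroup G) from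
      fun v hv => mem_sup_left hv) hx.2⟩) inf_le_right) (inf_le_inf_right _ hZH.le)
  have e1 := key H le_rfl h.M_le_normalizer_H
  have e2 := key Z hZH.le hZn
  rw [hW2, hA, show H ⊓ centralizer (U : Set G) = sideH₀ M U from rfl] at e1
  rw [hZW, hUeq] at e2
  set a := Nat.card ↥(Z ⊓ centralizer ((U ⊔ W₁ : Subgroup G) : Set G))
  have ha : 0 < a := Nat.card_pos
  have hZH' : Nat.card Z < Nat.card H := Nat.lt_of_not_le fun hle => hZH.ne (eq_of_le_of_card_ge hZH.le hle)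
  have hb : W₂ ⊓ Z = ⊥ := by
    rcases h.p_prime.eq_one_or_self_of_dvd _ (card_dvd_of_le (inf_le_left (b := Z) (a := W₂))) with hb | hb
    · exact eq_bot_of_card_eq _ hb
    · rw [hb, ← e1] at e2
      exact absurd (Nat.eq_of_mul_eq_mul_left (pow_pos ha _) e2) hZH'.ne
  rw [hb, card_bot, one_pow, one_mul] at e2
  have hle := Nat.le_of_dvd Nat.card_pos (card_dvd_of_le hZ0)
  have hZe : sideH₀ M U = Z := eq_of_le_of_card_ge hZ0 (by
    rw [← e2]
    exact Nat.le_mul_of_pos_left _ (pow_pos ha _))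
  have ha1 : a ^ Nat.card W₁ = 1 := by
    rw [← hZe] at e2
    exact Nat.eq_of_mul_eq_mul_right Nat.card_pos (e2.trans (one_mul _).symm)
  rw [ha1, one_mul] at e1
  rw [hZe] at e1 ⊢
  refine ⟨hZn, hZd, hZH, hb, ?_, hZmax⟩
  refine Nat.eq_of_mul_eq_mul_left (Nat.card_pos (α := Z)) ?_
  rw [Cfsg.Lib.Core.card_mul_relIndex hZH.le, e1, mul_comm]

end SideHyp

end Cfsg.Lib.OddOrder
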