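import Cfsg.Agent.Lib.Local.Sigma.TypeIff
import Cfsg.Agent.Lib.Local.Sigma.TypeOneTwo
import Cfsg.Agent.Lib.Local.Sigma.PairFacts

/-!
# From data of type `P` to the standard factorisation

For `IsTypePWith M W₁ U W₂` the subgroup `W₁` is a Hall `κ (M)`-subgroup and `W₂` is its `K*`; two such
data with exchanged `W₁`, `W₂` form a pair.
-/

set_option autoImplicit false
set_option linter.style.haveILetI false
set_option linter.unusedSectionVars false

namespace Cfsg.Lib.OddOrder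

open Subgroup Cfsg.Lib Cfsg.Lib.Local Cfsg.Lib.Local.Uniq Cfsg.Lib.Local.Sigma
open scoped commutatorElement

universe u

variable {G : Type u} [Group G] [Finite G] {M W₁ W₂ U T V : Subgroup G}

theorem hall_of_typeP (hG : Cfsg.IsMinSimpleOddOrder G) (hM : IsCoatom M)
    (hP : Cfsg.IsTypePWith M W₁ U W₂) :
    Cfsg.IsPiHallOf (Cfsg.kappa M) W₁ M ∧ kstar M W₁ = W₂ := by
  obtain ⟨K₀, U₀, h₀⟩ := exists_decomposition hG hM
  have hK1 := ne_bot_of_typeP hG hM h₀ hP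
  obtain ⟨V₀, hV₀, hKV⟩ := exists_invariant_compl hG hM h₀ hK1
  have hP₀ := typeP_of_compl hG hM h₀ hK1 hV₀ hKV
  have hDM := derived_le_self hG hM
  have hKn : K₀ ≤ normalizer ((⁅M, M⁆ : Subgroup G) : Set G) :=
    hP₀.W₁_compl.2.1.trans (Subgroup.le_normalizer.trans (Local.FreeAction.normalizer_le_normalizer_commutator M))
  have hcard : Nat.card W₁ = Nat.card K₀ := Nat.eq_of_mul_eq_mul_left Nat.card_pos
    ((card_of_isComplIn hP.W₁_compl).trans (card_of_isComplIn hP₀.W₁_compl).symm)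
  obtain ⟨n, hn, hW⟩ := Coprime.exists_conj_of_coprime ⁅M, M⁆ K₀ W₁ hKn
    (card_coprime_derived hG hM h₀ hK1)
    (Or.inr (Coprime.isSolvable_of_le hDM (hG.2.2.2 M hM.1)))
    (hP.W₁_compl.2.1.trans fun m hm => by
      obtain ⟨a, ha, b, hb, rfl⟩ := hP₀.W₁_compl.2.2.2 m hm
      exact mul_mem (mem_sup_left ha) (mem_sup_right hb)) hcard
  have hHall : Cfsg.IsPiHallOf (Cfsg.kappa M) W₁ M := hW ▸ hall_conj (hDM hn) h₀.hall
  refine ⟨hHall, le_antisymm (fun z hz => ?_) (fun z hz => ?_)⟩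
  · obtain ⟨x, hx, hx1⟩ := (bot_or_exists_ne_one W₁).resolve_left hP.W₁_ne
    exact (hP.W₂_centralizer x hx hx1).le (Subgroup.mem_inf.2 ⟨sigmaCore_le_derived hG hM hz.1,
      mem_centralizer_singleton_iff.2 (mem_centralizer_iff.1 hz.2 x hx).symm⟩)
  · exact Subgroup.mem_inf.2 ⟨fittingHallOf_le hG hM (hP.W₂_le hz).1,
      mem_centralizer_iff.2 fun x hx => hP.selfNormalizing.2.2.2.1 x hx z hz⟩

/-- For a subgroup of type II the data of type `P` give a standard factorisation. -/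
theorem decomp_of_typeP (hG : Cfsg.IsMinSimpleOddOrder G) (hM : IsCoatom M)
    (hP : Cfsg.IsTypePWith M W₁ U W₂) (hII : Cfsg.IsOfTypeII M) :
    Cfsg.IsSigmaDecomposition M W₁ U ∧ U ≠ ⊥ ∧ Cfsg.fittingHallOf M = Cfsg.sigmaCore M := by
  obtain ⟨K, hd, hF, h⟩ := exists_decomp_of_type hG hM (Or.inr ⟨hII, hP.U_compl⟩)
  have hU1 : U ≠ ⊥ := by
    rcases h with ⟨hI, -⟩ | ⟨-, -, h1⟩
    · obtain ⟨-, hI'⟩ := eq_bot_of_typeI hG hM hd hI
      obtain ⟨K', U', hU'⟩ := exists_decomposition hG hM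
      exact absurd (eq_bot_of_typeI hG hM hU' hI).1 ((typeII_iff hG hM hU').1 hII).1
    · exact h1
  exact ⟨decomp_of_hall hG hM (hall_of_typeP hG hM hP).1 (decomp_hall hG hM hd) hP.U_normal, hU1, hF⟩

/-- Data with exchanged `W₁`, `W₂` form a pair. -/
theorem pair_of_data (hG : Cfsg.IsMinSimpleOddOrder G) (hM : IsCoatom M) (hT : IsCoatom T)
    (hP : Cfsg.IsTypePWith M W₁ U W₂) (hP' : Cfsg.IsTypePWith T W₂ V W₁) : Pair M W₁ T := by
  obtain ⟨-, e⟩ := hall_of_typeP hG hM hP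
  obtain ⟨h', e'⟩ := hall_of_typeP hG hT hP'
  exact ⟨hT, by rw [e]; exact h', by rw [e]; exact e'.symm⟩

/-- When `F (M)` is a TI-subset the centralizers of its nonidentity elements lie in `M`. -/
theorem centralizer_le_of_fitting_ti (hG : Cfsg.IsMinSimpleOddOrder G) (hM : IsCoatom M)
    (hP : Cfsg.IsTypePWith M W₁ U W₂) (hTI : Cfsg.IsTISubset (Cfsg.fittingOf M : Set G)) {x : G}
    (hx : x ∈ Cfsg.fittingHallOf M) (hx1 : x ≠ 1) : centralizer ({x} : Set G) ≤ M := by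
  have hF : x ∈ Cfsg.fittingOf M := hP.fitting_eq.le (mem_sup_left hx)
  have hFM : Cfsg.fittingOf M ≤ M := hP.fitting_le.trans (derived_le_self hG hM)
  have hN : normalizer (Cfsg.fittingOf M : Set G) = M := eq_normalizer hG hM
    (fun e => hx1 (mem_bot.1 (e.le hF))) (fun e => hM.1 (top_le_iff.1 (e.ge.trans hFM)))
    (Uniq.le_normalizer_map_normal (Cfsg.fittingSubgroup ↥M))
  intro c hc
  rw [← hN]
  by_contra hcn
  refine hx1 (hTI c hcn x hF ?_)
  rwa [mem_centralizer_singleton_iff.1 hc, mul_inv_cancel_right]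

theorem fitting_ti_of_typeII_or_III (h : Cfsg.IsOfTypeII M ∨ Cfsg.IsOfTypeIII M) :
    Cfsg.IsTISubset (Cfsg.fittingOf M : Set G) := by
  rcases h with ⟨_, _, _, -, -, -, h, -⟩ | ⟨_, _, _, -, -, -, h, -⟩ <;> exact h

/-- What a full member of a pair provides (notes/ft_main.md, section 4). -/
structure FullP (M W₁ U W₂ : Subgroup G) : Prop where
  comm : IsMulCommutative ↥(Cfsg.fittingHallOf M)
  pow_eq : ∀ x ∈ Cfsg.fittingHallOf M, x ^ Nat.card W₂ = 1
  card_fitting : Nat.card ↥(Cfsg.fittingHallOf M) = Nat.card W₂ ^ Nat.card W₁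
  card_U : Nat.card U * (Nat.card W₂ - 1) + 1 = Nat.card W₂ ^ Nat.card W₁
  cyclic : IsCyclic U
  free : ∀ u ∈ U, u ≠ 1 → ∀ x ∈ Cfsg.fittingHallOf M, u * x = x * u → x = 1
  coprime : (Nat.card U).Coprime (Nat.card W₂ - 1)

end Cfsg.Lib.OddOrder
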