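import Mathlib

/-!
# Arithmetic for the main line of the odd order theorem

Section 3 (both sides are full) and the final contradiction of sections 7 and 8.
-/

set_option autoImplicit false

namespace Cfsg.Lib.OddOrder

theorem three_le_of_odd_prime {p : ℕ} (hp : p.Prime) (ho : Odd p) : 3 ≤ p := by
  obtain ⟨k, rfl⟩ := ho
  have := hp.two_le
  omega

theorem div_sub_one_le {p : ℕ} (hp : 5 ≤ p) : (p : ℝ) / ((p : ℝ) - 1) ≤ 5 / 4 := by
  have : (5 : ℝ) ≤ p := by exact_mod_cast hp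
  rw [div_le_iff₀ (by linarith)]
  linarith

theorem div_sub_one_le_three {p : ℕ} (hp : 3 ≤ p) : (p : ℝ) / ((p : ℝ) - 1) ≤ 3 / 2 := by
  have : (3 : ℝ) ≤ p := by exact_mod_cast hp
  rw [div_le_iff₀ (by linarith)]
  linarith

theorem one_div_pow_le {p k b e : ℕ} (hb : 0 < b) (hbp : b ≤ p) (hek : e ≤ k) :
    (1 : ℝ) / (p : ℝ) ^ k ≤ 1 / (b : ℝ) ^ e := by
  refine one_div_le_one_div_of_le (by positivity) ?_
  exact_mod_cast (Nat.pow_le_pow_left hbp e).trans (Nat.pow_le_pow_right (by omega) hek)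

/-- One side is bounded by `p / (p - 1)`, and by a third of it unless it is full with index `p ^ q`. -/
theorem side_term_le {p q u n : ℕ} (hp : 3 ≤ p) (hq : 1 ≤ q)
    (hu : u * (p - 1) + 1 = p ^ q ∨ 3 * u * (p - 1) + 1 ≤ p ^ q) (hn : n = p ^ q ∨ 3 * p ^ q ≤ n) :
    (p : ℝ) * ((u : ℝ) + 1) / n ≤ (p : ℝ) / ((p : ℝ) - 1) + 1 / (p : ℝ) ^ (q - 1) ∧
      ((u * (p - 1) + 1 ≠ p ^ q ∨ n ≠ p ^ q) →
        (p : ℝ) * ((u : ℝ) + 1) / n ≤ (p : ℝ) / ((p : ℝ) - 1) / 3 + 1 / (p : ℝ) ^ (q - 1)) := by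
  have hP : (0 : ℝ) < (p : ℝ) ^ q := by positivity
  have hp1 : (2 : ℝ) ≤ (p : ℝ) - 1 := by
    have : (3 : ℝ) ≤ p := by exact_mod_cast hp
    linarith
  have hpow : (p : ℝ) ^ q = (p : ℝ) * (p : ℝ) ^ (q - 1) := by
    rw [← pow_succ', Nat.sub_add_cancel hq]
  have hn1 : (p : ℝ) ^ q ≤ n := by
    have : p ^ q ≤ n := by omega
    exact_mod_cast this
  have hu1 : (u : ℝ) * ((p : ℝ) - 1) ≤ (p : ℝ) ^ q := by
    have : u * (p - 1) ≤ p ^ q := by
      rcases hu with h | h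
      · omega
      · rw [mul_assoc] at h; omega
    calc (u : ℝ) * ((p : ℝ) - 1) = ((u * (p - 1) : ℕ) : ℝ) := by push_cast [Nat.cast_sub (by omega : 1 ≤ p)]; ring
      _ ≤ ((p ^ q : ℕ) : ℝ) := by exact_mod_cast this
      _ = _ := by push_cast; ring
  have key : ∀ a : ℝ, (u : ℝ) * ((p : ℝ) - 1) ≤ a * (p : ℝ) ^ q → ∀ m : ℝ, (p : ℝ) ^ q ≤ m →
      (p : ℝ) * ((u : ℝ) + 1) / m ≤ (p : ℝ) / ((p : ℝ) - 1) * a + 1 / (p : ℝ) ^ (q - 1) := fun a ha m hm => by
    refine (div_le_div_of_nonneg_left (by positivity) hP hm).trans ?_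
    rw [div_le_iff₀ hP, add_mul, mul_add, mul_one]
    refine add_le_add ?_ (le_of_eq ?_)
    · rw [mul_assoc, div_mul_eq_mul_div, le_div_iff₀ (by linarith), mul_assoc]
      exact mul_le_mul_of_nonneg_left ha (by positivity)
    · rw [hpow, one_div, mul_comm (p : ℝ) ((p : ℝ) ^ (q - 1)), inv_mul_cancel_left₀ (by positivity)]
  refine ⟨by simpa using key 1 (by simpa using hu1) n hn1, fun h => ?_⟩
  rcases h with h | h
  · have h3 : (u : ℝ) * ((p : ℝ) - 1) ≤ 1 / 3 * (p : ℝ) ^ q := by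
      have h2 := hu.resolve_left h
      have : ((3 * u * (p - 1) + 1 : ℕ) : ℝ) ≤ ((p ^ q : ℕ) : ℝ) := by exact_mod_cast h2
      push_cast [Nat.cast_sub (by omega : 1 ≤ p)] at this
      linarith
    exact (key _ h3 n hn1).trans (le_of_eq (by ring))
  · have h3 : 3 * (p : ℝ) ^ q ≤ n := by exact_mod_cast hn.resolve_left h
    refine (div_le_div_of_nonneg_left (by positivity) (by positivity) h3).trans ?_
    have := key 1 (by simpa using hu1) ((p : ℝ) ^ q) le_rfl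
    rw [mul_comm (3 : ℝ), ← div_div]
    have hinv : (0 : ℝ) ≤ 1 / (p : ℝ) ^ (q - 1) := by positivity
    linarith

/-- Section 3: both sides are full, with index `p ^ q`. -/
theorem full_of_two_le {p q u v n m : ℕ} (hp : p.Prime) (hq : q.Prime) (hpo : Odd p) (hqo : Odd q) (hne : p ≠ q)
    (hu : u * (p - 1) + 1 = p ^ q ∨ 3 * u * (p - 1) + 1 ≤ p ^ q)
    (hv : v * (q - 1) + 1 = q ^ p ∨ 3 * v * (q - 1) + 1 ≤ q ^ p)
    (hn : n = p ^ q ∨ 3 * p ^ q ≤ n) (hm : m = q ^ p ∨ 3 * q ^ p ≤ m)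
    (h : (2 : ℝ) ≤ (p : ℝ) * ((u : ℝ) + 1) / n + (q : ℝ) * ((v : ℝ) + 1) / m) :
    (u * (p - 1) + 1 = p ^ q ∧ n = p ^ q) ∧ (v * (q - 1) + 1 = q ^ p ∧ m = q ^ p) := by
  have hp3 := three_le_of_odd_prime hp hpo
  have hq3 := three_le_of_odd_prime hq hqo
  -- the lopsided estimate
  have key : ∀ {p q : ℕ}, 3 ≤ p → 3 ≤ q → Odd p → Odd q → p ≠ q →
      (p : ℝ) / ((p : ℝ) - 1) / 3 + 1 / (p : ℝ) ^ (q - 1) +
        ((q : ℝ) / ((q : ℝ) - 1) + 1 / (q : ℝ) ^ (p - 1)) < 2 := by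
    intro p q hp hq hpo hqo hne
    obtain ⟨i, hi⟩ := hpo
    obtain ⟨j, hj⟩ := hqo
    by_cases h5 : 5 ≤ p
    · have h1 := div_sub_one_le h5
      have h2 := div_sub_one_le_three hq
      have h3 := one_div_pow_le (k := q - 1) (b := 5) (e := 2) (by norm_num) h5 (by omega)
      have h4 := one_div_pow_le (k := p - 1) (b := 3) (e := 4) (by norm_num) hq (by omega)
      norm_num at h3 h4 ⊢
      linarith
    · have hq5 : 5 ≤ q := by omega
      have h1 := div_sub_one_le_three hp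
      have h2 := div_sub_one_le hq5
      have h3 := one_div_pow_le (k := q - 1) (b := 3) (e := 4) (by norm_num) hp (by omega)
      have h4 := one_div_pow_le (k := p - 1) (b := 5) (e := 2) (by norm_num) hq5 (by omega)
      norm_num at h3 h4 ⊢
      linarith
  obtain ⟨hS, hS'⟩ := side_term_le hp3 (by omega) hu hn
  obtain ⟨hT, hT'⟩ := side_term_le hq3 (by omega) hv hm
  constructor <;> by_contra hne' <;> rw [not_and_or] at hne'
  · have := hS' hne'
    have := key hp3 hq3 hpo hqo hne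
    linarith
  · have := hT' hne'
    have := key hq3 hp3 hqo hpo (Ne.symm hne)
    linarith

/-- The final contradiction. -/
theorem final_numeric {p q u v h : ℕ} (hq : 3 ≤ q) (hqo : Odd q) (hp : 5 ≤ p) (hlt : q < p)
    (hu : u * (p - 1) + 1 = p ^ q) (h7 : (2 * p * q + 1) * u ≤ h) (h7' : h ≤ 1 + 2 * p * q + q * (v - 1))
    (h8 : v - 1 ≤ p * q * (p * q - p + 1)) : False := by
  have hu1 : p ^ (q - 1) ≤ u := by
    by_contra hlt'
    have h1 : u + 1 ≤ p ^ (q - 1) := Nat.lt_iff_add_one_le.1 (not_le.1 hlt')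
    have h2 := Nat.mul_le_mul_right (p - 1) h1
    have h3 : p ^ (q - 1) * (p - 1) + p ^ (q - 1) = p ^ q := by
      rw [← Nat.mul_succ, Nat.succ_eq_add_one, Nat.sub_add_cancel (by omega), ← pow_succ,
        Nat.sub_add_cancel (by omega)]
    have h4 : 1 ≤ p ^ (q - 1) := Nat.one_le_pow _ _ (by omega)
    rw [add_mul, one_mul] at h2
    omega
  have hb : v - 1 ≤ p * q * (p * q) := h8.trans (Nat.mul_le_mul_left _ (by
    have : p ≤ p * q := Nat.le_mul_of_pos_right _ (by omega)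
    omega))
  have h9 : (2 * p * q + 1) * p ^ (q - 1) ≤ 1 + 2 * p * q + q * (p * q * (p * q)) :=
    (Nat.mul_le_mul_left _ hu1).trans (h7.trans (h7'.trans
      (Nat.add_le_add_left (Nat.mul_le_mul_left _ hb) _)))
  rcases eq_or_lt_of_le hq with rfl | hq4
  · rw [show 3 - 1 = 2 from rfl] at h9
    nlinarith [Nat.mul_le_mul_left (p * p) hp, Nat.mul_le_mul_left p hp]
  · have hq5 : 5 ≤ q := by
      obtain ⟨j, rfl⟩ := hqo
      omega
    have h10 : p ^ 4 ≤ p ^ (q - 1) := Nat.pow_le_pow_right (by omega) (by omega)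
    have h11 := (Nat.mul_le_mul_left (2 * p * q + 1) h10).trans h9
    have h12 : q * q ≤ p * p := Nat.mul_le_mul hlt.le hlt.le
    have h13 : p * q ≤ p * p := Nat.mul_le_mul_left p hlt.le
    have h14 : 25 * (p * p) ≤ p ^ 4 := by
      have := Nat.mul_le_mul_right (p * p) (Nat.mul_le_mul hp hp)
      calc 25 * (p * p) ≤ p * p * (p * p) := by linarith
        _ = p ^ 4 := by ring
    nlinarith [Nat.mul_le_mul_left (p * p * q) h12, Nat.mul_le_mul_left (p ^ 4 * q) hp]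

end Cfsg.Lib.OddOrder
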