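import Cfsg.Agent.Lib.Char.Orthogonality
import Cfsg.Agent.Lib.Char.PermLemma
import Cfsg.Agent.Lib.Char.Induced
import Cfsg.Prelude.Def_OddOrderChar
import Mathlib.Data.ZMod.Basic

/-!
# Products of real virtual characters in a group of odd order

Their inner product is congruent modulo `2` to the product of the coefficients of the principal character.
-/

set_option autoImplicit false
set_option linter.unusedSectionVars false
set_option linter.style.haveILetI false

namespace Cfsg.Lib.OddOrder

open Cfsg Cfsg.Lib.Char
open scoped ComplexConjugate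

universe u

variable {G : Type u} [Group G] [Fintype G]

theorem classInner_conj_of_real {F : G → ℂ} (hF : conjFun F = F) (φ : G → ℂ) :
    classInner F (conjFun φ) = conj (classInner F φ) := by
  have h := classInner_conjFn F φ
  rw [show (fun g => conj (F g)) = F from hF] at h
  rw [classInner_conj_symm, ← h]
  rfl

/-- The congruence modulo `2`. -/
theorem parity (hodd : Odd (Nat.card G)) {X Y : G → ℂ} (hX : IsGeneralizedCharacter G X)
    (hY : IsGeneralizedCharacter G Y) (hXr : conjFun X = X) (hYr : conjFun Y = Y) {m a b : ℤ}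
    (hm : classInner X Y = m) (ha : classInner X (fun _ => 1) = a) (hb : classInner Y (fun _ => 1) = b) :
    (2 : ℤ) ∣ m - a * b := by
  classical
  choose c hc using fun χ : IrrCharacter G => hX.exists_int_classInner χ.2.isCharacter.isGeneralized
  choose d hd using fun χ : IrrCharacter G => hY.exists_int_classInner χ.2.isCharacter.isGeneralized
  have hsum : m = ∑ χ, c χ * d χ := by
    rw [classInner_eq_sum hX.isClassFunction] at hm
    simp only [hc, hd, map_intCast] at hm
    exact_mod_cast hm.symm
  set one : IrrCharacter G := ⟨fun _ => 1, isIrrCharacter_one⟩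
  have hconj : ∀ χ : IrrCharacter G, c (irrConj χ) = c χ ∧ d (irrConj χ) = d χ := by
    intro χ
    constructor
    · have := classInner_conj_of_real hXr (χ : G → ℂ)
      rw [show conjFun (χ : G → ℂ) = (irrConj χ : G → ℂ) from rfl, hc, hc, map_intCast] at this
      exact_mod_cast this
    · have := classInner_conj_of_real hYr (χ : G → ℂ)
      rw [show conjFun (χ : G → ℂ) = (irrConj χ : G → ℂ) from rfl, hd, hd, map_intCast] at this
      exact_mod_cast this
  have hinv : ∀ χ : IrrCharacter G, irrConj (irrConj χ) = χ := fun χ =>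
    Subtype.ext (funext fun g => Complex.conj_conj _)
  have hfix : ∀ χ : IrrCharacter G, irrConj χ = χ → χ = one := fun χ h =>
    Subtype.ext (real_irr_eq_one hodd χ ((irrConj_eq_iff χ).1 h))
  have hone : c one = a ∧ d one = b :=
    ⟨by exact_mod_cast (hc one).symm.trans ha, by exact_mod_cast (hd one).symm.trans hb⟩
  have h0 : ∑ χ ∈ Finset.univ.erase one, ((c χ * d χ : ℤ) : ZMod 2) = 0 := by
    refine Finset.sum_involution (fun χ _ => irrConj χ) (fun χ _ => ?_) (fun χ hχ _ => ?_) (fun χ hχ => ?_)
      (fun χ _ => hinv χ)
    · rw [(hconj χ).1, (hconj χ).2]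
      exact CharTwo.add_self_eq_zero _
    · exact fun e => (Finset.mem_erase.1 hχ).1 (hfix χ e)
    · refine Finset.mem_erase.2 ⟨fun e => (Finset.mem_erase.1 hχ).1 ?_, Finset.mem_univ _⟩
      rw [← hinv χ, e]
      exact Subtype.ext (funext fun g => map_one (starRingEnd ℂ))
  refine (ZMod.intCast_zmod_eq_zero_iff_dvd (m - a * b) 2).1 ?_
  rw [hsum, ← Finset.add_sum_erase _ _ (Finset.mem_univ one), hone.1,
    hone.2]
  push_cast
  rw [add_sub_cancel_left]
  simpa using h0

end Cfsg.Lib.OddOrder
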