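import Cfsg.Agent.Lib.OddOrder.SideParity

/-!
# A region of index `p q`

For a pair with both sides full and a region of index `p q` outside the TI set and both supports, too large for
the bridge of `S` to meet it: its size is bounded by the bridge of `T`.
-/

set_option autoImplicit false
set_option linter.unusedSectionVars false
set_option linter.style.haveILetI false

namespace Cfsg.Lib.OddOrder

open Cfsg Cfsg.Lib.Char Cfsg.Lib.Char.FT
open scoped ComplexConjugate Classical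

universe u'

theorem full_ratio_le {p q u : ℕ} (hp : 3 ≤ p) (hq : 3 ≤ q) (hu : u * (p - 1) + 1 = p ^ q) :
    (p : ℝ) * ((u : ℝ) + 1) / (p : ℝ) ^ q ≤ 29 / 18 := by
  have hp' : (3 : ℝ) ≤ p := by exact_mod_cast hp
  have h1 : (u : ℝ) * ((p : ℝ) - 1) + 1 = (p : ℝ) ^ q := by
    have : ((u * (p - 1) + 1 : ℕ) : ℝ) = ((p ^ q : ℕ) : ℝ) := by rw [hu]
    push_cast [Nat.cast_sub (show 1 ≤ p by omega)] at this
    exact this
  have h2 : (p : ℝ) ^ 3 ≤ (p : ℝ) ^ q := pow_le_pow_right₀ (by linarith) hq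
  rw [div_le_iff₀ (by positivity)]
  have h3 : (u : ℝ) * p ≤ 3 / 2 * ((u : ℝ) * ((p : ℝ) - 1)) := by nlinarith
  have h4 : (p : ℝ) ≤ 1 / 9 * (p : ℝ) ^ 3 := by nlinarith [mul_le_mul hp' hp' (by norm_num) (by linarith)]
  nlinarith

theorem int_eq_of_quad {z : ℤ} {ε : ℤ} (hε : ε = 1 ∨ ε = -1) (h : (z : ℝ) ^ 2 + (ε : ℝ) * z < 2) :
    z = 0 ∨ z = -ε := by
  have h' : z ^ 2 + ε * z < 2 := by exact_mod_cast h
  rcases hε with rfl | rfl
  · have : -2 < z ∧ z < 1 := ⟨by nlinarith, by nlinarith⟩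
    omega
  · have : -1 < z ∧ z < 2 := ⟨by nlinarith, by nlinarith⟩
    omega

variable {G : Type u'} [Group G] [Fintype G] {S T W₁ W₂ U V Ns Ks Nt Kt : Subgroup G} {u v : ℕ}
  {χ : (↥(W₁ ⊔ W₂) →* ℂˣ) → (G → ℂ)}
  {A : Set G} {L : Subgroup G} [Fintype L] {H : G → Subgroup G} {K N₀ : Subgroup L} [K.Normal] [N₀.Normal]
  {τ₁ : (L → ℂ) → (G → ℂ)} {ζ : L → ℂ}

theorem tiSet_swap {g : G} (hg : g ∈ tiSet W₂ W₁) : g ∈ tiSet W₁ W₂ := fun h => hg fun x hx =>
  (h x (by rwa [sup_comm])).symm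

/-- A member on the first axis, seen from the other side. -/
theorem exists_swap_axis (χ : (↥(W₁ ⊔ W₂) →* ℂˣ) → (G → ℂ)) {i : Row W₁ W₂} (hi : i ≠ row0 W₁ W₂) :
    ∃ j' : Col W₂ W₁, j' ≠ col0 W₂ W₁ ∧ eta (famSwap χ) (row0 W₂ W₁) j' = eta χ i (col0 W₁ W₂) := by
  set e := MulEquiv.subgroupCongr (sup_comm W₂ W₁)
  refine ⟨⟨i.1.comp e.toMonoidHom, fun w hw => i.2 _ (by simpa [e] using hw)⟩, fun he => hi ?_, ?_⟩
  · refine Subtype.ext (MonoidHom.ext fun w => ?_)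
    have := DFunLike.congr_fun (congrArg Subtype.val he) (e.symm w)
    simpa [col0, row0] using this
  · refine congrArg χ (MonoidHom.ext fun w => ?_)
    simp only [MonoidHom.comp_apply, MonoidHom.mul_apply, row0, col0, MonoidHom.one_apply, one_mul, mul_one]
    rfl

/-- Sections 7 and 8: the bound on a region of index `p q`. -/
theorem region_pq_bound [Fintype S] [Fintype T] [Fintype ↥(Ns.subgroupOf S)] [Fintype ↥(Nt.subgroupOf T)]
    (c : PairCtx S T W₁ W₂ U V Ns Ks Nt Kt u v χ) (F : TIFacts S T W₁ W₂ Ns Ks Nt Kt χ)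
    (hAS : DadeHypothesis (sideSet Ns Ks) S (Cfsg.supportR S))
    (hAT : DadeHypothesis (sideSet Nt Kt) T (Cfsg.supportR T))
    (hu : u * (Nat.card W₂ - 1) + 1 = Nat.card W₂ ^ Nat.card W₁)
    (hv : v * (Nat.card W₁ - 1) + 1 = Nat.card W₁ ^ Nat.card W₂)
    (hnS : Ks.relIndex Ns = Nat.card W₂ ^ Nat.card W₁) (hnT : Kt.relIndex Nt = Nat.card W₁ ^ Nat.card W₂)
    (hint : ∀ g ∈ restSet S T W₁ W₂ Ns Ks Nt Kt, ∀ (i : Row W₁ W₂) (j : Col W₁ W₂), ∃ n : ℤ, eta χ i j g = n)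
    (hτ : RegionExt A L H K N₀ τ₁) (d : RegionData A L H K N₀) (hζ : ζ ∈ irrBetween K N₀)
    (hd : ζ 1 = K.index) (hsub : hitSet A H ⊆ restSet S T W₁ W₂ Ns Ks Nt Kt)
    (he : K.index = Nat.card W₂ * Nat.card W₁) (h9 : 9 ≤ N₀.relIndex K)
    (hbig : 2 + ((u : ℝ) - 1) / Nat.card W₁ < ((N₀.relIndex K : ℝ) - 1) / K.index) :
    ((N₀.relIndex K : ℝ) - 1) / K.index ≤ 2 + ((v : ℝ) - 1) / Nat.card W₂ := by
  have hW := c.typeS.selfNormalizing
  have hG := c.minimal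
  have hp3 := three_le_card_of_odd hG.1 hW.2.1
  have hq3 := three_le_card_of_odd hG.1 hW.1
  haveI := finite_hom (G := G) hW.2.2.2.2.1
  haveI := Fintype.ofFinite (Row W₁ W₂)
  haveI := Fintype.ofFinite (Col W₁ W₂)
  obtain ⟨i, hi⟩ := Fintype.exists_ne_of_one_lt_card (α := Row W₁ W₂)
    (by rw [← Nat.card_eq_fintype_card, card_row hW]; omega) (row0 W₁ W₂)
  obtain ⟨j, hj⟩ := Fintype.exists_ne_of_one_lt_card (α := Col W₁ W₂)
    (by rw [← Nat.card_eq_fintype_card, card_col hW]; omega) (col0 W₁ W₂)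
  have hoff : ∀ g ∈ hitSet A H, g ∉ tiSet W₁ W₂ := fun g hg => (hsub hg).1
  obtain ⟨cS, b, hb, hparS, hcS⟩ := side_parity hG c.typeS c.sideS c.family hτ d hζ hd hoff
    (fun g hg => (hsub hg).2.1) hj
  obtain ⟨j', hj', hjeq⟩ := exists_swap_axis χ hi
  obtain ⟨cT, a, ha, hparT, hcT⟩ := side_parity hG c.typeT c.sideT F.swap hτ d hζ hd
    (fun g hg hg' => hoff g hg (tiSet_swap hg')) (fun g hg => (hsub hg).2.2) hj'
  rw [hjeq] at ha
  -- the bridge of `S` misses the region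
  have hm : (1 : ℝ) < N₀.relIndex K := by exact_mod_cast (by omega : 1 < N₀.relIndex K)
  have hei : (0 : ℝ) < K.index := by exact_mod_cast Nat.pos_of_ne_zero Subgroup.index_ne_zero_of_finite
  have hcS0 : cS = 0 := by
    by_contra hne
    have h1 : (1 : ℝ) ≤ (cS : ℝ) ^ 2 := by
      have : (1 : ℤ) ≤ cS ^ 2 := sq_pos_of_ne_zero hne
      exact_mod_cast this
    have h2 : ((N₀.relIndex K : ℝ) - 1) / K.index ≤ (cS : ℝ) ^ 2 * ((N₀.relIndex K : ℝ) - 1) / K.index := by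
      gcongr
      nlinarith
    linarith
  rw [hcS0, zero_add] at hparS
  -- the measure
  set p : ℝ := (Nat.card W₂ : ℝ)
  set q : ℝ := (Nat.card W₁ : ℝ)
  have hp0 : (0 : ℝ) < p := by simp only [p]; exact_mod_cast (by omega : 0 < Nat.card W₂)
  have hq0 : (0 : ℝ) < q := by simp only [q]; exact_mod_cast (by omega : 0 < Nat.card W₁)
  have hmeas : 8 / 9 / (p * q) ≤ regionMeas K N₀ := by
    have h9' : (9 : ℝ) ≤ N₀.relIndex K := by exact_mod_cast h9
    rw [regionMeas, he, Nat.cast_mul, div_le_div_iff₀ (by positivity) (by positivity)]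
    show 8 / 9 * (p * q * (N₀.relIndex K : ℝ)) ≤ ((N₀.relIndex K : ℝ) - 1) * (p * q)
    nlinarith [mul_pos hp0 hq0]
  have rS : p * ((u : ℝ) + 1) / (Ks.relIndex Ns : ℝ) ≤ 29 / 18 := by
    rw [hnS, Nat.cast_pow]; exact full_ratio_le hp3 hq3 hu
  have rT : q * ((v : ℝ) + 1) / (Kt.relIndex Nt : ℝ) ≤ 29 / 18 := by
    rw [hnT, Nat.cast_pow]; exact full_ratio_le hq3 hp3 hv
  have sS : ((u : ℝ) + 1) / (q * Ks.relIndex Ns) = p * ((u : ℝ) + 1) / (Ks.relIndex Ns : ℝ) / (p * q) := by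
    field_simp
  have sT : ((v : ℝ) + 1) / (p * Kt.relIndex Nt) = q * ((v : ℝ) + 1) / (Kt.relIndex Nt : ℝ) / (p * q) := by
    field_simp
  have hquad : ∀ (i : Row W₁ W₂) (j : Col W₁ W₂) (z : ℤ), classInner (eta χ i j) (bridge A L H K ζ) = z →
      ∀ (ε : ℤ), |ε| ≤ 1 → ∀ (B : ℝ), muOn (restSet S T W₁ W₂ Ns Ks Nt Kt)
        (fun g => ‖eta χ i j g‖ ^ 2 + (ε : ℝ) * (eta χ i j g).re) ≤ B / (p * q) → B < 16 / 9 →
      (z : ℝ) ^ 2 + (ε : ℝ) * z < 2 := by
    intro i j z hz ε hε B hB hB'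
    have h1 := (region_le_muOn hτ d hζ hd hsub (eta_classFun c.family i j)
      (fun ξ hξ => inner_eta_member hG.1 hW c.family hτ d hoff hξ i j) hz
      (fun g hg => quad_nonneg (hint g hg i j) hε)).trans hB
    have hz0 : (0 : ℝ) ≤ (z : ℝ) ^ 2 + (ε : ℝ) * z := by exact_mod_cast int_sq_add_nonneg z hε
    have h2 := (mul_le_mul_of_nonneg_right hmeas hz0).trans h1
    rw [div_mul_eq_mul_div, div_le_div_iff_of_pos_right (by positivity)] at h2
    linarith
  -- the value of `b`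
  have hb1 : b = 1 := by
    have := int_eq_of_quad (Or.inr rfl) (hquad _ _ b hb (-1) (by norm_num) _ (by
      simp only [Int.cast_neg, Int.cast_one, neg_one_mul, ← sub_eq_add_neg]
      exact (budget_b_sub c F hAS hAT hj).trans (le_of_eq sS)) (by linarith))
    omega
  -- the values of `a` and `z`
  have hz : classInner (eta χ i j) (bridge A L H K ζ) = (a : ℂ) := by
    have hagree : ∀ g ∈ hitSet A H, eta χ i j g =
        ((eta χ i (col0 W₁ W₂) + eta χ (row0 W₁ W₂) j - (fun _ => (1 : ℂ))) : G → ℂ) g := fun g hg => by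
      simp only [Pi.add_apply, Pi.sub_apply]
      rw [eta, eta_mul_off c.family (fun e => hi (Subtype.ext e)) (fun e => hj (Subtype.ext e)) i.2 j.2
        (not_not.1 (hoff g hg))]
      simp only [eta, row0, col0, cti_mul_one, cti_one_mul]
    rw [show classInner (eta χ i j) (bridge A L H K ζ) = _ from inner_dade_congr hagree _, classInner_sub_left,
      classInner_add_left, ← bridge, ha, hb, d.inner_one_bridge hζ hd, hb1]
    simp
  have ha' : a = 0 ∨ a = -1 := int_eq_of_quad (Or.inl rfl) (hquad _ _ a hz 1 (by norm_num)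
      (p * ((u : ℝ) + 1) / (Ks.relIndex Ns : ℝ) + q * ((v : ℝ) + 1) / (Kt.relIndex Nt : ℝ) - 2) (by
      simp only [Int.cast_one, one_mul]
      refine (budget_z_add c F hAS hAT hi hj).trans (le_of_eq ?_)
      rw [sS, sT, sub_div, add_div])
    (by linarith))
  have ha'' : a = 0 ∨ a = 1 := int_eq_of_quad (Or.inr rfl) (hquad _ _ a ha (-1) (by norm_num) _ (by
      simp only [Int.cast_neg, Int.cast_one, neg_one_mul, ← sub_eq_add_neg]
      exact (budget_a_sub c F hAS hAT hi).trans (le_of_eq sT)) (by linarith))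
  have ha0 : a = 0 := by omega
  rw [ha0, add_zero] at hparT
  have h1 : (1 : ℝ) ≤ (cT : ℝ) ^ 2 := by
    have hne : cT ≠ 0 := by rintro rfl; omega
    have : (1 : ℤ) ≤ cT ^ 2 := sq_pos_of_ne_zero hne
    exact_mod_cast this
  refine le_trans ?_ hcT
  gcongr
  nlinarith

end Cfsg.Lib.OddOrder
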