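import Mathlib.Analysis.Complex.Basic
import Cfsg.Prelude.Def_OddOrderLocal

/-!
# One side of a pair of maximal subgroups of type P

What the character theory of the odd order theorem uses of one member `M` of a pair (notes/ft_main.md,
section 1): normal subgroups `K₀ ≤ N` of `M` with abelian quotient on which `W₁` fixes just the image of
`W₂`, and a fixed-point-free abelian group of order `u` permuting the `W₁`-fixed characters regularly.
-/

set_option autoImplicit false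

namespace Cfsg.Lib.OddOrder

universe u'

variable {G : Type u'} [Group G]

/-- A linear character of `N` is invariant under `m`. -/
def InvariantHom (N : Subgroup G) (φ : N →* ℂˣ) (m : G) : Prop :=
  ∀ x y : N, (y : G) = m * x * m⁻¹ → φ y = φ x

/-- A side of a pair, with the normal subgroups `K₀ ≤ N` and the number `u`. -/
structure Side (M W₁ W₂ N K₀ : Subgroup G) (u : ℕ) : Prop where
  coatom : IsCoatom M
  N_le : N ≤ M
  N_normal : M ≤ Subgroup.normalizer (N : Set G)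
  K₀_le : K₀ ≤ N
  K₀_normal : M ≤ Subgroup.normalizer (K₀ : Set G)
  derived_le : ⁅N, N⁆ ≤ K₀
  W₁_le : W₁ ≤ M
  W₁_prime : (Nat.card W₁).Prime
  W₂_prime : (Nat.card W₂).Prime
  card_ne : Nat.card W₁ ≠ Nat.card W₂
  W₁_coprime : (Nat.card W₁).Coprime (Nat.card N)
  centralizer_eq : ∀ w ∈ W₁, w ≠ 1 → N ⊓ Subgroup.centralizer ({w} : Set G) = W₂
  W₂_inf : W₂ ⊓ K₀ = ⊥
  centralizer_le : ∀ x ∈ W₂, x ≠ 1 → Subgroup.centralizer ({x} : Set G) ≤ M
  card_eq : Nat.card M = Nat.card W₁ * u * Nat.card N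
  /-- A nontrivial `W₁`-invariant linear character of `N / K₀` has stabiliser `N W₁`. -/
  stab : ∀ φ : N →* ℂˣ, (∀ x : N, (x : G) ∈ K₀ → φ x = 1) → φ ≠ 1 → (∀ w ∈ W₁, InvariantHom N φ w) →
    ∀ m ∈ M, InvariantHom N φ m → m ∈ N ⊔ W₁
  /-- `N W₁` is its own normaliser in `M`. -/
  normalizer_le : ∀ m ∈ M, (∀ w ∈ W₁, m * w * m⁻¹ ∈ N ⊔ W₁) → m ∈ N ⊔ W₁
  subset_A0 : (N : Set G) \ (K₀ : Set G) ⊆ Cfsg.typeA0 M

/-- The side is as large as possible: `u = (p ^ q - 1) / (p - 1)` and `N / K₀` has order `p ^ q`. -/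
def Side.IsFull (W₁ W₂ N K₀ : Subgroup G) (u : ℕ) : Prop :=
  u * (Nat.card W₂ - 1) + 1 = Nat.card W₂ ^ Nat.card W₁ ∧ K₀.relIndex N = Nat.card W₂ ^ Nat.card W₁

theorem Side.W₂_le {M W₁ W₂ N K₀ : Subgroup G} {u : ℕ} (h : Side M W₁ W₂ N K₀ u) : W₂ ≤ N := by
  obtain ⟨w, hw, hw1⟩ := W₁.bot_or_exists_ne_one.resolve_left fun e =>
    h.W₁_prime.ne_one (by rw [e, Subgroup.card_bot])
  exact (h.centralizer_eq w hw hw1).ge.trans inf_le_left

end Cfsg.Lib.OddOrder
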