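import Cfsg.Agent.Lib.OddOrder.SideData

/-!
# The group acting on the chief factor of a side

`U / D`, with `D` the part of `U` trivial on `V = H / C_H (U)`, and `W₁` give the data of `SideBound`; so
`(p - 1) |U / D| + 1` is `p ^ q` or at most a third of it.
-/

set_option autoImplicit false
set_option linter.style.haveILetI false

namespace Cfsg.Lib.OddOrder

open Subgroup Cfsg
open Cfsg.Lib.Local.Sigma
open scoped commutatorElement

universe u

variable {G : Type u} [Group G]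

theorem subgroupOf_normal_of {A B : Subgroup G} (hA : A ≤ normalizer (B : Set G)) : (B.subgroupOf A).Normal :=
  ⟨fun n hn g => (mem_normalizer_iff.1 (hA g.2) n).1 hn⟩

/-- Conjugation by an element normalising `A` and `B`, on `A / B`. -/
noncomputable def conjQ (A B : Subgroup G) [(B.subgroupOf A).Normal] :
    ↥(normalizer (A : Set G) ⊓ normalizer (B : Set G)) →* MulAut (↥A ⧸ B.subgroupOf A) where
  toFun g := QuotientGroup.congr _ _ (normalizerMonoidHom A ⟨g, g.2.1⟩) (by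
    ext x
    simp only [mem_map, mem_subgroupOf]
    constructor
    · rintro ⟨y, hy, rfl⟩
      exact (mem_normalizer_iff.1 g.2.2 y).1 hy
    · intro hx
      refine ⟨(normalizerMonoidHom A ⟨g, g.2.1⟩).symm x, ?_, (normalizerMonoidHom A ⟨g, g.2.1⟩).apply_symm_apply x⟩
      refine (mem_normalizer_iff.1 g.2.2 _).2 ?_
      have h := congrArg (fun z : A => (z : G)) ((normalizerMonoidHom A ⟨g, g.2.1⟩).apply_symm_apply x)
      rwa [show (g : G) * ((normalizerMonoidHom A ⟨g, g.2.1⟩).symm x : A) * (g : G)⁻¹ = x from h])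
  map_one' := MulEquiv.ext fun z => by
    obtain ⟨x, rfl⟩ := QuotientGroup.mk'_surjective _ z
    exact congrArg (QuotientGroup.mk' _) (Subtype.ext (show (1 : G) * x * (1 : G)⁻¹ = x by simp))
  map_mul' g k := MulEquiv.ext fun z => by
    obtain ⟨x, rfl⟩ := QuotientGroup.mk'_surjective _ z
    exact congrArg (QuotientGroup.mk' _) (Subtype.ext
      (show (g : G) * k * x * ((g : G) * k)⁻¹ = g * (k * x * (k : G)⁻¹) * (g : G)⁻¹ by group))

theorem conjQ_mk (A B : Subgroup G) [(B.subgroupOf A).Normal]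
    (g : ↥(normalizer (A : Set G) ⊓ normalizer (B : Set G))) (x : A) :
    conjQ A B g (x : ↥A ⧸ B.subgroupOf A) =
      ((⟨g * x * (g : G)⁻¹, (mem_normalizer_iff.1 g.2.1 _).1 x.2⟩ : A) : ↥A ⧸ B.subgroupOf A) :=
  congrArg (QuotientGroup.mk' _) (Subtype.ext rfl)

/-- A quotient by a subgroup containing the commutators is commutative. -/
theorem quotient_comm {A B : Subgroup G} [(B.subgroupOf A).Normal] (h : ⁅A, A⁆ ≤ B)
    (x y : ↥A ⧸ B.subgroupOf A) : x * y = y * x := by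
  obtain ⟨a, rfl⟩ := QuotientGroup.mk'_surjective _ x
  obtain ⟨b, rfl⟩ := QuotientGroup.mk'_surjective _ y
  rw [← map_mul, ← map_mul]
  refine QuotientGroup.eq.2 (mem_subgroupOf.2 (h ?_))
  have he : (((a * b)⁻¹ * (b * a) : A) : G) = ⁅(b : G)⁻¹, (a : G)⁻¹⁆ := by
    simp [commutatorElement_def, mul_assoc]
  rw [he]
  exact commutator_mem_commutator (inv_mem b.2) (inv_mem a.2)

variable [Finite G] {M W₁ U W₂ : Subgroup G}

namespace SideHyp

omit [Finite G] in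
theorem D_le (_h : SideHyp M W₁ U W₂) : sideD M U ≤ U := inf_le_left

theorem derived_U_le_D (h : SideHyp M W₁ U W₂) : ⁅U, U⁆ ≤ sideD M U := by
  intro x hx
  have hxU : x ∈ U := Cfsg.Lib.Coprime.commutator_le_of_le_normalizer Subgroup.le_normalizer hx
  refine ⟨hxU, ⟨h.M_le_normalizer_H (h.U_le hxU), h.factor.1 (h.U_le hxU)⟩, fun y hy => ?_⟩
  rw [commutatorElement_eq_one_iff_mul_comm.2
    (mem_centralizer_iff.1 (Cfsg.Lib.Local.TypeP.derived_U_le_centralizer h.typeP hx) y hy).symm]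
  exact one_mem _

theorem le_normalizer_D (h : SideHyp M W₁ U W₂) {g : G} (hg : g ∈ M) (hgU : g ∈ normalizer (U : Set G)) :
    g ∈ normalizer (sideD M U : Set G) :=
  inf_normalizer_le_normalizer_inf
    ⟨hgU, normalizer_le_chiefKer ⟨h.M_le_normalizer_H hg, h.factor.1 hg⟩⟩

/-- Only the identity coset of `U / D` is fixed by `W₁`. -/
theorem mem_D_of_fixed (h : SideHyp M W₁ U W₂) {x : G} (hx : x ∈ U) (hfix : ∀ w ∈ W₁, ⁅x, w⁆ ∈ sideD M U) :
    x ∈ sideD M U := by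
  obtain ⟨n, hn, c, hc, rfl⟩ := Cfsg.Lib.Coprime.exists_mul_centralizer_of_commutator_mem h.typeP.U_normal
    h.coprime_W₁U (Or.inr (Cfsg.Lib.Coprime.isSolvable_of_le h.U_le (h.minSimple.2.2.2 M h.coatom.1)))
    h.D_le (fun w hw => h.le_normalizer_D (h.W₁_le hw) (h.typeP.U_normal hw)) hx hfix
  obtain ⟨w, hw, hw1⟩ := h.W₁_elem
  rw [h.free_U hc.1 hw hw1 (mem_centralizer_iff.1 hc.2 w hw).symm, mul_one]
  exact hn

/-- The bound on `u = |U : D|`, and what the extreme case gives. -/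
theorem u_cases (h : SideHyp M W₁ U W₂) :
    ((sideD M U).relIndex U * (Nat.card W₂ - 1) + 1 = Nat.card W₂ ^ Nat.card W₁ ∧
      (∀ x ∈ fittingHallOf M, x ∉ sideH₀ M U → ∀ y ∈ fittingHallOf M, y ∉ sideH₀ M U →
        ∃ v ∈ U, ∃ c : ℕ, (v * x * v⁻¹) ^ c * y⁻¹ ∈ sideH₀ M U) ∧
      ∀ v ∈ U, ∀ c : ℕ, ∀ x ∈ fittingHallOf M, x ∉ sideH₀ M U →
        v * x * v⁻¹ * (x ^ c)⁻¹ ∈ sideH₀ M U → v ∈ sideD M U) ∨
      3 * (sideD M U).relIndex U * (Nat.card W₂ - 1) + 1 ≤ Nat.card W₂ ^ Nat.card W₁ := by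
  classical
  obtain ⟨hMn, hder, hlt, -, hidx, hmax⟩ := h.factor
  set H := fittingHallOf M with hH
  set H₀ := sideH₀ M U with hH₀
  set D := sideD M U with hD
  set p := Nat.card W₂ with hp
  set q := Nat.card W₁ with hq
  haveI : Fact p.Prime := ⟨h.p_prime⟩
  haveI : (H₀.subgroupOf H).Normal := subgroupOf_normal_of ((h.H_le_derived.trans h.derived_le).trans hMn)
  have hUD : U ≤ normalizer (D : Set G) := fun g hg => h.le_normalizer_D (h.U_le hg) (Subgroup.le_normalizer hg)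
  haveI : (D.subgroupOf U).Normal := subgroupOf_normal_of hUD
  letI : CommGroup (↥H ⧸ H₀.subgroupOf H) :=
    { (inferInstance : Group (↥H ⧸ H₀.subgroupOf H)) with mul_comm := quotient_comm hder }
  letI : CommGroup (↥U ⧸ D.subgroupOf U) :=
    { (inferInstance : Group (↥U ⧸ D.subgroupOf U)) with mul_comm := quotient_comm h.derived_U_le_D }
  have hUN : U ≤ normalizer (H : Set G) ⊓ normalizer (H₀ : Set G) := fun g hg =>
    ⟨h.M_le_normalizer_H (h.U_le hg), hMn (h.U_le hg)⟩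
  have hker : D.subgroupOf U ≤ ((conjQ H H₀).comp (inclusion hUN)).ker := by
    intro g hg
    refine MonoidHom.mem_ker.2 (MulEquiv.ext fun z => ?_)
    obtain ⟨x, rfl⟩ := QuotientGroup.mk_surjective z
    rw [MonoidHom.comp_apply, conjQ_mk, MulAut.one_apply]
    refine QuotientGroup.eq.2 (mem_subgroupOf.2 ?_)
    have hx1 : (g : G) * x * (g : G)⁻¹ ∈ H := (mem_normalizer_iff.1 (hUN g.2).1 _).1 x.2
    have h2 := (mem_subgroupOf.1 hg).2.2 x x.2
    rw [commutatorElement_def] at h2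
    have h3 : ((g : G) * x * (g : G)⁻¹)⁻¹ * x =
        ((g : G) * x * (g : G)⁻¹)⁻¹ * (((g : G) * x * (g : G)⁻¹ * (x : G)⁻¹))⁻¹ *
          ((g : G) * x * (g : G)⁻¹) := by group
    show ((g : G) * x * (g : G)⁻¹)⁻¹ * x ∈ H₀
    rw [h3]
    exact (mem_normalizer_iff''.1 ((h.H_le_derived.trans h.derived_le).trans hMn hx1) _).1 (inv_mem h2)
  let ρ : ↥U ⧸ D.subgroupOf U →* MulAut (↥H ⧸ H₀.subgroupOf H) := QuotientGroup.lift _ _ hker
  have hρ : ∀ (g : U) (x : H), ρ (g : ↥U ⧸ D.subgroupOf U) (x : ↥H ⧸ H₀.subgroupOf H) =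
      ((⟨g * x * (g : G)⁻¹, (mem_normalizer_iff.1 (hUN g.2).1 _).1 x.2⟩ : H) : ↥H ⧸ H₀.subgroupOf H) :=
    fun g x => conjQ_mk H H₀ (inclusion hUN g) x
  obtain ⟨⟨w, hw⟩, hgen⟩ := h.typeP.W₁_cyclic.exists_generator
  have hwz : ∀ v ∈ W₁, v ∈ zpowers w := fun v hv => by
    obtain ⟨k, hk⟩ := mem_zpowers_iff.1 (hgen ⟨v, hv⟩)
    exact ⟨k, congrArg Subtype.val hk⟩
  have hwH : w ∈ normalizer (H : Set G) ⊓ normalizer (H₀ : Set G) :=
    ⟨h.M_le_normalizer_H (h.W₁_le hw), hMn (h.W₁_le hw)⟩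
  have hwU : w ∈ normalizer (U : Set G) ⊓ normalizer (D : Set G) :=
    ⟨h.typeP.U_normal hw, h.le_normalizer_D (h.W₁_le hw) (h.typeP.U_normal hw)⟩
  have hwq : w ^ q = 1 := congrArg Subtype.val (pow_card_eq_one' (x := (⟨w, hw⟩ : W₁)))
  have hinj : Function.Injective ρ := by
    refine (MonoidHom.ker_eq_bot_iff ρ).1 (eq_bot_iff.2 fun a ha => ?_)
    obtain ⟨g, rfl⟩ := QuotientGroup.mk_surjective a
    refine mem_bot.2 ((QuotientGroup.eq_one_iff g).2 (mem_subgroupOf.2 ⟨g.2, hUN g.2, fun y hy => ?_⟩))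
    have h1 := DFunLike.congr_fun (MonoidHom.mem_ker.1 ha) ((⟨y, hy⟩ : H) : ↥H ⧸ H₀.subgroupOf H)
    rw [hρ, MulAut.one_apply] at h1
    have h2 := mem_subgroupOf.1 (QuotientGroup.eq.1 h1.symm)
    change y⁻¹ * ((g : G) * y * (g : G)⁻¹) ∈ H₀ at h2
    rw [show ⁅(g : G), y⁆ = y * (y⁻¹ * ((g : G) * y * (g : G)⁻¹)) * y⁻¹ by
      simp [commutatorElement_def, mul_assoc]]
    exact (mem_normalizer_iff.1 ((h.H_le_derived.trans h.derived_le).trans hMn hy) _).1 h2
  have hirr : ∀ W : Subgroup (↥H ⧸ H₀.subgroupOf H), (∀ a, ∀ x ∈ W, ρ a x ∈ W) →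
      (∀ x ∈ W, conjQ H H₀ ⟨w, hwH⟩ x ∈ W) → W = ⊥ ∨ W = ⊤ := by
    intro W hW hWσ
    set Y := (W.comap (QuotientGroup.mk' (H₀.subgroupOf H))).map H.subtype with hY
    have hmem : ∀ x : H, (x : G) ∈ Y ↔ (x : ↥H ⧸ H₀.subgroupOf H) ∈ W := fun x =>
      ⟨fun ⟨y, hy, hye⟩ => Subtype.ext hye ▸ hy, fun hx => ⟨x, hx, rfl⟩⟩
    have hYH : Y ≤ H := map_subtype_le _
    have h0Y : H₀ ≤ Y := fun x hx => (hmem ⟨x, hlt.le hx⟩).2
      (by rw [(QuotientGroup.eq_one_iff _).2 (mem_subgroupOf.2 hx)]; exact one_mem W)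
    have hHY : H ≤ normalizer (Y : Set G) := fun g hg => mem_normalizer_of_forall fun x hx => by
      rw [show g * x * g⁻¹ = ⁅g, x⁆ * x by simp [commutatorElement_def, mul_assoc]]
      exact mul_mem (h0Y (hder (commutator_mem_commutator hg (hYH hx)))) hx
    have hUY : U ≤ normalizer (Y : Set G) := fun g hg => mem_normalizer_of_forall fun x hx => by
      have h1 := hW ((⟨g, hg⟩ : U) : ↥U ⧸ D.subgroupOf U) _ ((hmem ⟨x, hYH hx⟩).1 hx)
      rw [hρ] at h1
      exact (hmem _).2 h1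
    have hwY : w ∈ normalizer (Y : Set G) := mem_normalizer_of_forall fun x hx => by
      have h1 := hWσ _ ((hmem ⟨x, hYH hx⟩).1 hx)
      rw [conjQ_mk] at h1
      exact (hmem _).2 h1
    rcases hmax Y h0Y hYH (h.le_of_parts hHY hUY fun v hv => zpowers_le.2 hwY (hwz v hv)) with he | he
    · refine Or.inl (eq_bot_iff.2 fun z hz => ?_)
      obtain ⟨x, rfl⟩ := QuotientGroup.mk_surjective z
      exact mem_bot.2 ((QuotientGroup.eq_one_iff _).2 (mem_subgroupOf.2 (he.le ((hmem x).2 hz))))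
    · refine Or.inr (eq_top_iff.2 fun z _ => ?_)
      obtain ⟨x, rfl⟩ := QuotientGroup.mk_surjective z
      exact (hmem x).1 (he.ge x.2)
  have hcomm : ∀ a z, conjQ H H₀ ⟨w, hwH⟩ (ρ a z) =
      ρ (conjQ U D ⟨w, hwU⟩ a) (conjQ H H₀ ⟨w, hwH⟩ z) := by
    intro a z
    obtain ⟨g, rfl⟩ := QuotientGroup.mk_surjective a
    obtain ⟨x, rfl⟩ := QuotientGroup.mk_surjective z
    simp only [hρ, conjQ_mk]
    exact congrArg (QuotientGroup.mk' _) (Subtype.ext (by simp [mul_assoc]))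
  have hVcard : Nat.card (↥H ⧸ H₀.subgroupOf H) = p ^ q := by
    rw [← Subgroup.index_eq_card]; exact hidx
  have hexp : ∀ z : ↥H ⧸ H₀.subgroupOf H, z ^ p = 1 := by
    have hdvd : p ∣ Nat.card (↥H ⧸ H₀.subgroupOf H) := hVcard ▸ dvd_pow_self p h.q_prime.pos.ne'
    obtain ⟨z₀, hz₀⟩ := exists_prime_orderOf_dvd_card' p hdvd
    rcases hirr (powMonoidHom p).range (fun a x hx => by
        obtain ⟨y, rfl⟩ := hx
        exact ⟨ρ a y, (map_pow (ρ a) y p).symm⟩) (fun x hx => by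
        obtain ⟨y, rfl⟩ := hx
        exact ⟨conjQ H H₀ ⟨w, hwH⟩ y, (map_pow (conjQ H H₀ ⟨w, hwH⟩) y p).symm⟩) with he | he
    · exact fun z => mem_bot.1 (he.le ⟨z, rfl⟩)
    · have hb : Function.Injective (powMonoidHom p : (↥H ⧸ H₀.subgroupOf H) →* _) :=
        Finite.injective_iff_surjective.2 (MonoidHom.range_eq_top.1 he)
      have : z₀ = 1 := hb (by simp only [powMonoidHom_apply, one_pow, ← hz₀, pow_orderOf_eq_one])
      rw [this, orderOf_one] at hz₀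
      exact absurd hz₀.symm h.p_prime.ne_one
  have hfree : ∀ a, conjQ U D ⟨w, hwU⟩ a = a → a = 1 := by
    intro a ha
    obtain ⟨g, rfl⟩ := QuotientGroup.mk_surjective a
    refine (QuotientGroup.eq_one_iff g).2 (mem_subgroupOf.2 (h.mem_D_of_fixed g.2 fun v hv => ?_))
    have hv' : v ∈ normalizer (U : Set G) ⊓ normalizer (D : Set G) :=
      ⟨h.typeP.U_normal hv, h.le_normalizer_D (h.W₁_le hv) (h.typeP.U_normal hv)⟩
    obtain ⟨k, hk⟩ := hwz v hv
    have hfix : conjQ U D ⟨v, hv'⟩ (g : ↥U ⧸ D.subgroupOf U) = g := by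
      rw [show (⟨v, hv'⟩ : ↥(normalizer (U : Set G) ⊓ normalizer (D : Set G))) = ⟨w, hwU⟩ ^ k from
        Subtype.ext (hk.symm.trans (SubgroupClass.coe_zpow (⟨w, hwU⟩ : ↥(normalizer (U : Set G) ⊓ normalizer (D : Set G))) k).symm),
        map_zpow]
      have hst : conjQ U D ⟨w, hwU⟩ ∈ MulAction.stabilizer (MulAut (↥U ⧸ D.subgroupOf U))
          (g : ↥U ⧸ D.subgroupOf U) := ha
      exact zpow_mem hst k
    rw [conjQ_mk] at hfix
    have h2 := mem_subgroupOf.1 (QuotientGroup.eq.1 hfix)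
    change (v * (g : G) * v⁻¹)⁻¹ * g ∈ D at h2
    have hg' : v * (g : G) * v⁻¹ ∈ U := (mem_normalizer_iff.1 hv'.1 _).1 g.2
    rw [show ⁅(g : G), v⁆ = (v * (g : G) * v⁻¹) * ((v * (g : G) * v⁻¹)⁻¹ * g) * (v * (g : G) * v⁻¹)⁻¹ by
      simp [commutatorElement_def, mul_assoc]]
    exact (mem_normalizer_iff.1 (hUD hg') _).1 h2
  have hdata : SideBound.Data p q ρ (conjQ H H₀ ⟨w, hwH⟩) (conjQ U D ⟨w, hwU⟩) :=
    { p_prime := h.p_prime
      q_prime := h.q_prime
      p_odd := Cfsg.Lib.Local.Uniq.odd_subgroup h.minSimple W₂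
      q_odd := Cfsg.Lib.Local.Uniq.odd_subgroup h.minSimple W₁
      exponent := hexp
      card := hVcard
      odd := Odd.of_dvd_nat (Cfsg.Lib.Local.Uniq.odd_subgroup h.minSimple U) (card_quotient_dvd_card _)
      injective := hinj
      σ_pow := by
        rw [← map_pow, show (⟨w, hwH⟩ : ↥(normalizer (H : Set G) ⊓ normalizer (H₀ : Set G))) ^ q = 1 from
          Subtype.ext (by simpa using hwq), map_one]
      α_pow := by
        rw [← map_pow, show (⟨w, hwU⟩ : ↥(normalizer (U : Set G) ⊓ normalizer (D : Set G))) ^ q = 1 from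
          Subtype.ext (by simpa using hwq), map_one]
      comm := hcomm
      α_free := hfree
      irr := hirr }
  have hA : Nat.card (↥U ⧸ D.subgroupOf U) = D.relIndex U := (Subgroup.index_eq_card _).symm
  rcases SideBound.dichotomy hdata with ⟨hfull, hfr⟩ | hle
  · refine Or.inl ⟨hA ▸ hfull, fun x hx hx0 y hy hy0 => ?_, fun v hv c x hx hx0 hvc => ?_⟩
    · have hne : ∀ z : H, (z : G) ∉ H₀ → (z : ↥H ⧸ H₀.subgroupOf H) ≠ 1 := fun z hz e =>
        hz (mem_subgroupOf.1 ((QuotientGroup.eq_one_iff z).1 e))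
      obtain ⟨a, c, hac⟩ := SideBound.transitive_of_full hdata hfr hfull (hne ⟨x, hx⟩ hx0) (hne ⟨y, hy⟩ hy0)
      obtain ⟨v, rfl⟩ := QuotientGroup.mk_surjective a
      refine ⟨v, v.2, c, ?_⟩
      rw [hρ, ← QuotientGroup.mk_pow] at hac
      have h2 := mem_subgroupOf.1 (QuotientGroup.eq.1 hac.symm)
      change y⁻¹ * ((v : G) * x * (v : G)⁻¹) ^ c ∈ H₀ at h2
      have h3 := (mem_normalizer_iff.1 ((h.H_le_derived.trans h.derived_le).trans hMn hy) _).1 h2
      rwa [mul_inv_cancel_left] at h3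
    · have h1 : ρ ((⟨v, hv⟩ : U) : ↥U ⧸ D.subgroupOf U) ((⟨x, hx⟩ : H) : ↥H ⧸ H₀.subgroupOf H) =
          ((⟨x, hx⟩ : H) : ↥H ⧸ H₀.subgroupOf H) ^ c := by
        rw [hρ, ← QuotientGroup.mk_pow]
        refine QuotientGroup.eq.2 (mem_subgroupOf.2 ?_)
        have hvx : v * x * v⁻¹ ∈ H := (mem_normalizer_iff.1 (hUN hv).1 _).1 hx
        show (v * x * v⁻¹)⁻¹ * x ^ c ∈ H₀
        have h3 := (mem_normalizer_iff''.1 ((h.H_le_derived.trans h.derived_le).trans hMn hvx) _).1 (inv_mem hvc)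
        convert h3 using 1
        group
      exact mem_subgroupOf.1 ((QuotientGroup.eq_one_iff _).1 (hfr _ c _ (fun e =>
        hx0 (mem_subgroupOf.1 ((QuotientGroup.eq_one_iff _).1 e))) h1))
  · exact Or.inr (hA ▸ hle)

end SideHyp

end Cfsg.Lib.OddOrder
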