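import Cfsg.Agent.Lib.OddOrder.SideFixed
import Cfsg.Agent.Lib.Char.FT.Projection
import Cfsg.Agent.Lib.Local.Sigma.SupportR
import Cfsg.Agent.S1501

/-!
# The coefficients of a class function on one side

With `A = N ∖ K₀` and `τ` the Dade map of `A`: the numbers `a φ = ⟨τ (Ind (φ - 1)), χ⟩`, their relation to the
first two moments of `χ` on the support, and their congruence at the elements of `W₂`.
-/

set_option autoImplicit false
set_option linter.unusedSectionVars false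
set_option linter.style.haveILetI false

namespace Cfsg.Lib.OddOrder

open Cfsg Cfsg.Lib.Char Cfsg.Lib.Char.FT
open scoped ComplexConjugate Classical

universe u'

/-- A nontrivial linear character sums to zero. -/
theorem sum_hom_eq_zero {X : Type*} [Group X] [Fintype X] {f : X →* ℂˣ} (hf : f ≠ 1) :
    ∑ x, (f x : ℂ) = 0 := by
  obtain ⟨x₀, hx₀⟩ : ∃ x₀, f x₀ ≠ 1 := by
    by_contra hall
    push Not at hall
    exact hf (MonoidHom.ext hall)
  have e : (f x₀ : ℂ) * ∑ x, (f x : ℂ) = ∑ x, (f x : ℂ) := by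
    rw [Finset.mul_sum]
    exact Fintype.sum_equiv (Equiv.mulLeft x₀) _ _ fun x => by simp [map_mul]
  have h1 : (f x₀ : ℂ) ≠ 1 := fun e' => hx₀ (Units.ext e')
  by_contra h3
  exact h1 (mul_right_cancel₀ h3 (by rw [e, one_mul]))

theorem conj_hom {X : Type*} [Group X] [Finite X] (f : X →* ℂˣ) (x : X) : conj (f x : ℂ) = (f x⁻¹ : ℂ) :=
  ((isIrrCharacter_linear f).isCharacter.apply_inv x).symm

variable {G : Type u'} [Group G] [Fintype G] {M W₁ W₂ N K₀ : Subgroup G} [Fintype M] {u : ℕ}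

/-- The set `N ∖ K₀`. -/
def sideSet (N K₀ : Subgroup G) : Set G := (N : Set G) \ (K₀ : Set G)

theorem Side.dade (h : Side M W₁ W₂ N K₀ u)
    (hD : DadeHypothesis (Cfsg.typeA0 M) M (Cfsg.supportR M)) :
    DadeHypothesis (sideSet N K₀) M (Cfsg.supportR M) := by
  have hsub : sideSet N K₀ ⊆ Cfsg.typeA0 M := h.subset_A0
  refine ⟨fun h1 => hD.one_not_mem (hsub h1), fun a ha => h.N_le ha.1, fun x hx a ha => ?_,
    fun a ha g hg => hD.fusion a (hsub ha) g (hsub hg), fun a ha => hD.le_centralizer a (hsub ha),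
    fun a ha => hD.conj_mem_H a (hsub ha), fun a ha => hD.inf_eq_bot a (hsub ha),
    fun a ha => hD.sup_eq a (hsub ha), fun a ha b hb => hD.coprime a (hsub ha) b (hsub hb)⟩
  refine ⟨h.conj_mem hx ha.1, fun hK => ha.2 ?_⟩
  have := h.conj_mem_K (inv_mem hx) hK
  rwa [show x⁻¹ * (x * a * x⁻¹) * x⁻¹⁻¹ = a by group] at this

/-- The test function `Ind (φ - 1)`. -/
noncomputable def sideTest (φ : SDual M N K₀) : M → ℂ :=
  indFun (N.subgroupOf M) (sfun φ - fun _ => 1)

theorem Side.sideTest_support (h : Side M W₁ W₂ N K₀ u) (φ : SDual M N K₀) {x : M}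
    (hx : (x : G) ∉ sideSet N K₀) : sideTest φ x = 0 := by
  haveI := h.normal
  by_cases hN : x ∈ N.subgroupOf M
  · have hK : (x : G) ∈ K₀ := by
      by_contra hK
      exact hx ⟨Subgroup.mem_subgroupOf.1 hN, hK⟩
    unfold sideTest
    rw [indFun_normal_apply _ _ ⟨x, hN⟩]
    refine mul_eq_zero_of_right _ (Finset.sum_eq_zero fun y _ => ?_)
    have : ((y : G) * (x : G) * (y : G)⁻¹) ∈ K₀ := h.conj_mem_K y.2 hK
    simp only [Pi.sub_apply, sfun]
    rw [φ.2 _ (by simpa using this), Units.val_one, sub_self]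
  · exact indFun_normal_of_notMem _ _ hN

theorem isClassFunction_sideTest (φ : SDual M N K₀) : IsClassFunction M (sideTest φ) :=
  isClassFunction_indFun _ _

theorem isGeneralized_sideTest (φ : SDual M N K₀) : IsGeneralizedCharacter M (sideTest φ) := by
  haveI := Fintype.ofFinite ↥(N.subgroupOf M)
  exact isGeneralizedCharacter_indFun _
    ((isIrrCharacter_linear φ.1).isGeneralized.sub isIrrCharacter_one.isGeneralized)

/-- The coefficient of `χ` at `φ`. -/
noncomputable def sideCoef (χ : G → ℂ) (φ : SDual M N K₀) : ℂ :=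
  classInner (dadeIsometry (sideSet N K₀) M (Cfsg.supportR M) (sideTest φ)) χ

/-- `χ` averaged on `N`. -/
noncomputable def sideRes (M N K₀ : Subgroup G) (χ : G → ℂ) : ↥(N.subgroupOf M) → ℂ :=
  fun x => dadeProj (sideSet N K₀) M (Cfsg.supportR M) χ x

/-- The Fourier coefficient of the averaged `χ`. -/
noncomputable def sideFour [Fintype ↥(N.subgroupOf M)] (χ : G → ℂ) (φ : SDual M N K₀) : ℂ :=
  classInner (sfun φ) (sideRes M N K₀ χ)

variable [Fintype ↥(N.subgroupOf M)]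

theorem sideCoef_eq (h : Side M W₁ W₂ N K₀ u) (hA : DadeHypothesis (sideSet N K₀) M (Cfsg.supportR M))
    {χ : G → ℂ} (hχ : IsClassFunction G χ) (φ : SDual M N K₀) :
    sideCoef χ φ = sideFour χ φ - sideFour χ (sdual1 M N K₀) := by
  rw [sideCoef, classInner_dade_proj hA (isClassFunction_sideTest φ) (fun x hx => h.sideTest_support φ hx) hχ,
    sideTest, classInner_indFun _ _ (isClassFunction_dadeProj hA hχ), classInner_sub_left]
  rfl

theorem sideCoef_sdual1 (h : Side M W₁ W₂ N K₀ u) (hA : DadeHypothesis (sideSet N K₀) M (Cfsg.supportR M))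
    {χ : G → ℂ} (hχ : IsClassFunction G χ) : sideCoef χ (sdual1 M N K₀) = 0 := by
  rw [sideCoef_eq h hA hχ, sub_self]

theorem exists_int_sideCoef (h : Side M W₁ W₂ N K₀ u)
    (hA : DadeHypothesis (sideSet N K₀) M (Cfsg.supportR M)) {χ : G → ℂ} (hχ : IsGeneralizedCharacter G χ)
    (φ : SDual M N K₀) : ∃ n : ℤ, sideCoef χ φ = n :=
  (Cfsg.Agent.S1501.result _ M _ hA _ (isGeneralized_sideTest φ)
    (fun _ hx => h.sideTest_support φ hx)).exists_int_classInner hχ

/-- The averaged function is invariant under `M`. -/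
theorem sideRes_invariant (hA : DadeHypothesis (sideSet N K₀) M (Cfsg.supportR M)) {χ : G → ℂ}
    (hχ : IsClassFunction G χ) {m : G} (hm : m ∈ M) {x y : ↥(N.subgroupOf M)}
    (e : ((y : M) : G) = m * ((x : M) : G) * m⁻¹) : sideRes M N K₀ χ y = sideRes M N K₀ χ x := by
  show dadeProj _ M _ χ (y : M) = dadeProj _ M _ χ (x : M)
  rw [show (y : M) = ⟨m, hm⟩ * (x : M) * (⟨m, hm⟩ : M)⁻¹ from Subtype.ext e]
  exact isClassFunction_dadeProj hA hχ _ _

theorem sideFour_conjDual (h : Side M W₁ W₂ N K₀ u) (hA : DadeHypothesis (sideSet N K₀) M (Cfsg.supportR M))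
    {χ : G → ℂ} (hχ : IsClassFunction G χ) (m : M) (φ : SDual M N K₀) :
    sideFour χ (h.conjDual m φ) = sideFour χ φ := by
  unfold sideFour classInner
  congr 1
  let e : ↥(N.subgroupOf M) ≃ ↥(N.subgroupOf M) :=
    { toFun := fun x => ⟨m⁻¹ * (x : M) * m, by simpa using h.normal.conj_mem _ x.2 m⁻¹⟩
      invFun := fun x => ⟨m * (x : M) * m⁻¹, h.normal.conj_mem _ x.2 m⟩
      left_inv := fun x => Subtype.ext (show m * (m⁻¹ * (x : M) * m) * m⁻¹ = x by group)
      right_inv := fun x => Subtype.ext (show m⁻¹ * (m * (x : M) * m⁻¹) * m = x by group) }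
  refine Fintype.sum_equiv e _ _ fun x => ?_
  congr 1
  exact congrArg conj (sideRes_invariant hA hχ (m := (m : G)) m.2 (by simp [e, mul_assoc]))

theorem sideCoef_conjDual (h : Side M W₁ W₂ N K₀ u) (hA : DadeHypothesis (sideSet N K₀) M (Cfsg.supportR M))
    {χ : G → ℂ} (hχ : IsClassFunction G χ) (m : M) (φ : SDual M N K₀) :
    sideCoef χ (h.conjDual m φ) = sideCoef χ φ := by
  rw [sideCoef_eq h hA hχ, sideCoef_eq h hA hχ, sideFour_conjDual h hA hχ]

/-- The members separate the cosets of `K₀`. -/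
theorem Side.sum_sfun_eq_zero [Fintype (SDual M N K₀)] (h : Side M W₁ W₂ N K₀ u) {x : ↥(N.subgroupOf M)}
    (hx : ((x : M) : G) ∉ K₀) : ∑ φ : SDual M N K₀, sfun φ x = 0 := by
  obtain ⟨φ₀, hφ₀⟩ := h.exists_apply_ne_one (Subgroup.mem_subgroupOf.1 x.2) hx
  have hφ₀' : φ₀.1 x ≠ 1 := hφ₀
  have e : (φ₀.1 x : ℂ) * ∑ φ : SDual M N K₀, sfun φ x = ∑ φ : SDual M N K₀, sfun φ x := by
    rw [Finset.mul_sum]
    let e : SDual M N K₀ ≃ SDual M N K₀ :=
      { toFun := fun φ => ⟨φ₀.1 * φ.1, fun y hy => by simp [φ₀.2 y hy, φ.2 y hy]⟩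
        invFun := fun φ => ⟨φ₀.1⁻¹ * φ.1, fun y hy => by simp [φ₀.2 y hy, φ.2 y hy]⟩
        left_inv := fun φ => Subtype.ext (MonoidHom.ext fun y => by simp)
        right_inv := fun φ => Subtype.ext (MonoidHom.ext fun y => by simp) }
    refine Fintype.sum_equiv e _ _ fun φ => ?_
    simp [sfun, e]
  have h1 : (φ₀.1 x : ℂ) ≠ 1 := fun e' => hφ₀' (Units.ext e')
  by_contra h3
  exact h1 (mul_right_cancel₀ h3 (by rw [e, one_mul]))

theorem sum_sideFour [Fintype (SDual M N K₀)] (h : Side M W₁ W₂ N K₀ u) (χ : G → ℂ) :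
    ∑ φ : SDual M N K₀, sideFour χ φ = 0 := by
  unfold sideFour classInner
  rw [← Finset.mul_sum, Finset.sum_comm]
  refine mul_eq_zero_of_right _ (Finset.sum_eq_zero fun x _ => ?_)
  rw [← Finset.sum_mul]
  by_cases hx : ((x : M) : G) ∈ K₀
  · rw [show sideRes M N K₀ χ x = 0 from dadeProj_of_notMem χ (fun ha => ha.2 hx), map_zero, mul_zero]
  · rw [h.sum_sfun_eq_zero hx, zero_mul]

/-- The principal Fourier coefficient in terms of the coefficients. -/
theorem sideFour_sdual1 [Fintype (SDual M N K₀)] (h : Side M W₁ W₂ N K₀ u)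
    (hA : DadeHypothesis (sideSet N K₀) M (Cfsg.supportR M)) {χ : G → ℂ} (hχ : IsClassFunction G χ) :
    (K₀.relIndex N : ℂ) * sideFour χ (sdual1 M N K₀) = -∑ φ : SDual M N K₀, sideCoef χ φ := by
  simp only [sideCoef_eq h hA hχ, Finset.sum_sub_distrib, sum_sideFour h χ, Finset.sum_const, Finset.card_univ,
    ← Nat.card_eq_fintype_card, h.card_sdual, nsmul_eq_mul]
  ring

/-- The indicator of `N ∖ K₀` on `M`. -/
noncomputable def sideInd (M N K₀ : Subgroup G) : M → ℂ := fun x => if (x : G) ∈ sideSet N K₀ then 1 else 0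

theorem isClassFunction_sideInd (h : Side M W₁ W₂ N K₀ u)
    (hA : DadeHypothesis (sideSet N K₀) M (Cfsg.supportR M)) : IsClassFunction M (sideInd M N K₀) := by
  intro x y
  have : ((y * x * y⁻¹ : M) : G) ∈ sideSet N K₀ ↔ (x : G) ∈ sideSet N K₀ := by
    refine ⟨fun hx => ?_, fun hx => by simpa using hA.conj_mem y y.2 _ hx⟩
    have := hA.conj_mem (y : G)⁻¹ (inv_mem y.2) _ hx
    simpa [mul_assoc] using this
  simp only [sideInd, this]

/-- The first moment: exact. -/
theorem inner_sideInd (h : Side M W₁ W₂ N K₀ u) (hA : DadeHypothesis (sideSet N K₀) M (Cfsg.supportR M))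
    {χ : G → ℂ} (hχ : IsClassFunction G χ) :
    (Nat.card M : ℂ) * classInner (dadeIsometry (sideSet N K₀) M (Cfsg.supportR M) (sideInd M N K₀)) χ =
      (Nat.card ↥(N.subgroupOf M) : ℂ) * sideFour χ (sdual1 M N K₀) := by
  rw [classInner_dade_proj hA (isClassFunction_sideInd h hA) (fun x hx => if_neg hx) hχ, sideFour, classInner,
    classInner, mul_inv_cancel_left₀ (Nat.cast_ne_zero.2 Nat.card_pos.ne'),
    mul_inv_cancel_left₀ (Nat.cast_ne_zero.2 Nat.card_pos.ne')]
  rw [← Finset.sum_subset (Finset.subset_univ (Finset.univ.filter fun x : M => x ∈ N.subgroupOf M))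
    (fun x _ hx => by
      rw [sideInd, if_neg (fun hs => hx (Finset.mem_filter.2 ⟨Finset.mem_univ _, Subgroup.mem_subgroupOf.2 hs.1⟩)),
        zero_mul])]
  rw [Finset.sum_subtype (p := fun x => x ∈ N.subgroupOf M) _ (fun x => by simp)]
  refine Finset.sum_congr rfl fun x _ => ?_
  rw [sfun_sdual1]
  by_cases hs : ((x : M) : G) ∈ sideSet N K₀
  · rw [sideInd, if_pos hs]
    rfl
  · rw [sideInd, if_neg hs, show sideRes M N K₀ χ x = 0 from dadeProj_of_notMem χ hs]
    simp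

/-- The second moment: the Bessel bound. -/
theorem sum_norm_sideFour_le [Fintype (SDual M N K₀)] (h : Side M W₁ W₂ N K₀ u)
    (χ : G → ℂ) :
    (Nat.card ↥(N.subgroupOf M) : ℝ) * ∑ φ : SDual M N K₀, ‖sideFour χ φ‖ ^ 2 ≤
      (Nat.card M : ℝ) * (classInner (dadeProj (sideSet N K₀) M (Cfsg.supportR M) χ)
        (dadeProj (sideSet N K₀) M (Cfsg.supportR M) χ)).re := by
  have hon : ∀ φ ∈ (Finset.univ : Finset (SDual M N K₀)), ∀ φ' ∈ (Finset.univ : Finset (SDual M N K₀)),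
      classInner (sfun φ) (sfun φ') = if φ = φ' then 1 else 0 := by
    intro φ _ φ' _
    by_cases e : φ = φ'
    · rw [if_pos e, e]; exact classInner_irr_self (isIrrCharacter_linear φ'.1)
    · rw [if_neg e]
      refine classInner_irr_ne (isIrrCharacter_linear φ.1) (isIrrCharacter_linear φ'.1) fun e' => e ?_
      exact Subtype.ext (linearChar_injective e')
  have hb := sum_norm_sq_le Finset.univ (fun φ : SDual M N K₀ => sfun φ) hon (sideRes M N K₀ χ)
  simp only [← classInner_conj_symm (sfun _) (sideRes M N K₀ χ), Complex.norm_conj] at hb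
  have hm : (Nat.card ↥(N.subgroupOf M) : ℝ) * (classInner (sideRes M N K₀ χ) (sideRes M N K₀ χ)).re =
      (Nat.card M : ℝ) * (classInner (dadeProj (sideSet N K₀) M (Cfsg.supportR M) χ)
        (dadeProj (sideSet N K₀) M (Cfsg.supportR M) χ)).re := by
    simp only [classInner_self, Complex.ofReal_re]
    rw [mul_inv_cancel_left₀ (Nat.cast_ne_zero.2 Nat.card_pos.ne'),
      mul_inv_cancel_left₀ (Nat.cast_ne_zero.2 Nat.card_pos.ne')]
    rw [← Finset.sum_subset (Finset.subset_univ (Finset.univ.filter fun x : M => x ∈ N.subgroupOf M))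
      (fun x _ hx => by
        rw [dadeProj_of_notMem χ (fun hs => hx (Finset.mem_filter.2
          ⟨Finset.mem_univ _, Subgroup.mem_subgroupOf.2 hs.1⟩))]
        simp),
      Finset.sum_subtype (p := fun x => x ∈ N.subgroupOf M) _ (fun x => by simp)]
    rfl
  rw [← hm]
  exact mul_le_mul_of_nonneg_left hb (Nat.cast_nonneg _)

theorem supportR_W₂ (h : Side M W₁ W₂ N K₀ u) {v : G} (hv : v ∈ W₂) (hv1 : v ≠ 1) :
    Cfsg.supportR M v = ⊥ :=
  Cfsg.Lib.Local.Sigma.supportR_of_le (h.centralizer_le v hv hv1)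

theorem q_coprime_supportR (h : Side M W₁ W₂ N K₀ u)
    (hA : DadeHypothesis (sideSet N K₀) M (Cfsg.supportR M)) {v : G} (hv : v ∈ W₂) (hvK : v ∉ K₀) {a : G}
    (ha : a ∈ sideSet N K₀) : (Nat.card ↥(Cfsg.supportR M a)).Coprime (Nat.card W₁) := by
  refine (hA.coprime a ha v ⟨h.W₂_le hv, hvK⟩).coprime_dvd_right (Subgroup.card_dvd_of_le fun w hw => ?_)
  refine ⟨h.W₁_le hw, Subgroup.mem_centralizer_singleton_iff.2 ?_⟩
  by_cases hw1 : w = 1
  · simp [hw1]
  · exact (Subgroup.mem_centralizer_singleton_iff.1 ((h.centralizer_eq w hw hw1).ge hv).2).symm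

set_option maxHeartbeats 1000000 in
/-- The congruence at an element of `W₂`. -/
theorem sum_sideCoef_modEqC [Fintype (SDual M N K₀)] (h : Side M W₁ W₂ N K₀ u)
    (hA : DadeHypothesis (sideSet N K₀) M (Cfsg.supportR M)) {χ : G → ℂ} (hχ : IsGeneralizedCharacter G χ)
    {v : ↥(N.subgroupOf M)} (hv : ((v : M) : G) ∈ W₂) (hv1 : ((v : M) : G) ≠ 1) :
    ModEqC (Nat.card W₁) (∑ φ : SDual M N K₀, sideCoef χ φ * conj (sfun φ v)) (conj (χ ((v : M) : G))) := by
  have hcf := hχ.isClassFunction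
  haveI := Fintype.ofFinite K₀
  haveI : Fact (Nat.card W₁).Prime := ⟨h.W₁_prime⟩
  set v' : G := ((v : M) : G) with hv'def
  have hvK : v' ∉ K₀ := fun hK => hv1 (Subgroup.mem_bot.1 (h.W₂_inf ▸ ⟨hv, hK⟩))
  have hset : ∀ y ∈ K₀, v' * y ∈ sideSet N K₀ := fun y hy =>
    ⟨mul_mem (h.W₂_le hv) (h.K₀_le hy), fun hK => hvK ((Subgroup.mul_mem_cancel_right K₀ hy).1 hK)⟩
  -- the sum over the coset
  let F : G → ℂ := fun x => if hx : x ∈ M then conj (dadeProj (sideSet N K₀) M (Cfsg.supportR M) χ ⟨x, hx⟩) else 0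
  have hF : ∀ x : ↥(N.subgroupOf M), F ((x : M) : G) = conj (sideRes M N K₀ χ x) := fun x => by
    simp only [F, dif_pos (x : M).2]; rfl
  have hn : (Nat.card ↥(N.subgroupOf M) : ℂ) = (Nat.card K₀ : ℂ) * (K₀.relIndex N : ℂ) := by
    rw [h.card_N, Nat.cast_mul]
  have hKne : (Nat.card K₀ : ℂ) ≠ 0 := Nat.cast_ne_zero.2 Nat.card_pos.ne'
  have hrel : (K₀.relIndex N : ℂ) ≠ 0 := by
    rw [← h.card_sdual]
    haveI : Nonempty (SDual M N K₀) := ⟨sdual1 M N K₀⟩
    exact Nat.cast_ne_zero.2 Nat.card_pos.ne'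
  have hsum : (Nat.card K₀ : ℂ) * ∑ φ : SDual M N K₀, sideCoef χ φ * conj (sfun φ v) =
      ∑ y : K₀, F (v' * y) := by
    have hzero : ∑ φ : SDual M N K₀, conj (sfun φ v) = 0 := by
      rw [← map_sum, h.sum_sfun_eq_zero hvK, map_zero]
    simp only [sideCoef_eq h hA hcf, sub_mul, Finset.sum_sub_distrib, ← Finset.mul_sum, hzero, mul_zero, sub_zero]
    simp only [sideFour, classInner, Finset.mul_sum, Finset.sum_mul]
    rw [Finset.sum_comm]
    have step : ∀ x : ↥(N.subgroupOf M), ∑ φ : SDual M N K₀,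
        (Nat.card K₀ : ℂ) * ((Nat.card ↥(N.subgroupOf M) : ℂ)⁻¹ *
          (sfun φ x * conj (sideRes M N K₀ χ x)) * conj (sfun φ v)) =
        if ((v⁻¹ * x : ↥(N.subgroupOf M)) : G) ∈ K₀ then F ((x : M) : G) else 0 := by
      intro x
      have hx : ∀ φ : SDual M N K₀, sfun φ x * conj (sfun φ v) = sfun φ (v⁻¹ * x) := fun φ => by
        simp only [sfun, conj_hom, map_mul, Units.val_mul]
        ring
      have hr : ∑ φ : SDual M N K₀, sfun φ (v⁻¹ * x) =
          if ((v⁻¹ * x : ↥(N.subgroupOf M)) : G) ∈ K₀ then (K₀.relIndex N : ℂ) else 0 := by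
        split_ifs with hk
        · rw [Finset.sum_congr rfl fun φ _ => show sfun φ (v⁻¹ * x) = 1 by rw [sfun, φ.2 _ hk, Units.val_one],
            Finset.sum_const, Finset.card_univ, ← Nat.card_eq_fintype_card, h.card_sdual, nsmul_eq_mul, mul_one]
        · exact h.sum_sfun_eq_zero hk
      calc _ = (Nat.card K₀ : ℂ) * ((Nat.card ↥(N.subgroupOf M) : ℂ)⁻¹ * conj (sideRes M N K₀ χ x)) *
            ∑ φ : SDual M N K₀, sfun φ (v⁻¹ * x) := by
              rw [Finset.mul_sum]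
              exact Finset.sum_congr rfl fun φ _ => by rw [← hx φ]; ring
        _ = _ := by
          rw [hr, hF]
          split_ifs
          · rw [hn]; field_simp
          · rw [mul_zero]
    rw [Finset.sum_congr rfl fun x _ => step x, ← Finset.sum_filter]
    refine Finset.sum_bij' (fun x hx => (⟨_, (Finset.mem_filter.1 hx).2⟩ : K₀))
      (fun y _ => v * ⟨⟨(y : G), h.N_le (h.K₀_le y.2)⟩, Subgroup.mem_subgroupOf.2 (h.K₀_le y.2)⟩)
      (fun x _ => Finset.mem_univ _) (fun y _ => Finset.mem_filter.2 ⟨Finset.mem_univ _, by simp⟩)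
      (fun x _ => Subtype.ext (Subtype.ext (by simp [mul_assoc])))
      (fun y _ => Subtype.ext (by simp)) (fun x _ => by simp [hv'def])
  -- clear the denominators
  obtain ⟨m, hm_eq⟩ : ∃ m : ℕ, m = ∏ y : K₀, Nat.card ↥(Cfsg.supportR M (v' * y)) := ⟨_, rfl⟩
  have hm : m.Coprime (Nat.card W₁) := hm_eq ▸ Nat.Coprime.prod_left fun y _ =>
    q_coprime_supportR h hA hv hvK (hset y y.2)
  have hdvd : ∀ z : K₀, Nat.card ↥(Cfsg.supportR M (v' * z)) ∣ m := by
    intro z
    rewrite [hm_eq]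
    apply Finset.dvd_prod_of_mem
    simp
  have hint : ∀ y ∈ K₀, IsIntegral ℤ ((m : ℂ) * F (v' * y)) := by
    intro y hy
    set R := Cfsg.supportR M (v' * y)
    haveI := Fintype.ofFinite R
    obtain ⟨k, hk⟩ : Nat.card R ∣ m := hdvd ⟨y, hy⟩
    have hmem : v' * y ∈ M := h.N_le (hset y hy).1
    simp only [F, dif_pos hmem]
    rw [dadeProj_of_mem χ (hset y hy), hk, Nat.cast_mul, map_mul, map_inv₀, map_natCast, ← mul_assoc,
      mul_comm ((Nat.card R : ℂ) * (k : ℂ)), ← mul_assoc, inv_mul_cancel₀ (Nat.cast_ne_zero.2 Nat.card_pos.ne'),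
      one_mul, map_sum]
    refine (by
      have : IsIntegral ℤ (((k : ℤ)) : ℂ) := isIntegral_algebraMap
      simpa using this : IsIntegral ℤ (k : ℂ)).mul (IsIntegral.sum _ fun r _ => ?_)
    rw [← hχ.apply_inv]
    exact hχ.isIntegral _
  have key := h.sum_coset_modEqC hv (fun x => (m : ℂ) * F x) hint (fun w hw y => by
    by_cases hy : y ∈ M
    · have hy' : w * y * w⁻¹ ∈ M := mul_mem (mul_mem (h.W₁_le hw) hy) (inv_mem (h.W₁_le hw))
      simp only [F, dif_pos hy, dif_pos hy']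
      congr 2
      rw [show (⟨w * y * w⁻¹, hy'⟩ : M) = ⟨w, h.W₁_le hw⟩ * ⟨y, hy⟩ * (⟨w, h.W₁_le hw⟩ : M)⁻¹ from rfl]
      exact isClassFunction_dadeProj hA hcf _ _
    · have hy' : w * y * w⁻¹ ∉ M := fun hc => hy (by
        have := mul_mem (mul_mem (inv_mem (h.W₁_le hw)) hc) (h.W₁_le hw)
        rwa [show w⁻¹ * (w * y * w⁻¹) * w = y by group] at this)
      simp only [F, dif_neg hy, dif_neg hy'])
  rw [← Finset.mul_sum, ← hsum] at key
  have hFv : F v' = conj (χ v') := by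
    have hvM : v' ∈ M := h.N_le (h.W₂_le hv)
    have hvA : v' ∈ sideSet N K₀ := ⟨h.W₂_le hv, hvK⟩
    simp only [F, dif_pos hvM]
    rw [dadeProj_of_bot χ (a := (⟨v', hvM⟩ : M)) hvA (supportR_W₂ h hv hv1)]
  rw [hFv] at key
  have hintS : IsIntegral ℤ (∑ φ : SDual M N K₀, sideCoef χ φ * conj (sfun φ v)) := by
    refine IsIntegral.sum _ fun φ _ => ?_
    obtain ⟨k, hk⟩ := exists_int_sideCoef h hA hχ φ
    rw [hk]
    refine isIntegral_algebraMap.mul ?_
    rw [sfun, conj_hom]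
    exact isIntegral_sfun φ _
  have hintv : IsIntegral ℤ (conj (χ v')) := by
    rw [← hχ.apply_inv]; exact hχ.isIntegral _
  have h2 : IsIntegral ℤ (m : ℂ) := by
    have : IsIntegral ℤ (((m : ℤ)) : ℂ) := isIntegral_algebraMap
    simpa using this
  have e1 := ((h.card_K_modEq).mul_right hintS).symm.mul_left h2
  rw [one_mul] at e1
  exact ModEqC.cancel hm (e1.trans key) hintS hintv

end Cfsg.Lib.OddOrder
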