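import Cfsg.Agent.Lib.OddOrder.SideCoef
import Cfsg.Agent.Lib.OddOrder.Eta
import Cfsg.Agent.Lib.OddOrder.Region

/-!
# The coefficients of the cyclic TI family on one side

Modulo `q` the coefficient of `η i l` at the fixed member of the column `k` is `[k = l] - [l = 0]`; so the Dade
image of `Ind φ_j - Ind φ_k` is exactly the difference of the columns `j` and `k`, and off the support of the
Dade map and of the TI set the members `η 0 j`, `j` nonprincipal, agree.
-/

set_option autoImplicit false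
set_option linter.unusedSectionVars false
set_option linter.style.haveILetI false

namespace Cfsg.Lib.OddOrder

open Cfsg Cfsg.Lib.Char Cfsg.Lib.Char.FT
open scoped ComplexConjugate Classical

universe u'

variable {G : Type u'} [Group G] [Fintype G] {M W₁ W₂ N K₀ : Subgroup G} {u : ℕ}

/-- An element of `W₂` inside `N` inside `M`. -/
def Side.incl (h : Side M W₁ W₂ N K₀ u) (v : W₂) : ↥(N.subgroupOf M) :=
  ⟨⟨(v : G), h.N_le (h.W₂_le v.2)⟩, Subgroup.mem_subgroupOf.2 (h.W₂_le v.2)⟩

theorem Side.sfun_colDual (h : Side M W₁ W₂ N K₀ u) (j : Col W₁ W₂) (v : W₂) :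
    sfun (h.colDual j) (h.incl v) = (colRes j v : ℂ) := by
  rw [sfun, ← h.res_colDual j]
  rfl

/-- Orthogonality of the columns on `W₂`. -/
theorem sum_colRes [Fintype W₂] (hcomm : ∀ a ∈ W₁, ∀ b ∈ W₂, a * b = b * a) (j k : Col W₁ W₂) :
    ∑ v : W₂, (colRes j v : ℂ) * conj (colRes k v : ℂ) = if j = k then (Nat.card W₂ : ℂ) else 0 := by
  have e : ∀ v : W₂, (colRes j v : ℂ) * conj (colRes k v : ℂ) = ((colRes j * (colRes k)⁻¹) v : ℂ) := fun v => by
    rw [conj_hom, MonoidHom.mul_apply, MonoidHom.inv_apply, map_inv, Units.val_mul]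
  simp only [e]
  split_ifs with hjk
  · simp [hjk, Nat.card_eq_fintype_card]
  · exact sum_hom_eq_zero fun e1 => hjk (colRes_injective hcomm (mul_inv_eq_one.1 e1))

/-- A member of the family at an element of `W₂` is congruent to its character. -/
theorem family_modEqC (hW : Cfsg.IsSelfNormalizingCyclic W₁ W₂) {χ : (↥(W₁ ⊔ W₂) →* ℂˣ) → (G → ℂ)}
    (hχ : IsCyclicTIFamily W₁ W₂ χ) (ω : ↥(W₁ ⊔ W₂) →* ℂˣ) (v : W₂) (hv : v ≠ 1) :
    ModEqC (Nat.card W₁) (χ ω v) (ω ⟨v, Subgroup.mem_sup_right v.2⟩ : ℂ) := by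
  obtain ⟨-, -, hdisj', -, hcyc, -⟩ := id hW
  have hdisj : Disjoint W₁ W₂ := disjoint_iff.2 hdisj'
  haveI : Fintype ↥(W₁ ⊔ W₂) := Fintype.ofFinite _
  set X := W₁.subgroupOf (W₁ ⊔ W₂)
  haveI : Fintype X := Fintype.ofFinite _
  have hX : Nat.card X = Nat.card W₁ := Nat.card_congr (Subgroup.subgroupOfEquivOfLe le_sup_left).toEquiv
  have hgen : IsGeneralizedCharacter G (χ ω) := by
    rcases hχ.irr_or_neg ω with hh | hh
    · exact hh.isCharacter.isGeneralized
    · simpa using hh.isCharacter.isGeneralized.neg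
  set w₀ : ↥(W₁ ⊔ W₂) := ⟨v, Subgroup.mem_sup_right v.2⟩
  have key := sum_coset_modEqC_zero (sup_comm_of hcyc) X hX
    (F := (fun w : ↥(W₁ ⊔ W₂) => χ ω w) - fun w => (ω w : ℂ))
    ((hgen.comp (W₁ ⊔ W₂).subtype).sub (isIrrCharacter_linear ω).isGeneralized) w₀
  rw [Finset.sum_eq_single (1 : X)] at key
  · have h1 : ModEqC (Nat.card W₁) (χ ω (v : G) - (ω w₀ : ℂ)) 0 := by simpa [w₀] using key
    obtain ⟨r, hr, e⟩ := h1
    exact ⟨r, hr, by linear_combination e⟩
  · intro y _ hy
    have hv1 : (v : G) ≠ 1 := fun e => hv (Subtype.ext e)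
    have hy1 : ((y : ↥(W₁ ⊔ W₂)) : G) ≠ 1 := fun e => hy (Subtype.ext (Subtype.ext e))
    have hyW : ((y : ↥(W₁ ⊔ W₂)) : G) ∈ W₁ := Subgroup.mem_subgroupOf.1 y.2
    refine sub_eq_zero.2 (hχ.eq_on ω _ (fun hc => hv1 ?_) fun hc => hy1 ?_)
    · exact (Subgroup.disjoint_def.1 hdisj) ((Subgroup.mul_mem_cancel_left W₁ hyW).1 hc) v.2
    · exact (Subgroup.disjoint_def.1 hdisj) hyW ((Subgroup.mul_mem_cancel_right W₂ v.2).1 hc)
  · simp

variable [Fintype M] [Fintype ↥(N.subgroupOf M)]

/-- The congruence of the coefficients of a member of the family at the fixed members. -/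
theorem exists_sideCoef_eta (h : Side M W₁ W₂ N K₀ u) (hA : DadeHypothesis (sideSet N K₀) M (Cfsg.supportR M))
    (hW : Cfsg.IsSelfNormalizingCyclic W₁ W₂) {χ : (↥(W₁ ⊔ W₂) →* ℂˣ) → (G → ℂ)}
    (hχ : IsCyclicTIFamily W₁ W₂ χ) (i : Row W₁ W₂) (l : Col W₁ W₂) :
    ∃ a : SDual M N K₀ → ℤ, (∀ φ, sideCoef (eta χ i l) φ = a φ) ∧ (∀ m φ, a (h.conjDual m φ) = a φ) ∧
      a (sdual1 M N K₀) = 0 ∧
      ∀ k : Col W₁ W₂, a (h.colDual k) ≡
        (if k = l then 1 else 0) - (if l = col0 W₁ W₂ then 1 else 0) [ZMOD Nat.card W₁] := by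
  have hgen := eta_gen hχ i l
  have hcf := hgen.isClassFunction
  choose a ha using fun φ => exists_int_sideCoef h hA hgen φ
  have hinv : ∀ m φ, a (h.conjDual m φ) = a φ := fun m φ => by
    have := sideCoef_conjDual h hA hcf m φ
    rw [ha, ha] at this
    exact_mod_cast this
  have h0 : a (sdual1 M N K₀) = 0 := by
    have := sideCoef_sdual1 h hA hcf
    rw [ha] at this
    exact_mod_cast this
  refine ⟨a, ha, hinv, h0, ?_⟩
  haveI : Fact (Nat.card W₁).Prime := ⟨h.W₁_prime⟩
  haveI := Fintype.ofFinite (SDual M N K₀)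
  haveI := finite_hom (G := G) hW.2.2.2.2.1
  haveI := Fintype.ofFinite (Col W₁ W₂)
  haveI := Fintype.ofFinite W₂
  have hcomm := hW.2.2.2.1
  have hint : ∀ (φ : SDual M N K₀) (x : ↥(N.subgroupOf M)), IsIntegral ℤ ((a φ : ℂ) * conj (sfun φ x)) := by
    intro φ x
    refine isIntegral_algebraMap.mul ?_
    rw [sfun, conj_hom]
    exact isIntegral_sfun φ _
  -- the congruence at one element
  have hv : ∀ v : W₂, v ≠ 1 → ModEqC (Nat.card W₁)
      (∑ j : Col W₁ W₂, (a (h.colDual j) : ℂ) * conj (colRes j v : ℂ)) (conj (colRes l v : ℂ)) := by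
    intro v hv
    have h1 := sum_sideCoef_modEqC h hA hgen (v := h.incl v) v.2 fun e => hv (Subtype.ext e)
    simp only [ha] at h1
    letI : MulAction W₁ (SDual M N K₀) :=
      { smul := fun w φ => h.conjDual ⟨w, h.W₁_le w.2⟩ φ
        one_smul := fun φ => h.conjDual_one φ
        mul_smul := fun x y φ => h.conjDual_mul ⟨x, h.W₁_le x.2⟩ ⟨y, h.W₁_le y.2⟩ φ }
    have h2 := sum_modEqC_fixed (A := W₁) (X := SDual M N K₀) (q := Nat.card W₁) rfl
      (fun φ => (a φ : ℂ) * conj (sfun φ (h.incl v))) (fun φ => hint φ _)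
      (fun w φ => by
        show (a (h.conjDual ⟨w, h.W₁_le w.2⟩ φ) : ℂ) * conj (sfun (h.conjDual ⟨w, h.W₁_le w.2⟩ φ) (h.incl v)) = _
        rw [hinv, sfun, h.conjDual_apply _ φ (y := h.incl v)]
        · rfl
        · show (v : G) = (w : G) * (v : G) * (w : G)⁻¹
          rw [hcomm w w.2 v v.2, mul_inv_cancel_right])
      (Finset.univ.image h.colDual) (fun φ => by
        constructor
        · intro hφ w
          obtain ⟨j, -, rfl⟩ := Finset.mem_image.1 hφ
          exact (h.isFixedDual_iff _).1 (h.colDual_fixed j) _ w.2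
        · intro hφ
          obtain ⟨j, hj⟩ := h.exists_col hW ((h.isFixedDual_iff φ).2 fun w hw => hφ ⟨w, hw⟩)
          exact Finset.mem_image.2 ⟨j, Finset.mem_univ _, hj⟩)
    rw [Finset.sum_image (h.colDual_injective hcomm).injOn] at h2
    simp only [h.sfun_colDual] at h2
    have h3 := family_modEqC hW hχ (i.1 * l.1) v hv
    have e : ((i.1 * l.1) ⟨v, Subgroup.mem_sup_right v.2⟩ : ℂ) = (colRes l v : ℂ) := by
      rw [MonoidHom.mul_apply, i.2 _ v.2, one_mul]
      rfl
    rw [e] at h3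
    obtain ⟨r, hr, e3⟩ := h3
    refine (h2.symm.trans h1).trans ⟨conj r, ?_, ?_⟩
    · exact (map_isIntegral_int (RingHom.toRatAlgHom (starRingEnd ℂ)) hr)
    · rw [← map_sub, show eta χ i l (h.incl v : M) = χ (i.1 * l.1) (v : G) from rfl, e3, map_mul, map_natCast]
  -- the Fourier transform
  set p := Nat.card W₂
  set S : ℤ := ∑ j, a (h.colDual j)
  have hk : ∀ k : Col W₁ W₂, (p : ℤ) * a (h.colDual k) - S ≡
      (if k = l then (p : ℤ) else 0) - 1 [ZMOD Nat.card W₁] := by
    intro k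
    have hsum : ModEqC (Nat.card W₁)
        (∑ v ∈ Finset.univ.erase (1 : W₂), (colRes k v : ℂ) *
          ∑ j : Col W₁ W₂, (a (h.colDual j) : ℂ) * conj (colRes j v : ℂ))
        (∑ v ∈ Finset.univ.erase (1 : W₂), (colRes k v : ℂ) * conj (colRes l v : ℂ)) :=
      ModEqC.sum _ fun v hv' => (hv v (Finset.ne_of_mem_erase hv')).mul_left
        ((isIrrCharacter_linear (colRes k)).isCharacter.isIntegral v)
    rw [Finset.sum_erase_eq_sub (Finset.mem_univ _), Finset.sum_erase_eq_sub (Finset.mem_univ _),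
      sum_colRes hcomm] at hsum
    simp only [map_one, Units.val_one, mul_one, one_mul, Finset.mul_sum] at hsum
    rw [Finset.sum_comm] at hsum
    simp only [mul_left_comm _ (a (h.colDual _) : ℂ), ← Finset.mul_sum, sum_colRes hcomm, mul_ite, mul_zero,
      Finset.sum_ite_eq, Finset.mem_univ, if_true] at hsum
    refine ModEqC.int ?_
    convert hsum using 1
    · simp only [S]; push_cast; ring
    · push_cast [apply_ite (fun z : ℤ => (z : ℂ))]; ring
  intro k
  have hp : IsCoprime (p : ℤ) (Nat.card W₁ : ℤ) :=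
    Nat.isCoprime_iff_coprime.2 ((h.W₁_prime.coprime_iff_not_dvd).2 h.q_not_dvd_p).symm
  have h1 := (hk k).sub (hk (col0 W₁ W₂))
  rw [h.colDual_col0, h0] at h1
  refine (Int.modEq_iff_dvd.2 ?_)
  refine (hp.symm.dvd_of_dvd_mul_left ?_)
  have h2 := Int.modEq_iff_dvd.1 h1
  have e : (p : ℤ) * ((if k = l then 1 else 0) - (if l = col0 W₁ W₂ then 1 else 0) - a (h.colDual k)) =
      (if k = l then (p : ℤ) else 0) - 1 - ((if col0 W₁ W₂ = l then (p : ℤ) else 0) - 1) -
        ((p : ℤ) * a (h.colDual k) - S - ((p : ℤ) * 0 - S)) := by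
    by_cases e1 : k = l <;> by_cases e2 : l = col0 W₁ W₂
    · rw [if_pos e1, if_pos e2, if_pos e1, if_pos e2.symm]; ring
    · rw [if_pos e1, if_neg e2, if_pos e1, if_neg fun e3 => e2 e3.symm]; ring
    · rw [if_neg e1, if_pos e2, if_neg e1, if_pos e2.symm]; ring
    · rw [if_neg e1, if_neg e2, if_neg e1, if_neg fun e3 => e2 e3.symm]; ring
  exact e.symm ▸ h2

omit [Fintype ↥(N.subgroupOf M)] in
/-- The stabiliser of `N W₁` has order `q |N|`. -/
theorem Side.card_stab (h : Side M W₁ W₂ N K₀ u) :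
    Nat.card ↥((N ⊔ W₁).subgroupOf M) = Nat.card W₁ * Nat.card ↥(N.subgroupOf M) := by
  rw [Nat.card_congr (Subgroup.subgroupOfEquivOfLe (sup_le h.N_le h.W₁_le)).toEquiv,
    Nat.card_congr (Subgroup.subgroupOfEquivOfLe h.N_le).toEquiv,
    Cfsg.Lib.Coprime.card_sup_of_disjoint (h.W₁_le.trans h.N_normal)
      (Cfsg.Lib.Coprime.disjoint_of_coprime_card h.W₁_coprime.symm), mul_comm]

/-- The inner product of two induced members. -/
theorem inner_ind_member (h : Side M W₁ W₂ N K₀ u) (φ φ' : SDual M N K₀) :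
    (Nat.card ↥(N.subgroupOf M) : ℂ) *
        classInner (indFun (N.subgroupOf M) (sfun φ)) (indFun (N.subgroupOf M) (sfun φ')) =
      (Nat.card {m : M // h.conjDual m φ' = φ} : ℂ) := by
  haveI := h.normal
  have hN : (Nat.card ↥(N.subgroupOf M) : ℂ) ≠ 0 := Nat.cast_ne_zero.2 Nat.card_pos.ne'
  rw [classInner_indFun _ _ (isClassFunction_indFun _ _)]
  have e : (fun x : ↥(N.subgroupOf M) => indFun (N.subgroupOf M) (sfun φ') (x : M)) =
      ∑ m : M, (Nat.card ↥(N.subgroupOf M) : ℂ)⁻¹ • sfun (h.conjDual m φ') := by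
    funext x
    rw [indFun_normal_apply, Finset.mul_sum, Finset.sum_apply]
    refine Fintype.sum_equiv (Equiv.inv M) _ _ fun m => ?_
    simp only [Equiv.inv_apply, Pi.smul_apply, smul_eq_mul, sfun]
    congr 2
    exact (h.conjDual_apply m⁻¹ φ' (by simp [mul_assoc])).symm
  rw [e, classInner_sum_right, Finset.mul_sum, Nat.card_eq_fintype_card (α := {m : M // h.conjDual m φ' = φ}),
    Fintype.card_subtype, Finset.natCast_card_filter]
  refine Finset.sum_congr rfl fun m _ => ?_
  rw [classInner_smul_right, map_inv₀, map_natCast, mul_inv_cancel_left₀ hN]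
  split_ifs with hm
  · rw [hm]; exact classInner_irr_self (isIrrCharacter_linear φ.1)
  · refine classInner_irr_ne (isIrrCharacter_linear φ.1) (isIrrCharacter_linear (h.conjDual m φ').1)
      fun e' => hm ?_
    exact (Subtype.ext (linearChar_injective e')).symm

/-- Conjugate nonprincipal fixed members are equal. -/
theorem Side.fixed_eq_of_conj (h : Side M W₁ W₂ N K₀ u) {φ φ' : SDual M N K₀} (hf : IsFixedDual W₁ φ)
    (hf' : IsFixedDual W₁ φ') (h1 : φ' ≠ sdual1 M N K₀) {m : M} (e : h.conjDual m φ' = φ) : φ = φ' := by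
  have hm : (m : G) ∈ N ⊔ W₁ := by
    refine inv_mem_iff.1 (h.normalizer_le _ (inv_mem m.2) fun w hw => ?_)
    have hw' : h.conjDual (m⁻¹ * ⟨w, h.W₁_le hw⟩ * m) φ' = φ' := by
      rw [h.conjDual_mul, h.conjDual_mul, e, (h.isFixedDual_iff φ).1 hf _ hw, ← e, ← h.conjDual_mul,
        inv_mul_cancel, h.conjDual_one]
    simpa using (h.conjDual_eq_self_iff h1 hf' _).1 hw'
  rw [← e, (h.conjDual_eq_self_iff h1 hf' m).2 hm]

theorem inner_ind_fixed (h : Side M W₁ W₂ N K₀ u) {φ φ' : SDual M N K₀} (hf : IsFixedDual W₁ φ)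
    (hf' : IsFixedDual W₁ φ') (h1 : φ' ≠ sdual1 M N K₀) :
    classInner (indFun (N.subgroupOf M) (sfun φ)) (indFun (N.subgroupOf M) (sfun φ')) =
      if φ = φ' then (Nat.card W₁ : ℂ) else 0 := by
  have hN : (Nat.card ↥(N.subgroupOf M) : ℂ) ≠ 0 := Nat.cast_ne_zero.2 Nat.card_pos.ne'
  refine mul_left_cancel₀ hN ((inner_ind_member h φ φ').trans ?_)
  split_ifs with e
  · subst e
    rw [Nat.card_congr (Equiv.subtypeEquivRight (q := fun m : M => m ∈ (N ⊔ W₁).subgroupOf M) fun m =>
      (h.conjDual_eq_self_iff h1 hf m).trans Subgroup.mem_subgroupOf.symm), h.card_stab, Nat.cast_mul, mul_comm]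
  · haveI : IsEmpty {m : M // h.conjDual m φ' = φ} := ⟨fun m => e (h.fixed_eq_of_conj hf hf' h1 m.2)⟩
    simp

omit [Fintype ↥(N.subgroupOf M)] in
theorem Side.colDual_ne_one (h : Side M W₁ W₂ N K₀ u) (hcomm : ∀ a ∈ W₁, ∀ b ∈ W₂, a * b = b * a)
    {j : Col W₁ W₂} (hj : j ≠ col0 W₁ W₂) : h.colDual j ≠ sdual1 M N K₀ := fun e =>
  hj (h.colDual_injective hcomm (e.trans h.colDual_col0.symm))

set_option maxHeartbeats 800000 in
/-- (S3): the Dade image of a difference of induced fixed members is the difference of the columns. -/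
theorem dade_col_sub (hodd : Odd (Nat.card G)) (h : Side M W₁ W₂ N K₀ u)
    (hA : DadeHypothesis (sideSet N K₀) M (Cfsg.supportR M))
    (hW : Cfsg.IsSelfNormalizingCyclic W₁ W₂) {χ : (↥(W₁ ⊔ W₂) →* ℂˣ) → (G → ℂ)}
    (hχ : IsCyclicTIFamily W₁ W₂ χ) [Fintype (Row W₁ W₂)] {j k : Col W₁ W₂} (hj : j ≠ col0 W₁ W₂)
    (hk : k ≠ col0 W₁ W₂) (hjk : j ≠ k) :
    dadeIsometry (sideSet N K₀) M (Cfsg.supportR M) (sideTest (h.colDual j) - sideTest (h.colDual k)) =
      colSum χ j - colSum χ k := by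
  haveI := finite_hom (G := G) hW.2.2.2.2.1
  haveI := Fintype.ofFinite (Col W₁ W₂)
  have hcomm := hW.2.2.2.1
  set α := sideTest (h.colDual j) - sideTest (h.colDual k)
  set F := dadeIsometry (sideSet N K₀) M (Cfsg.supportR M) α
  have hαA : ∀ x : M, (x : G) ∉ sideSet N K₀ → α x = 0 := fun x hx => by
    simp [α, h.sideTest_support _ hx]
  have hαg : IsGeneralizedCharacter M α := (isGeneralized_sideTest _).sub (isGeneralized_sideTest _)
  have hFgen : IsGeneralizedCharacter G F := Cfsg.Agent.S1501.result _ M _ hA α hαg (fun x hx => hαA x hx)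
  have hαI : α = indFun (N.subgroupOf M) (sfun (h.colDual j)) - indFun (N.subgroupOf M) (sfun (h.colDual k)) := by
    simp only [α, sideTest, indFun_sub]
    abel
  have hnorm : classInner F F = ((2 * Nat.card W₁ : ℤ) : ℂ) := by
    rw [show classInner F F = classInner α α from classInner_dadeIsometry_dadeIsometry hA hαg.isClassFunction
      hαA hαg.isClassFunction, hαI]
    simp only [classInner_sub_left, classInner_sub_right]
    rw [inner_ind_fixed h (h.colDual_fixed j) (h.colDual_fixed j) (h.colDual_ne_one hcomm hj),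
      inner_ind_fixed h (h.colDual_fixed k) (h.colDual_fixed k) (h.colDual_ne_one hcomm hk),
      inner_ind_fixed h (h.colDual_fixed j) (h.colDual_fixed k) (h.colDual_ne_one hcomm hk),
      inner_ind_fixed h (h.colDual_fixed k) (h.colDual_fixed j) (h.colDual_ne_one hcomm hj),
      if_pos rfl, if_pos rfl, if_neg fun e => hjk (h.colDual_injective hcomm e),
      if_neg fun e => hjk (h.colDual_injective hcomm e).symm]
    push_cast; ring
  -- the coefficients
  obtain ⟨c, hc⟩ := exists_coef hχ hFgen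
  have hq3 : 3 ≤ Nat.card W₁ := three_le_card_of_odd hodd hW.1
  have hmod : ∀ i l, c i l ≡ (if j = l then 1 else 0) - (if k = l then 1 else 0) [ZMOD Nat.card W₁] := by
    intro i l
    obtain ⟨a, ha, -, -, hmod⟩ := exists_sideCoef_eta h hA hW hχ i l
    have e : (c i l : ℂ) = (a (h.colDual j) : ℂ) - a (h.colDual k) := by
      rw [← hc i l, ← ha, ← ha, sideCoef, sideCoef]
      have hcf := (eta_gen hχ i l).isClassFunction
      simp only [F]
      rw [classInner_dade_proj hA hαg.isClassFunction hαA hcf,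
        classInner_dade_proj hA (isClassFunction_sideTest _) (fun x hx => h.sideTest_support _ hx) hcf,
        classInner_dade_proj hA (isClassFunction_sideTest _) (fun x hx => h.sideTest_support _ hx) hcf,
        ← classInner_sub_left]
    have e' : c i l = a (h.colDual j) - a (h.colDual k) := by exact_mod_cast e
    rw [e']
    simpa using (hmod j).sub (hmod k)
  set t : Col W₁ W₂ → ℤ := fun l => (if j = l then 1 else 0) - (if k = l then 1 else 0)
  have hone : ∀ i l, t l ^ 2 ≤ c i l ^ 2 := by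
    intro i l
    by_cases hl : t l = 0
    · rw [hl]; positivity
    have ht : t l = 1 ∨ t l = -1 := by
      simp only [t] at hl ⊢
      split_ifs at hl ⊢ <;> simp_all
    have hc0 : c i l ≠ 0 := fun e => by
      have hd := Int.modEq_iff_dvd.1 (hmod i l)
      rw [e, sub_zero] at hd
      have : (Nat.card W₁ : ℤ) ∣ 1 := by
        rcases ht with ht | ht <;> simp only [t] at ht <;> rw [ht] at hd
        · exact hd
        · exact (dvd_neg.1 hd)
      have := Int.le_of_dvd one_pos this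
      omega
    rcases ht with ht | ht <;> rw [ht] <;> nlinarith [Int.one_le_abs hc0, sq_abs (c i l)]
  have ht2 : ∑ l, t l ^ 2 = 2 := by
    have e : ∀ l, t l ^ 2 = (if j = l then 1 else 0) + (if k = l then 1 else 0) := fun l => by
      simp only [t]
      split_ifs with e1 e2 <;> simp_all
    simp only [e, Finset.sum_add_distrib, Finset.sum_ite_eq, Finset.mem_univ, if_true]
    norm_num
  have htot : ∑ i : Row W₁ W₂, ∑ l, t l ^ 2 = 2 * (Nat.card W₁ : ℤ) := by
    simp only [ht2, Finset.sum_const, Finset.card_univ, ← Nat.card_eq_fintype_card, card_row hW, nsmul_eq_mul]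
    ring
  have hle := coef_norm_le' hχ hc hnorm
  have heq : ∀ i l, c i l = t l := by
    intro i l
    have h1 : ∀ i l, c i l ^ 2 = t l ^ 2 := by
      intro i l
      have hsum : ∑ i : Row W₁ W₂, ∑ l, (c i l ^ 2 - t l ^ 2) = 0 := by
        refine le_antisymm ?_ (Finset.sum_nonneg fun i _ => Finset.sum_nonneg fun l _ => sub_nonneg.2 (hone i l))
        simp only [Finset.sum_sub_distrib, htot]
        linarith
      have := (Finset.sum_eq_zero_iff_of_nonneg fun i _ => Finset.sum_nonneg fun l _ =>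
        sub_nonneg.2 (hone i l)).1 hsum i (Finset.mem_univ _)
      have := (Finset.sum_eq_zero_iff_of_nonneg fun l _ => sub_nonneg.2 (hone i l)).1 this l (Finset.mem_univ _)
      linarith
    rcases sq_eq_sq_iff_eq_or_eq_neg.1 (h1 i l) with e | e
    · exact e
    · have hd := Int.modEq_iff_dvd.1 (hmod i l)
      rw [e] at hd
      have ht : t l = 0 ∨ t l = 1 ∨ t l = -1 := by simp only [t]; split_ifs <;> simp_all
      rcases ht with ht | ht | ht
      · rw [e, ht, neg_zero]
      · exfalso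
        change (Nat.card W₁ : ℤ) ∣ t l - -t l at hd
        rw [ht] at hd
        have := Int.le_of_dvd (by norm_num) hd
        omega
      · exfalso
        change (Nat.card W₁ : ℤ) ∣ t l - -t l at hd
        rw [ht] at hd
        have : (Nat.card W₁ : ℤ) ∣ 2 := by
          have := (dvd_neg).2 hd
          simpa using this
        have := Int.le_of_dvd (by norm_num) this
        omega
  -- equality in the Bessel inequality
  set T := colSum χ j - colSum χ k
  have hTe : ∀ i l, classInner T (eta χ i l) = (t l : ℂ) := fun i l => by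
    simp only [T, colSum, classInner_sub_left, classInner_sum_left, eta_orthonormal hχ, t, Int.cast_sub,
      apply_ite (fun z : ℤ => (z : ℂ)), Int.cast_one, Int.cast_zero]
    simp only [ite_and, Finset.sum_ite_eq', Finset.mem_univ, if_true]
  have hinner : ∀ X : G → ℂ, (∀ i l, classInner X (eta χ i l) = (t l : ℂ)) →
      classInner X T = ((2 * Nat.card W₁ : ℤ) : ℂ) := by
    intro X hX
    simp only [T, colSum, classInner_sub_right, classInner_sum_right, hX, t, if_neg hjk, if_neg hjk.symm,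
      if_pos, Finset.sum_const, Finset.card_univ, ← Nat.card_eq_fintype_card, card_row hW]
    push_cast; simp; ring
  have h1 := hinner F fun i l => by rw [hc, heq]
  have h2 := hinner T hTe
  have h3 : classInner T F = ((2 * Nat.card W₁ : ℤ) : ℂ) := by
    rw [← classInner_conj_symm, h1, map_intCast]
  refine sub_eq_zero.1 (eq_zero_of_classInner_self ?_)
  rw [classInner_sub_left, classInner_sub_right F F T, classInner_sub_right T F T, hnorm, h1, h2, h3]
  ring

/-- Off the TI set and the support of the Dade map the members on the second axis agree. -/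
theorem eta_col_agree (hodd : Odd (Nat.card G)) (h : Side M W₁ W₂ N K₀ u)
    (hA : DadeHypothesis (sideSet N K₀) M (Cfsg.supportR M))
    (hW : Cfsg.IsSelfNormalizingCyclic W₁ W₂) {χ : (↥(W₁ ⊔ W₂) →* ℂˣ) → (G → ℂ)}
    (hχ : IsCyclicTIFamily W₁ W₂ χ) {j k : Col W₁ W₂} (hj : j ≠ col0 W₁ W₂) (hk : k ≠ col0 W₁ W₂) {g : G}
    (hg : OffTI W₁ W₂ g) (hgA : g ∉ hitSet (sideSet N K₀) (Cfsg.supportR M)) :
    χ j.1 g = χ k.1 g := by
  by_cases hjk : j = k
  · rw [hjk]
  haveI := finite_hom (G := G) hW.2.2.2.2.1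
  haveI := Fintype.ofFinite (Row W₁ W₂)
  have e := congrFun (dade_col_sub hodd h hA hW hχ hj hk hjk) g
  rw [dadeIsometry_eq_zero fun a ha x v hv ex => hgA ⟨_, ha, v, hv, x, ex⟩] at e
  simp only [Pi.sub_apply, colSum, Finset.sum_apply, ← Finset.sum_sub_distrib] at e
  have hterm : ∀ i : Row W₁ W₂, eta χ i j g - eta χ i k g = χ j.1 g - χ k.1 g := by
    intro i
    by_cases hi : i = row0 W₁ W₂
    · subst hi
      simp only [eta, row0, cti_one_mul]
    · have hi' : i.1 ≠ 1 := fun e => hi (Subtype.ext e)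
      rw [eta, eta, eta_mul_off hχ hi' (fun e => hj (Subtype.ext e)) i.2 j.2 hg,
        eta_mul_off hχ hi' (fun e => hk (Subtype.ext e)) i.2 k.2 hg]
      ring
  rw [Finset.sum_congr rfl fun i _ => hterm i, Finset.sum_const, Finset.card_univ, ← Nat.card_eq_fintype_card,
    card_row hW, nsmul_eq_mul] at e
  rcases mul_eq_zero.1 e.symm with e' | e'
  · exact absurd (Nat.cast_eq_zero.1 e') Nat.card_pos.ne'
  · exact sub_eq_zero.1 e'

end Cfsg.Lib.OddOrder
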