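import Cfsg.Agent.Lib.OddOrder.Side
import Cfsg.Agent.Lib.OddOrder.ModEq
import Cfsg.Agent.Lib.Char.FT.Eta
import Cfsg.Agent.Lib.Local.Sigma.SigmaConjugate

/-!
# The characters of `N / K₀` on one side

The linear characters of `N` trivial on `K₀` as an `M`-set; the `|W₂|` of them fixed by `W₁` correspond to
the characters of `W₂`, and the nontrivial ones have disjoint orbits of size `u`.
-/

set_option autoImplicit false
set_option linter.unusedSectionVars false
set_option linter.style.haveILetI false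

namespace Cfsg.Lib.OddOrder

open Cfsg Cfsg.Lib.Char Cfsg.Lib.Char.FT
open scoped ComplexConjugate commutatorElement

universe u'

variable {G : Type u'} [Group G] {M W₁ W₂ N K₀ : Subgroup G} {u : ℕ}

/-- The linear characters of `N` trivial on `K₀`, seen inside `M`. -/
abbrev SDual (M N K₀ : Subgroup G) : Type u' :=
  {φ : ↥(N.subgroupOf M) →* ℂˣ // ∀ x : ↥(N.subgroupOf M), ((x : M) : G) ∈ K₀ → φ x = 1}

/-- The principal character. -/
def sdual1 (M N K₀ : Subgroup G) : SDual M N K₀ := ⟨1, fun _ _ => rfl⟩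

/-- A member as a complex function. -/
def sfun (φ : SDual M N K₀) : ↥(N.subgroupOf M) → ℂ := fun x => (φ.1 x : ℂ)

theorem sfun_sdual1 (x : ↥(N.subgroupOf M)) : sfun (sdual1 M N K₀) x = 1 := rfl

/-- A member fixed by `W₁`. -/
def IsFixedDual (W₁ : Subgroup G) (φ : SDual M N K₀) : Prop :=
  ∀ w ∈ W₁, ∀ x y : ↥(N.subgroupOf M), ((y : M) : G) = w * ((x : M) : G) * w⁻¹ → φ.1 y = φ.1 x

theorem Side.normal (h : Side M W₁ W₂ N K₀ u) : (N.subgroupOf M).Normal :=
  (Subgroup.normal_subgroupOf_iff_le_normalizer h.N_le).2 h.N_normal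

theorem Side.conj_mem (h : Side M W₁ W₂ N K₀ u) {m x : G} (hm : m ∈ M) (hx : x ∈ N) : m * x * m⁻¹ ∈ N :=
  (Subgroup.mem_normalizer_iff.1 (h.N_normal hm) x).1 hx

theorem Side.conj_mem_K (h : Side M W₁ W₂ N K₀ u) {m x : G} (hm : m ∈ M) (hx : x ∈ K₀) : m * x * m⁻¹ ∈ K₀ :=
  (Subgroup.mem_normalizer_iff.1 (h.K₀_normal hm) x).1 hx

/-- Conjugation of a member: `x ↦ φ (m⁻¹ x m)`. -/
def Side.conjDual (h : Side M W₁ W₂ N K₀ u) (m : M) (φ : SDual M N K₀) : SDual M N K₀ :=
  ⟨{ toFun := fun x => φ.1 ⟨⟨(m : G)⁻¹ * ((x : M) : G) * (m : G),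
        mul_mem (mul_mem (inv_mem m.2) (x : M).2) m.2⟩,
        Subgroup.mem_subgroupOf.2 (by simpa using h.conj_mem (inv_mem m.2) x.2)⟩
     map_one' := (congrArg φ.1 (Subtype.ext (Subtype.ext (by simp)))).trans (map_one φ.1)
     map_mul' := fun a b => by
      rw [← map_mul]
      exact congrArg φ.1 (Subtype.ext (Subtype.ext (by simp [mul_assoc]))) },
   fun x hx => φ.2 _ (by simpa using h.conj_mem_K (inv_mem m.2) hx)⟩

theorem Side.conjDual_apply (h : Side M W₁ W₂ N K₀ u) (m : M) (φ : SDual M N K₀) {x y : ↥(N.subgroupOf M)}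
    (e : ((x : M) : G) = (m : G) * ((y : M) : G) * (m : G)⁻¹) : (h.conjDual m φ).1 x = φ.1 y := by
  refine congrArg φ.1 (Subtype.ext (Subtype.ext ?_))
  show (m : G)⁻¹ * ((x : M) : G) * (m : G) = _
  rw [e]; group

theorem Side.conjDual_one (h : Side M W₁ W₂ N K₀ u) (φ : SDual M N K₀) : h.conjDual 1 φ = φ :=
  Subtype.ext (MonoidHom.ext fun _ => h.conjDual_apply 1 φ (by simp))

theorem Side.conjDual_mul (h : Side M W₁ W₂ N K₀ u) (a b : M) (φ : SDual M N K₀) :
    h.conjDual (a * b) φ = h.conjDual a (h.conjDual b φ) := by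
  refine Subtype.ext (MonoidHom.ext fun x => ?_)
  show φ.1 _ = φ.1 _
  exact congrArg φ.1 (Subtype.ext (Subtype.ext (by simp [mul_assoc])))

theorem Side.isFixedDual_iff (h : Side M W₁ W₂ N K₀ u) (φ : SDual M N K₀) :
    IsFixedDual W₁ φ ↔ ∀ w : M, (w : G) ∈ W₁ → h.conjDual w φ = φ := by
  constructor
  · intro hf w hw
    refine Subtype.ext (MonoidHom.ext fun x => ?_)
    exact (hf (w : G) hw _ x (by show _ = (w : G) * ((w : G)⁻¹ * ((x : M) : G) * (w : G)) * (w : G)⁻¹; group)).symm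
  · intro hf w hw x y e
    have := hf ⟨w, h.W₁_le hw⟩ hw
    calc φ.1 y = (h.conjDual ⟨w, h.W₁_le hw⟩ φ).1 y := by rw [this]
      _ = φ.1 x := h.conjDual_apply _ φ e

/-- The elements of `N` act trivially. -/
theorem Side.conjDual_of_mem (h : Side M W₁ W₂ N K₀ u) {m : M} (hm : (m : G) ∈ N) (φ : SDual M N K₀) :
    h.conjDual m φ = φ := by
  refine Subtype.ext (MonoidHom.ext fun x => ?_)
  set n : ↥(N.subgroupOf M) := ⟨m, Subgroup.mem_subgroupOf.2 hm⟩
  rw [h.conjDual_apply m φ (y := n⁻¹ * x * n) (by simp [n, mul_assoc]), map_mul, map_mul, map_inv,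
    mul_comm, mul_inv_cancel_left]

/-- The stabiliser of a fixed nontrivial member is `N W₁`. -/
theorem Side.conjDual_eq_self_iff (h : Side M W₁ W₂ N K₀ u) {φ : SDual M N K₀} (hφ : φ ≠ sdual1 M N K₀)
    (hf : IsFixedDual W₁ φ) (m : M) : h.conjDual m φ = φ ↔ (m : G) ∈ N ⊔ W₁ := by
  constructor
  · intro hm
    set e := Subgroup.subgroupOfEquivOfLe h.N_le
    set ψ : N →* ℂˣ := φ.1.comp e.symm.toMonoidHom
    have hψ : ∀ x : N, ψ x = φ.1 (e.symm x) := fun _ => rfl
    refine h.stab ψ (fun x hx => φ.2 (e.symm x) (by simpa [e] using hx)) (fun e1 => hφ ?_) ?_ m m.2 ?_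
    · refine Subtype.ext (MonoidHom.ext fun x => ?_)
      have := congrArg (fun f : N →* ℂˣ => f (e x)) e1
      simp only [hψ, MulEquiv.symm_apply_apply, MonoidHom.one_apply] at this
      exact this
    · intro w hw x y exy
      exact hf w hw (e.symm x) (e.symm y) (by simpa [e] using exy)
    · intro x y exy
      show φ.1 (e.symm y) = φ.1 (e.symm x)
      calc φ.1 (e.symm y) = (h.conjDual m φ).1 (e.symm y) := by rw [hm]
        _ = φ.1 (e.symm x) := h.conjDual_apply m φ (by simpa [e] using exy)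
  · intro hm
    obtain ⟨a, ha, w, hw, e⟩ := Cfsg.Lib.Coprime.exists_mul_of_mem_sup
      (h.W₁_le.trans h.N_normal) hm
    have : m = ⟨a, h.N_le ha⟩ * ⟨w, h.W₁_le hw⟩ := Subtype.ext e
    rw [this, h.conjDual_mul, (h.isFixedDual_iff φ).1 hf _ hw, h.conjDual_of_mem ha]

theorem Side.ne_bot_W₁ (h : Side M W₁ W₂ N K₀ u) : W₁ ≠ ⊥ := fun e =>
  h.W₁_prime.ne_one (by rw [e, Subgroup.card_bot])

section Finite

variable [Finite G]

instance finite_sdual : Finite (SDual M N K₀) := by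
  haveI : Finite (↥(N.subgroupOf M) →* ℂˣ) :=
    Finite.of_injective _ (linearCharEquiv (G := ↥(N.subgroupOf M))).injective
  infer_instance

/-- `N / K₀` as an abelian group. -/
theorem Side.exists_quotient_equiv (h : Side M W₁ W₂ N K₀ u) :
    ∃ (Q : Type u') (_ : CommGroup Q) (_ : Finite Q) (π : ↥(N.subgroupOf M) →* Q),
      Nat.card Q = K₀.relIndex N ∧ Function.Surjective π ∧
        ∀ x : ↥(N.subgroupOf M), π x = 1 ↔ ((x : M) : G) ∈ K₀ := by
  set Nm := N.subgroupOf M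
  set Km := (K₀.subgroupOf M).subgroupOf Nm
  haveI : (K₀.subgroupOf M).Normal :=
    (Subgroup.normal_subgroupOf_iff_le_normalizer (h.K₀_le.trans h.N_le)).2 h.K₀_normal
  haveI hKn : Km.Normal := inferInstance
  letI : CommGroup (Nm ⧸ Km) :=
    { (inferInstance : Group (Nm ⧸ Km)) with
      mul_comm := fun a b => by
        induction a using QuotientGroup.induction_on with | _ a => ?_
        induction b using QuotientGroup.induction_on with | _ b => ?_
        rw [← QuotientGroup.mk_mul, ← QuotientGroup.mk_mul, QuotientGroup.eq]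
        refine Subgroup.mem_subgroupOf.2 (Subgroup.mem_subgroupOf.2 (h.derived_le ?_))
        have := Subgroup.commutator_mem_commutator (H₁ := N) (H₂ := N)
          (inv_mem (Subgroup.mem_subgroupOf.1 b.2)) (inv_mem (Subgroup.mem_subgroupOf.1 a.2))
        simpa [commutatorElement_def, mul_assoc] using this }
  refine ⟨Nm ⧸ Km, inferInstance, inferInstance, QuotientGroup.mk' Km, ?_, QuotientGroup.mk'_surjective Km,
    fun x => ?_⟩
  · rw [← Subgroup.index_eq_card]
    exact Subgroup.relIndex_subgroupOf h.N_le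
  · exact (QuotientGroup.eq_one_iff x).trans (Iff.trans Subgroup.mem_subgroupOf Subgroup.mem_subgroupOf)

/-- `SDual` is the dual of the abelian group `N / K₀`. -/
theorem Side.card_sdual (h : Side M W₁ W₂ N K₀ u) : Nat.card (SDual M N K₀) = K₀.relIndex N := by
  obtain ⟨Q, _, _, π, hQ, hπ, hker⟩ := h.exists_quotient_equiv
  rw [← hQ, ← card_monoidHom_units Q]
  refine (Nat.card_eq_of_bijective
    (fun f : Q →* ℂˣ => (⟨f.comp π, fun x hx => by simp [(hker x).2 hx]⟩ : SDual M N K₀)) ⟨?_, ?_⟩).symm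
  · intro a b e
    refine MonoidHom.ext fun z => ?_
    obtain ⟨x, rfl⟩ := hπ z
    exact DFunLike.congr_fun (congrArg Subtype.val e) x
  · intro φ
    refine ⟨(π.liftOfSurjective hπ) ⟨φ.1, fun x hx => φ.2 x ((hker x).1 hx)⟩, Subtype.ext ?_⟩
    exact MonoidHom.liftOfRightInverse_comp _ _ _ _

/-- The members separate the elements outside `K₀`. -/
theorem Side.exists_apply_ne_one (h : Side M W₁ W₂ N K₀ u) {v : G} (hv : v ∈ N) (hvK : v ∉ K₀) :
    ∃ φ : SDual M N K₀, φ.1 ⟨⟨v, h.N_le hv⟩, Subgroup.mem_subgroupOf.2 hv⟩ ≠ 1 := by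
  obtain ⟨Q, _, _, π, -, -, hker⟩ := h.exists_quotient_equiv
  set x : ↥(N.subgroupOf M) := ⟨⟨v, h.N_le hv⟩, Subgroup.mem_subgroupOf.2 hv⟩
  haveI : HasEnoughRootsOfUnity ℂ (Monoid.exponent Q) := by
    haveI : NeZero (Monoid.exponent Q) := ⟨Monoid.exponent_ne_zero_of_finite⟩
    infer_instance
  obtain ⟨f, hf⟩ := CommGroup.exists_apply_ne_one_of_hasEnoughRootsOfUnity Q ℂ
    (a := π x) fun e => hvK ((hker x).1 e)
  exact ⟨⟨f.comp π, fun y hy => by simp [(hker y).2 hy]⟩, hf⟩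

/-- The orbit of a fixed nontrivial member has `u` elements. -/
theorem Side.ncard_orbit (h : Side M W₁ W₂ N K₀ u) {φ : SDual M N K₀} (hφ : φ ≠ sdual1 M N K₀)
    (hf : IsFixedDual W₁ φ) : (Set.range fun m : M => h.conjDual m φ).ncard = u := by
  classical
  letI : MulAction M (SDual M N K₀) :=
    { smul := h.conjDual, one_smul := h.conjDual_one, mul_smul := h.conjDual_mul }
  have hst : MulAction.stabilizer M φ = (N ⊔ W₁).subgroupOf M := by
    ext m
    rw [MulAction.mem_stabilizer_iff, Subgroup.mem_subgroupOf]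
    exact h.conjDual_eq_self_iff hφ hf m
  show (MulAction.orbit M φ).ncard = u
  rw [← MulAction.index_stabilizer, hst]
  have hle : N ⊔ W₁ ≤ M := sup_le h.N_le h.W₁_le
  have hdisj : N ⊓ W₁ = ⊥ := Subgroup.inf_eq_bot_of_coprime h.W₁_coprime.symm
  have hcard : Nat.card ↥(N ⊔ W₁) = Nat.card N * Nat.card W₁ :=
    (Cfsg.Lib.Local.Sigma.card_of_isComplIn ⟨le_sup_left, le_sup_right, hdisj,
      fun m hm => Cfsg.Lib.Coprime.exists_mul_of_mem_sup (h.W₁_le.trans h.N_normal) hm⟩).symm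
  have h1 := Subgroup.card_mul_index ((N ⊔ W₁).subgroupOf M)
  rw [Nat.card_congr (Subgroup.subgroupOfEquivOfLe hle).toEquiv, hcard, h.card_eq] at h1
  refine Nat.eq_of_mul_eq_mul_left (Nat.mul_pos (Nat.card_pos (α := N)) (Nat.card_pos (α := W₁))) ?_
  rw [h1]; ring

/-- The orbits of two fixed members meet only if they are equal. -/
theorem Side.eq_of_conjDual (h : Side M W₁ W₂ N K₀ u) {φ φ' : SDual M N K₀} (hf : IsFixedDual W₁ φ)
    (hf' : IsFixedDual W₁ φ') {m : M} (e : h.conjDual m φ = φ') : φ = φ' := by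
  by_cases hφ : φ = sdual1 M N K₀
  · rw [← e, hφ]
    exact Subtype.ext (MonoidHom.ext fun x => rfl)
  have hm : (m : G)⁻¹ ∈ N ⊔ W₁ := by
    refine h.normalizer_le _ (inv_mem m.2) fun w hw => ?_
    rw [inv_inv]
    refine (h.conjDual_eq_self_iff hφ hf (m⁻¹ * ⟨w, h.W₁_le hw⟩ * m)).1 ?_
    rw [h.conjDual_mul, h.conjDual_mul, e, (h.isFixedDual_iff φ').1 hf' _ hw, ← e, ← h.conjDual_mul,
      inv_mul_cancel, h.conjDual_one]
  rw [← e, (h.conjDual_eq_self_iff hφ hf m).2 (by simpa using inv_mem hm)]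

end Finite

end Cfsg.Lib.OddOrder
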