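import Cfsg.Agent.Lib.OddOrder.Side
import Cfsg.Agent.Lib.OddOrder.SideAction

/-!
# Existence of a side

Section 1 of the main line of the odd order theorem: data of type P with `U ≠ 1` and `|W₁|`, `|W₂|` primes
give a side `N = H D`, `K₀ = H₀ D`, also with `[N, N]` for `K₀`.
-/

set_option autoImplicit false
set_option linter.style.haveILetI false

namespace Cfsg.Lib.OddOrder

open Subgroup Cfsg
open Cfsg.Lib.Local.Sigma
open scoped commutatorElement

universe u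

variable {G : Type u} [Group G] [Finite G] {M W₁ U W₂ N K₀ : Subgroup G} {u : ℕ}

/-- `W₁` has no fixed point on `K₀`, so a `W₁`-invariant linear character of `N` kills `K₀`. -/
theorem Side.eq_one_on (h : Side M W₁ W₂ N K₀ u) {φ : N →* ℂˣ} (hφ : ∀ w ∈ W₁, InvariantHom N φ w)
    {x : N} (hx : (x : G) ∈ K₀) : φ x = 1 := by
  obtain ⟨w, hw, hw1⟩ := W₁.bot_or_exists_ne_one.resolve_left fun e =>
    h.W₁_prime.ne_one (by rw [e, card_bot])
  have hwK : ∀ k ∈ K₀, w * k * w⁻¹ ∈ K₀ := fun k hk =>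
    (mem_normalizer_iff.1 (h.K₀_normal (h.W₁_le hw)) k).1 hk
  let f : K₀ → K₀ := fun k => ⟨(k : G)⁻¹ * (w * k * w⁻¹), mul_mem (inv_mem k.2) (hwK k k.2)⟩
  have hf : Function.Injective f := by
    intro a b hab
    have h1 : (a : G)⁻¹ * (w * a * w⁻¹) = (b : G)⁻¹ * (w * b * w⁻¹) := congrArg Subtype.val hab
    have h2 : w * ((b : G) * (a : G)⁻¹) * w⁻¹ = (b : G) * (a : G)⁻¹ := by
      calc w * ((b : G) * (a : G)⁻¹) * w⁻¹ = (w * b * w⁻¹) * (w * a * w⁻¹)⁻¹ := by group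
        _ = ((b : G) * ((b : G)⁻¹ * (w * b * w⁻¹))) * ((a : G) * ((a : G)⁻¹ * (w * a * w⁻¹)))⁻¹ := by group
        _ = _ := by rw [h1]; group
    have h3 : (b : G) * (a : G)⁻¹ ∈ W₂ ⊓ K₀ := ⟨(h.centralizer_eq w hw hw1).le
      ⟨h.K₀_le (K₀.mul_mem b.2 (K₀.inv_mem a.2)), mem_centralizer_singleton_iff.2 (by
        calc (b : G) * (a : G)⁻¹ * w = w * ((b : G) * (a : G)⁻¹) * w⁻¹ * w := by rw [h2]
          _ = _ := by group)⟩, K₀.mul_mem b.2 (K₀.inv_mem a.2)⟩
    rw [h.W₂_inf, mem_bot] at h3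
    exact (Subtype.ext (mul_inv_eq_one.1 h3)).symm
  obtain ⟨k, hk⟩ := (Finite.injective_iff_surjective.1 hf) ⟨x, hx⟩
  have hk' : (k : G)⁻¹ * (w * k * w⁻¹) = (x : G) := congrArg Subtype.val hk
  have hxe : x = (⟨k, h.K₀_le k.2⟩ : N)⁻¹ * ⟨w * k * w⁻¹, h.K₀_le (hwK k k.2)⟩ := Subtype.ext hk'.symm
  rw [hxe, map_mul, map_inv, hφ w hw ⟨k, h.K₀_le k.2⟩ ⟨_, h.K₀_le (hwK k k.2)⟩ rfl, inv_mul_cancel]

/-- A side with `[N, N]` for `K₀`. -/
theorem Side.refine (h : Side M W₁ W₂ N K₀ u) (hA : (N : Set G) \ (⁅N, N⁆ : Subgroup G) ⊆ typeA0 M) :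
    Side M W₁ W₂ N ⁅N, N⁆ u :=
  { h with
    K₀_le := h.derived_le.trans h.K₀_le
    K₀_normal := h.N_normal.trans (Cfsg.Lib.Local.FreeAction.normalizer_le_normalizer_commutator N)
    derived_le := le_rfl
    W₂_inf := eq_bot_iff.2 ((inf_le_inf_left _ h.derived_le).trans h.W₂_inf.le)
    stab := fun φ _ hφ1 hφW m hm hφm => h.stab φ (fun _ hx => h.eq_one_on hφW hx) hφ1 hφW m hm hφm
    subset_A0 := hA }

omit [Finite G] in
theorem InvariantHom.mul {φ : N →* ℂˣ} {a b : G} (hb' : b ∈ normalizer (N : Set G))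
    (ha : InvariantHom N φ a) (hb : InvariantHom N φ b) : InvariantHom N φ (a * b) := fun x y e => by
  have hx : b * x * b⁻¹ ∈ N := (mem_normalizer_iff.1 hb' x).1 x.2
  rw [ha ⟨_, hx⟩ y (by rw [e]; group), hb x ⟨_, hx⟩ rfl]

omit [Finite G] in
theorem InvariantHom.inv {φ : N →* ℂˣ} {a : G} (ha : InvariantHom N φ a) : InvariantHom N φ a⁻¹ :=
  fun x y e => (ha y x (by rw [e]; group)).symm

omit [Finite G] in
theorem InvariantHom.of_mem (φ : N →* ℂˣ) {a : G} (ha : a ∈ N) : InvariantHom N φ a := fun x y e => by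
  rw [show y = ⟨a, ha⟩ * x * (⟨a, ha⟩ : N)⁻¹ from Subtype.ext e, map_mul, map_mul, map_inv,
    mul_inv_cancel_comm]

namespace SideHyp

omit [Finite G] in
theorem conj_D_mem (_h : SideHyp M W₁ U W₂) {g d : G} (hg : g ∈ fittingHallOf M) (hd : d ∈ sideD M U) :
    g * d * g⁻¹ ∈ sideK M U := by
  rw [show g * d * g⁻¹ = (d * (⁅d⁻¹, g⁆) * d⁻¹) * d by simp [commutatorElement_def, mul_assoc]]
  refine mul_mem (mem_sup_left ?_) (mem_sup_right hd)
  exact (mem_normalizer_iff.1 hd.2.1.2 _).1 (((chiefKer (fittingHallOf M) (sideH₀ M U)).inv_mem hd.2).2 g hg)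

theorem normalizer_sup_D (h : SideHyp M W₁ U W₂) {A : Subgroup G}
    (hA : A = fittingHallOf M ∨ A = sideH₀ M U) : M ≤ normalizer (↑(A ⊔ sideD M U) : Set G) := by
  have hAn : M ≤ normalizer (A : Set G) := by
    rcases hA with rfl | rfl
    · exact h.M_le_normalizer_H
    · exact h.factor.1
  refine h.le_of_parts (fun g hg => mem_normalizer_of_forall fun x hx => ?_)
    (fun g hg => mem_normalizer_of_forall fun x hx => ?_) (fun g hg => mem_normalizer_of_forall fun x hx => ?_)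
  all_goals
    revert x hx
    suffices hle : A ⊔ sideD M U ≤ (A ⊔ sideD M U).comap (MulAut.conj g).toMonoidHom from fun x hx => hle hx
    refine sup_le (fun a ha => mem_sup_left ?_) (fun d hd => ?_)
  · exact (mem_normalizer_iff.1 (hAn ((h.H_le_derived.trans h.derived_le) hg)) a).1 ha
  · rcases hA with rfl | rfl
    · exact (sup_le_sup_right inf_le_left _ : sideK M U ≤ sideN M U) (h.conj_D_mem hg hd)
    · exact h.conj_D_mem hg hd
  · exact (mem_normalizer_iff.1 (hAn (h.U_le hg)) a).1 ha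
  · exact mem_sup_right ((mem_normalizer_iff.1 (h.le_normalizer_D (h.U_le hg) (Subgroup.le_normalizer hg)) d).1 hd)
  · exact (mem_normalizer_iff.1 (hAn (h.W₁_le hg)) a).1 ha
  · exact mem_sup_right ((mem_normalizer_iff.1 (h.le_normalizer_D (h.W₁_le hg) (h.typeP.U_normal hg)) d).1 hd)

omit [Finite G] in
theorem N_le_derived (h : SideHyp M W₁ U W₂) : sideN M U ≤ ⁅M, M⁆ :=
  sup_le h.H_le_derived (inf_le_left.trans h.U_le_derived)

theorem N_le_chiefKer (h : SideHyp M W₁ U W₂) : sideN M U ≤ chiefKer (fittingHallOf M) (sideH₀ M U) :=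
  sup_le (fun g hg => ⟨⟨Subgroup.le_normalizer hg, h.factor.1 (h.H_le_derived.trans h.derived_le hg)⟩,
    fun y hy => h.factor.2.1 (commutator_mem_commutator hg hy)⟩) inf_le_right

theorem N_elem (h : SideHyp M W₁ U W₂) {x : G} (hx : x ∈ sideN M U) :
    ∃ a ∈ fittingHallOf M, ∃ d ∈ sideD M U, x = a * d :=
  Cfsg.Lib.Coprime.exists_mul_of_mem_sup ((inf_le_left.trans h.U_le).trans h.M_le_normalizer_H) hx

theorem K_inf_H (h : SideHyp M W₁ U W₂) : sideK M U ⊓ fittingHallOf M = sideH₀ M U := by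
  refine le_antisymm (fun x hx => ?_) (le_inf le_sup_left inf_le_left)
  obtain ⟨a, ha, d, hd, rfl⟩ :=
    Cfsg.Lib.Coprime.exists_mul_of_mem_sup ((inf_le_left.trans h.U_le).trans h.factor.1) hx.1
  have hd1 : d = 1 := mem_bot.1 (h.typeP.U_compl.2.2.1.le
    ⟨by simpa using (fittingHallOf M).mul_mem ((fittingHallOf M).inv_mem ha.1) hx.2, hd.1⟩)
  rwa [hd1, mul_one]

theorem card_N (h : SideHyp M W₁ U W₂) :
    Nat.card (sideN M U) = Nat.card (fittingHallOf M) * Nat.card (sideD M U) ∧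
      (fittingHallOf M).relIndex (sideN M U) = Nat.card (sideD M U) ∧
      Nat.card (sideK M U) = Nat.card (sideH₀ M U) * Nat.card (sideD M U) := by
  have hd : Disjoint (fittingHallOf M) (sideD M U) :=
    (Cfsg.Lib.Coprime.disjoint_of_coprime_card h.coprime_HU).mono_right inf_le_left
  have h1 : Nat.card (sideN M U) = Nat.card (fittingHallOf M) * Nat.card (sideD M U) :=
    Cfsg.Lib.Coprime.card_sup_of_disjoint ((inf_le_left.trans h.U_le).trans h.M_le_normalizer_H) hd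
  refine ⟨h1, Nat.eq_of_mul_eq_mul_left Nat.card_pos
    ((Cfsg.Lib.Core.card_mul_relIndex le_sup_left).trans h1), ?_⟩
  exact Cfsg.Lib.Coprime.card_sup_of_disjoint ((inf_le_left.trans h.U_le).trans h.factor.1)
    (hd.mono_left inf_le_left)

theorem relIndex_K (h : SideHyp M W₁ U W₂) :
    (sideK M U).relIndex (sideN M U) = Nat.card W₂ ^ Nat.card W₁ := by
  obtain ⟨h1, -, h3⟩ := h.card_N
  refine Nat.eq_of_mul_eq_mul_left (Nat.card_pos (α := sideK M U)) ?_
  rw [Cfsg.Lib.Core.card_mul_relIndex (show sideK M U ≤ sideN M U from sup_le_sup_right inf_le_left _), h1, h3, ← h.factor.2.2.2.2.1,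
    mul_right_comm, Cfsg.Lib.Core.card_mul_relIndex (show sideH₀ M U ≤ fittingHallOf M from inf_le_left)]

theorem derived_N_le (h : SideHyp M W₁ U W₂) : ⁅sideN M U, sideN M U⁆ ≤ sideK M U := by
  haveI hn : ((sideK M U).subgroupOf (sideN M U)).Normal :=
    subgroupOf_normal_of ((h.N_le_derived.trans h.derived_le).trans (h.normalizer_sup_D (Or.inr rfl)))
  refine commutator_le.2 fun x hx y hy => ?_
  obtain ⟨a, ha, d, hd, rfl⟩ := h.N_elem hx
  obtain ⟨b, hb, e, he, rfl⟩ := h.N_elem hy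
  set π := QuotientGroup.mk' ((sideK M U).subgroupOf (sideN M U))
  have hπ : ∀ z : sideN M U, (z : G) ∈ sideK M U → π z = 1 := fun z hz =>
    (QuotientGroup.eq_one_iff z).2 (mem_subgroupOf.2 hz)
  let A : sideN M U := ⟨a, mem_sup_left ha⟩
  let B : sideN M U := ⟨b, mem_sup_left hb⟩
  let D' : sideN M U := ⟨d, mem_sup_right hd⟩
  let E' : sideN M U := ⟨e, mem_sup_right he⟩
  have h1 : π ⁅A * D', B * E'⁆ = 1 := by
    rw [map_commutatorElement, map_mul, map_mul, hπ D' (mem_sup_right hd), hπ E' (mem_sup_right he),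
      mul_one, mul_one, ← map_commutatorElement]
    exact hπ _ (mem_sup_left (h.factor.2.1 (commutator_mem_commutator ha hb)))
  exact mem_subgroupOf.1 ((QuotientGroup.eq_one_iff _).1 h1)

/-- Every nontrivial element of `N` is in `A(M)`. -/
theorem mem_typeA (h : SideHyp M W₁ U W₂) {a : G} (ha : a ∈ sideN M U) (ha1 : a ≠ 1) : a ∈ typeA M := by
  obtain ⟨K', U', hU'⟩ := exists_decomposition h.minSimple h.coatom
  have hnI : ¬ IsOfTypeI M := fun hI =>
    ne_bot_of_typeP h.minSimple h.coatom hU' h.typeP (eq_bot_of_typeI h.minSimple h.coatom hU' hI).1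
  rw [typeA, if_neg hnI]
  refine ⟨h.N_le_derived ha, ha1, ?_⟩
  suffices hy : ∃ y ∈ fittingHallOf M, y ≠ 1 ∧ a * y = y * a by
    obtain ⟨y, hy, hy1, hc⟩ := hy
    refine ⟨y, ?_, hy1, hc⟩
    rw [typeCore]
    split_ifs
    · exact h.H_le_derived hy
    · exact hy
  obtain ⟨-, -, hlt, -⟩ := h.factor
  by_cases hco : (orderOf a).Coprime (Nat.card (fittingHallOf M))
  · obtain ⟨x, hx, hx0⟩ := SetLike.exists_of_lt hlt
    have hz : zpowers a ≤ normalizer (fittingHallOf M : Set G) :=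
      zpowers_le.2 (h.M_le_normalizer_H (h.N_le_derived.trans h.derived_le ha))
    have hz0 : zpowers a ≤ normalizer (sideH₀ M U : Set G) :=
      zpowers_le.2 (h.factor.1 (h.N_le_derived.trans h.derived_le ha))
    obtain ⟨n, hn, c, hc, hxe⟩ := Cfsg.Lib.Coprime.exists_mul_centralizer_of_commutator_mem hz
      (by rwa [Nat.card_zpowers]) (Or.inr h.solvable_H) hlt.le hz0 hx (fun v hv => by
        rw [← commutatorElement_inv]
        exact inv_mem ((h.N_le_chiefKer (zpowers_le.2 ha hv)).2 x hx))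
    refine ⟨c, hc.1, fun e => hx0 ?_, mem_centralizer_iff.1 hc.2 a (mem_zpowers a)⟩
    rw [hxe, e, mul_one]; exact hn
  · obtain ⟨l, hl, hla, hlH⟩ := Nat.Prime.not_coprime_iff_dvd.1 hco
    refine ⟨a ^ (orderOf a / l), ?_, fun e => hl.ne_one ?_, (Commute.refl a).pow_right _ |>.eq⟩
    · refine mem_of_coprime_relIndex (show fittingHallOf M ≤ sideN M U from le_sup_left)
        ((h.N_le_derived.trans h.derived_le).trans h.M_le_normalizer_H) (pow_mem ha _) ?_
      rw [orderOf_pow_orderOf_div (orderOf_pos a).ne' hla]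
      show l.Coprime ((fittingHallOf M).relIndex (sideN M U))
      rw [h.card_N.2.1]
      exact hl.coprime_iff_not_dvd.2 fun hd => hl.ne_one (Nat.eq_one_of_dvd_coprimes h.coprime_HU hlH
        (hd.trans (card_dvd_of_le inf_le_left)))
    · rw [← orderOf_pow_orderOf_div (orderOf_pos a).ne' hla, e, orderOf_one]

/-- `C (x) ≤ M` for the nontrivial elements of `W₂`. -/
theorem centralizer_W₂_le (h : SideHyp M W₁ U W₂) {x : G} (hx : x ∈ W₂) (hx1 : x ≠ 1) :
    centralizer ({x} : Set G) ≤ M := by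
  obtain ⟨K', U', hU'⟩ := exists_decomposition h.minSimple h.coatom
  have hK1 := ne_bot_of_typeP h.minSimple h.coatom hU' h.typeP
  obtain ⟨V', hV', hKV'⟩ := exists_invariant_compl h.minSimple h.coatom hU' hK1
  have hP := typeP_of_compl h.minSimple h.coatom hU' hK1 hV' hKV'
  have hcard : Nat.card W₁ = Nat.card K' := Nat.eq_of_mul_eq_mul_left Nat.card_pos
    ((card_of_isComplIn h.typeP.W₁_compl).trans (card_of_isComplIn hP.W₁_compl).symm)
  have hHall : IsPiHallOf (kappa M) W₁ M := by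
    refine ⟨h.W₁_le, fun t ht hd => hU'.hall.2.1 t ht (hcard ▸ hd), fun t ht htk hd => ?_⟩
    have e : W₁.relIndex M = K'.relIndex M := Nat.eq_of_mul_eq_mul_left Nat.card_pos
      ((Cfsg.Lib.Core.card_mul_relIndex h.W₁_le).trans ((congrArg (· * K'.relIndex M) hcard).trans
        (Cfsg.Lib.Core.card_mul_relIndex hU'.hall.1)).symm)
    exact hU'.hall.2.2 t ht htk (e ▸ hd)
  haveI : Fact (Nat.card W₂).Prime := ⟨h.p_prime⟩
  exact (unique_of_kstar (q := Nat.card W₂) h.minSimple h.coatom hHall h.typeP.W₁_ne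
    ⟨fittingHallOf_le h.minSimple h.coatom (h.W₂_le_H hx), mem_centralizer_iff.2 fun v hv => h.commute_W hv hx⟩
    (congrArg Subtype.val (pow_card_eq_one' (x := (⟨x, hx⟩ : W₂)))) hx1).1.1

omit [Finite G] in
theorem decomp (h : SideHyp M W₁ U W₂) {m : G} (hm : m ∈ M) :
    ∃ a ∈ sideN M U, ∃ x ∈ U, ∃ w ∈ W₁, m = a * x * w := by
  obtain ⟨c, hc, w, hw, rfl⟩ := h.typeP.W₁_compl.2.2.2 m hm
  obtain ⟨a, ha, x, hx, rfl⟩ := h.typeP.U_compl.2.2.2 c hc
  exact ⟨a, mem_sup_left ha, x, hx, w, hw, rfl⟩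

theorem normalizer_le' (h : SideHyp M W₁ U W₂) {m : G} (hm : m ∈ M)
    (hmW : ∀ w ∈ W₁, m * w * m⁻¹ ∈ sideN M U ⊔ W₁) : m ∈ sideN M U ⊔ W₁ := by
  obtain ⟨a, ha, x, hx, w₀, hw₀, rfl⟩ := h.decomp hm
  have hN : W₁ ≤ normalizer (sideN M U : Set G) := h.W₁_le.trans (h.normalizer_sup_D (Or.inl rfl))
  refine mul_mem (mul_mem (mem_sup_left ha) (mem_sup_left (mem_sup_right ?_))) (mem_sup_right hw₀)
  refine h.mem_D_of_fixed hx fun w hw => ?_
  have h1 := hmW (w₀⁻¹ * w * w₀) (mul_mem (mul_mem (inv_mem hw₀) hw) hw₀)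
  have h2 : ⁅x, w⁆ ∈ sideN M U ⊔ W₁ := by
    have h3 := mul_mem (mul_mem (mul_mem (inv_mem (mem_sup_left ha)) h1) (mem_sup_left ha))
      (inv_mem (mem_sup_right hw : w ∈ sideN M U ⊔ W₁))
    convert h3 using 1
    rw [commutatorElement_def]; group
  have h4 : ⁅x, w⁆ ∈ U := by
    rw [show ⁅x, w⁆ = x * (w * x⁻¹ * w⁻¹) by simp [commutatorElement_def, mul_assoc]]
    exact mul_mem hx ((mem_normalizer_iff.1 (h.typeP.U_normal hw) _).1 (inv_mem hx))
  obtain ⟨n, hn, v, hv, he⟩ := Cfsg.Lib.Coprime.exists_mul_of_mem_sup hN h2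
  have hv1 : v = 1 := mem_bot.1 (h.typeP.W₁_compl.2.2.1.le
    ⟨by simpa [he] using mul_mem (inv_mem (h.N_le_derived hn)) (h.U_le_derived h4), hv⟩)
  rw [hv1, mul_one] at he
  rw [he] at h4 ⊢
  obtain ⟨b, hb, d, hd, rfl⟩ := h.N_elem hn
  have hb1 : b = 1 := mem_bot.1 (h.typeP.U_compl.2.2.1.le
    ⟨hb, by simpa using mul_mem h4 (inv_mem hd.1)⟩)
  rwa [hb1, one_mul]

theorem stab' (h : SideHyp M W₁ U W₂) (φ : sideN M U →* ℂˣ)
    (hφK : ∀ x : sideN M U, (x : G) ∈ sideK M U → φ x = 1) (hφ1 : φ ≠ 1)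
    (hφW : ∀ w ∈ W₁, InvariantHom (sideN M U) φ w) {m : G} (hm : m ∈ M)
    (hφm : InvariantHom (sideN M U) φ m) : m ∈ sideN M U ⊔ W₁ := by
  obtain ⟨hMn, hder, hlt, -, -, hmax⟩ := h.factor
  set H := fittingHallOf M
  have hNn : M ≤ normalizer ((sideN M U) : Set G) := h.normalizer_sup_D (Or.inl rfl)
  obtain ⟨a, ha, x, hx, w₀, hw₀, rfl⟩ := h.decomp hm
  refine mul_mem (mul_mem (mem_sup_left ha) (mem_sup_left (mem_sup_right ?_))) (mem_sup_right hw₀)
  have hxs : InvariantHom (sideN M U) φ x := by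
    have h1 := InvariantHom.mul (hNn (inv_mem (h.W₁_le hw₀))) (InvariantHom.mul (hNn hm)
      (InvariantHom.of_mem φ (inv_mem ha)) hφm) (hφW _ (inv_mem hw₀))
    simpa [mul_assoc] using h1
  -- the stabiliser inside `U`
  let A : Subgroup G :=
    { carrier := {v | v ∈ U ∧ InvariantHom (sideN M U) φ v}
      one_mem' := ⟨one_mem _, InvariantHom.of_mem φ (one_mem _)⟩
      mul_mem' := fun {a b} ha hb => ⟨mul_mem ha.1 hb.1, InvariantHom.mul (hNn (h.U_le hb.1)) ha.2 hb.2⟩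
      inv_mem' := fun {a} ha => ⟨inv_mem ha.1, ha.2.inv⟩ }
  have hAW : W₁ ≤ normalizer (A : Set G) := fun w hw => mem_normalizer_of_forall fun v hv =>
    ⟨(mem_normalizer_iff.1 (h.typeP.U_normal hw) v).1 hv.1,
      InvariantHom.mul (hNn (inv_mem (h.W₁_le hw)))
        (InvariantHom.mul (hNn (h.U_le hv.1)) (hφW w hw) hv.2) (hφW w hw).inv⟩
  have hAU : U ≤ normalizer (A : Set G) := fun g hg => mem_normalizer_of_forall fun v hv => by
    rw [show g * v * g⁻¹ = ⁅g, v⁆ * v by simp [commutatorElement_def, mul_assoc]]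
    have hd := h.derived_U_le_D (commutator_mem_commutator hg hv.1)
    exact mul_mem (s := A) ⟨hd.1, InvariantHom.of_mem φ (mem_sup_right hd)⟩ hv
  set Y := sideH₀ M U ⊔ ⁅H, A⁆ with hY
  have hAH : A ≤ normalizer (H : Set G) := fun v hv => h.M_le_normalizer_H (h.U_le hv.1)
  have hcH : ⁅H, A⁆ ≤ H := Cfsg.Lib.Coprime.commutator_le_of_le_normalizer hAH
  have hYH : Y ≤ H := sup_le inf_le_left hcH
  have hconj : ∀ g ∈ M, g ∈ normalizer (A : Set G) → g ∈ normalizer (Y : Set G) := by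
    intro g hg hgA
    refine mem_normalizer_of_forall fun y hy => ?_
    suffices hle : Y ≤ Y.comap (MulAut.conj g).toMonoidHom from hle hy
    refine sup_le (fun z hz => mem_sup_left ((mem_normalizer_iff.1 (hMn hg) z).1 hz))
      (commutator_le.2 fun b hb c hc => ?_)
    show g * ⁅b, c⁆ * g⁻¹ ∈ Y
    rw [conj_commutatorElement']
    exact mem_sup_right (commutator_mem_commutator ((mem_normalizer_iff.1 (h.M_le_normalizer_H hg) b).1 hb)
      ((mem_normalizer_iff.1 hgA c).1 hc))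
  have hHY : H ≤ normalizer (Y : Set G) := fun g hg => mem_normalizer_of_forall fun y hy => by
    rw [show g * y * g⁻¹ = ⁅g, y⁆ * y by simp [commutatorElement_def, mul_assoc]]
    exact mul_mem (mem_sup_left (hder (commutator_mem_commutator hg (hYH hy)))) hy
  have hYn : M ≤ normalizer (Y : Set G) := h.le_of_parts hHY (fun g hg => hconj g (h.U_le hg) (hAU hg))
    (fun g hg => hconj g (h.W₁_le hg) (hAW hg))
  have hYker : Y ≤ φ.ker.map (sideN M U).subtype := by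
    refine sup_le (fun z hz => ⟨⟨z, mem_sup_left hz.1⟩, hφK _ (mem_sup_left hz), rfl⟩)
      (commutator_le.2 fun b hb c hc => ?_)
    have hbN : b ∈ (sideN M U) := mem_sup_left hb
    have hc' : c * b⁻¹ * c⁻¹ ∈ (sideN M U) := (mem_normalizer_iff.1 (hNn (h.U_le hc.1)) _).1 (inv_mem hbN)
    refine ⟨⟨b, hbN⟩ * ⟨c * b⁻¹ * c⁻¹, hc'⟩, MonoidHom.mem_ker.2 ?_, ?_⟩
    · rw [map_mul, hc.2 (⟨b, hbN⟩⁻¹) ⟨_, hc'⟩ rfl, map_inv, mul_inv_cancel]
    · simp [commutatorElement_def, mul_assoc]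
  rcases hmax Y le_sup_left hYH hYn with he | he
  · refine ⟨hx, ⟨h.M_le_normalizer_H (h.U_le hx), hMn (h.U_le hx)⟩, fun y hy => ?_⟩
    rw [← commutatorElement_inv]
    exact inv_mem (he.le (mem_sup_right (commutator_mem_commutator hy (show x ∈ A from ⟨hx, hxs⟩))))
  · refine absurd (MonoidHom.ext fun z => ?_) hφ1
    obtain ⟨b, hb, d, hd, hz⟩ := h.N_elem z.2
    obtain ⟨b', hb', hbe⟩ := hYker (he.ge hb)
    rw [show z = b' * ⟨d, mem_sup_right hd⟩ from Subtype.ext (by simp [hz, ← hbe]), map_mul,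
      MonoidHom.mem_ker.1 hb', hφK _ (mem_sup_right hd), one_mul, MonoidHom.one_apply]

theorem side (h : SideHyp M W₁ U W₂) :
    Side M W₁ W₂ (sideN M U) (sideK M U) ((sideD M U).relIndex U) where
  coatom := h.coatom
  N_le := h.N_le_derived.trans h.derived_le
  N_normal := h.normalizer_sup_D (Or.inl rfl)
  K₀_le := sup_le_sup_right inf_le_left _
  K₀_normal := h.normalizer_sup_D (Or.inr rfl)
  derived_le := h.derived_N_le
  W₁_le := h.W₁_le
  W₁_prime := h.q_prime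
  W₂_prime := h.p_prime
  card_ne := h.card_ne
  W₁_coprime := h.coprime_W₁.coprime_dvd_right (card_dvd_of_le h.N_le_derived)
  centralizer_eq := fun w hw hw1 => le_antisymm
    ((inf_le_inf_right _ h.N_le_derived).trans (h.typeP.W₂_centralizer w hw hw1).le)
    (le_inf (h.W₂_le_H.trans le_sup_left) fun x hx => mem_centralizer_singleton_iff.2 (h.commute_W hw hx).symm)
  W₂_inf := eq_bot_iff.2 fun x hx => h.factor.2.2.2.1.le
    ⟨hx.1, h.K_inf_H.le ⟨hx.2, h.W₂_le_H hx.1⟩⟩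
  centralizer_le := fun x hx hx1 => h.centralizer_W₂_le hx hx1
  card_eq := by
    have e : Nat.card (sideD M U) * (sideD M U).relIndex U = Nat.card U :=
      Cfsg.Lib.Core.card_mul_relIndex inf_le_left
    rw [← h.card_M, h.card_N.1, ← e]
    ring
  stab := fun φ hφK hφ1 hφW m hm hφm => h.stab' φ hφK hφ1 hφW hm hφm
  normalizer_le := fun m hm hmW => h.normalizer_le' hm hmW
  subset_A0 := fun a ha => Or.inl (h.mem_typeA ha.1 fun e => ha.2 (e ▸ one_mem _))

theorem side_derived (h : SideHyp M W₁ U W₂) :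
    Side M W₁ W₂ (sideN M U) ⁅sideN M U, sideN M U⁆ ((sideD M U).relIndex U) :=
  h.side.refine fun a ha => Or.inl (h.mem_typeA ha.1 fun e => ha.2 (e ▸ one_mem _))

end SideHyp

/-- A member of a pair with `U ≠ 1` and `|W₁|`, `|W₂|` primes has a side. -/
theorem exists_side (hG : IsMinSimpleOddOrder G) (hM : IsCoatom M) (hP : IsTypePWith M W₁ U W₂) (hU : U ≠ ⊥)
    (hq : (Nat.card W₁).Prime) (hp : (Nat.card W₂).Prime) :
    ∃ (N K₀ : Subgroup G) (u : ℕ), Side M W₁ W₂ N K₀ u ∧ Side M W₁ W₂ N ⁅N, N⁆ u ∧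
      K₀.relIndex N = Nat.card W₂ ^ Nat.card W₁ ∧ N ≤ ⁅M, M⁆ ∧
      (u * (Nat.card W₂ - 1) + 1 = Nat.card W₂ ^ Nat.card W₁ ∨
        3 * u * (Nat.card W₂ - 1) + 1 ≤ Nat.card W₂ ^ Nat.card W₁) := by
  have h : SideHyp M W₁ U W₂ := ⟨hG, hM, hP, hU, hq, hp⟩
  exact ⟨_, _, _, h.side, h.side_derived, h.relIndex_K, h.N_le_derived, h.u_cases.imp_left And.left⟩

end Cfsg.Lib.OddOrder
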