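import Cfsg.Agent.Lib.OddOrder.SideDual

/-!
# The characters of `N / K₀` fixed by `W₁`

A coset of `K₀` in `N` stable under `W₁` meets `W₂` exactly once, and restriction to `W₂` is a bijection from
the characters of `N / K₀` fixed by `W₁` onto the characters of `W₂`.
-/

set_option autoImplicit false
set_option linter.unusedSectionVars false
set_option linter.style.haveILetI false

namespace Cfsg.Lib.OddOrder

open Cfsg Cfsg.Lib.Char Cfsg.Lib.Char.FT
open scoped ComplexConjugate commutatorElement Classical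

universe u'

variable {G : Type u'} [Group G] [Finite G] {M W₁ W₂ N K₀ : Subgroup G} {u : ℕ}

theorem Side.card_N (h : Side M W₁ W₂ N K₀ u) :
    Nat.card ↥(N.subgroupOf M) = Nat.card K₀ * K₀.relIndex N := by
  rw [Nat.card_congr (Subgroup.subgroupOfEquivOfLe h.N_le).toEquiv,
    Cfsg.Lib.Core.card_mul_relIndex h.K₀_le]

theorem Side.q_not_dvd (h : Side M W₁ W₂ N K₀ u) : ¬ Nat.card W₁ ∣ Nat.card N := fun hd =>
  h.W₁_prime.ne_one (Nat.eq_one_of_dvd_coprimes h.W₁_coprime dvd_rfl hd)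

theorem Side.q_not_dvd_p (h : Side M W₁ W₂ N K₀ u) : ¬ Nat.card W₁ ∣ Nat.card W₂ := fun hd =>
  h.q_not_dvd (hd.trans (Subgroup.card_dvd_of_le h.W₂_le))

/-- The action of `W₁` on a stable coset of `K₀`. -/
theorem Side.sum_coset_modEqC (h : Side M W₁ W₂ N K₀ u) {w₂ : G} (hw₂ : w₂ ∈ W₂) (f : G → ℂ)
    (hint : ∀ y ∈ K₀, IsIntegral ℤ (f (w₂ * y))) (hinv : ∀ w ∈ W₁, ∀ y, f (w * y * w⁻¹) = f y)
    [Fintype K₀] : ModEqC (Nat.card W₁) (∑ y : K₀, f (w₂ * y)) (f w₂) := by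
  haveI : Fact (Nat.card W₁).Prime := ⟨h.W₁_prime⟩
  obtain ⟨x, hx, hx1⟩ := W₁.bot_or_exists_ne_one.resolve_left h.ne_bot_W₁
  have hcomm : ∀ w ∈ W₁, w * w₂ = w₂ * w := fun w hw => by
    by_cases hw1 : w = 1
    · simp [hw1]
    · exact (Subgroup.mem_centralizer_singleton_iff.1 ((h.centralizer_eq w hw hw1).ge hw₂).2).symm
  letI : MulAction W₁ K₀ :=
    { smul := fun w y => ⟨(w : G) * y * (w : G)⁻¹, h.conj_mem_K (h.W₁_le w.2) y.2⟩
      one_smul := fun y => Subtype.ext (by show (1 : G) * y * 1⁻¹ = y; simp)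
      mul_smul := fun a b y => Subtype.ext (by
        show ((a : G) * b) * y * ((a : G) * b)⁻¹ = (a : G) * ((b : G) * y * (b : G)⁻¹) * (a : G)⁻¹
        group) }
  have hsmul : ∀ (w : W₁) (y : K₀), ((w • y : K₀) : G) = (w : G) * y * (w : G)⁻¹ := fun _ _ => rfl
  have hfix : ∀ y : K₀, (∀ w : W₁, w • y = y) ↔ y = 1 := by
    intro y
    constructor
    · intro hy
      have e := congrArg Subtype.val (hy ⟨x, hx⟩)
      rw [hsmul] at e
      have hc : (y : G) ∈ N ⊓ Subgroup.centralizer ({x} : Set G) :=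
        ⟨h.K₀_le y.2, Subgroup.mem_centralizer_singleton_iff.2 (by
          calc (y : G) * x = (x * y * x⁻¹) * x := by rw [e]
            _ = x * y := by group)⟩
      rw [h.centralizer_eq x hx hx1] at hc
      exact Subtype.ext (Subgroup.mem_bot.1 (h.W₂_inf ▸ ⟨hc, y.2⟩))
    · rintro rfl w
      exact Subtype.ext (by rw [hsmul]; simp)
  have key := sum_modEqC_fixed (A := W₁) (X := K₀) (q := Nat.card W₁) rfl (fun y => f (w₂ * y))
    (fun y => hint y y.2) (fun w y => by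
      show f (w₂ * ((w : G) * y * (w : G)⁻¹)) = f (w₂ * y)
      rw [← hinv (w : G) w.2 (w₂ * y)]
      congr 1
      calc w₂ * ((w : G) * y * (w : G)⁻¹) = (w₂ * w) * y * (w : G)⁻¹ := by group
        _ = _ := by rw [← hcomm w w.2]; group)
    {1} (fun y => by rw [Finset.mem_singleton, hfix])
  simpa using key

/-- `|K₀| ≡ 1`. -/
theorem Side.card_K_modEq (h : Side M W₁ W₂ N K₀ u) :
    ModEqC (Nat.card W₁) (Nat.card K₀ : ℂ) 1 := by
  haveI := Fintype.ofFinite K₀
  have := h.sum_coset_modEqC (w₂ := 1) W₂.one_mem (fun _ => (1 : ℂ)) (fun _ _ => isIntegral_one)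
    (fun _ _ _ => rfl)
  simpa [Nat.card_eq_fintype_card] using this

theorem isIntegral_sfun (φ : SDual M N K₀) (x : ↥(N.subgroupOf M)) : IsIntegral ℤ (sfun φ x) :=
  (isIrrCharacter_linear φ.1).isCharacter.isIntegral x

/-- A sum over the invariant cosets: the sum over `N` of a `W₁`-invariant function is the sum over `W₂`
times `|K₀|`, modulo `q`, for a function constant on cosets of `K₀`. -/
theorem Side.sum_modEqC (h : Side M W₁ W₂ N K₀ u) [Fintype ↥(N.subgroupOf M)] [Fintype W₂]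
    (f : ↥(N.subgroupOf M) → ℂ) (hint : ∀ x, IsIntegral ℤ (f x))
    (hinv : ∀ w ∈ W₁, ∀ x y : ↥(N.subgroupOf M), ((y : M) : G) = w * ((x : M) : G) * w⁻¹ → f y = f x) :
    ModEqC (Nat.card W₁) (∑ x, f x)
      (∑ v : W₂, f ⟨⟨(v : G), h.N_le (h.W₂_le v.2)⟩, Subgroup.mem_subgroupOf.2 (h.W₂_le v.2)⟩) := by
  haveI : Fact (Nat.card W₁).Prime := ⟨h.W₁_prime⟩
  obtain ⟨x₀, hx₀, hx₀1⟩ := W₁.bot_or_exists_ne_one.resolve_left h.ne_bot_W₁
  letI : MulAction W₁ ↥(N.subgroupOf M) :=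
    { smul := fun w y => ⟨⟨(w : G) * ((y : M) : G) * (w : G)⁻¹,
          mul_mem (mul_mem (h.W₁_le w.2) (y : M).2) (inv_mem (h.W₁_le w.2))⟩,
        Subgroup.mem_subgroupOf.2 (h.conj_mem (h.W₁_le w.2) y.2)⟩
      one_smul := fun y => Subtype.ext (Subtype.ext (by
        show (1 : G) * ((y : M) : G) * (1 : G)⁻¹ = ((y : M) : G); simp))
      mul_smul := fun a b y => Subtype.ext (Subtype.ext (by
        show ((a : G) * b) * ((y : M) : G) * ((a : G) * b)⁻¹ =
          (a : G) * ((b : G) * ((y : M) : G) * (b : G)⁻¹) * (a : G)⁻¹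
        group)) }
  have hsmul : ∀ (w : W₁) (y : ↥(N.subgroupOf M)),
      (((w • y : ↥(N.subgroupOf M)) : M) : G) = (w : G) * ((y : M) : G) * (w : G)⁻¹ := fun _ _ => rfl
  have hfix : ∀ y : ↥(N.subgroupOf M), (∀ w : W₁, w • y = y) ↔ ((y : M) : G) ∈ W₂ := by
    intro y
    constructor
    · intro hy
      have e := congrArg (fun z : ↥(N.subgroupOf M) => ((z : M) : G)) (hy ⟨x₀, hx₀⟩)
      simp only [hsmul] at e
      rw [← h.centralizer_eq x₀ hx₀ hx₀1]
      exact ⟨y.2, Subgroup.mem_centralizer_singleton_iff.2 (by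
        calc ((y : M) : G) * x₀ = (x₀ * ((y : M) : G) * x₀⁻¹) * x₀ := by rw [e]
          _ = x₀ * ((y : M) : G) := by group)⟩
    · intro hy w
      refine Subtype.ext (Subtype.ext ?_)
      rw [hsmul]
      by_cases hw : (w : G) = 1
      · simp [hw]
      · rw [← Subgroup.mem_centralizer_singleton_iff.1 ((h.centralizer_eq w w.2 hw).ge hy).2]
        group
  set ι : W₂ → ↥(N.subgroupOf M) := fun v =>
    ⟨⟨(v : G), h.N_le (h.W₂_le v.2)⟩, Subgroup.mem_subgroupOf.2 (h.W₂_le v.2)⟩ with hι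
  have hinj : Function.Injective ι := fun a b e =>
    Subtype.ext (congrArg (fun z : ↥(N.subgroupOf M) => ((z : M) : G)) e)
  have key := sum_modEqC_fixed (A := W₁) (X := ↥(N.subgroupOf M)) (q := Nat.card W₁) rfl f hint
    (fun w y => hinv (w : G) w.2 y (w • y) (hsmul w y)) (Finset.univ.image ι) (fun y => by
      rw [hfix, Finset.mem_image]
      constructor
      · rintro ⟨v, -, rfl⟩; exact v.2
      · intro hy; exact ⟨⟨_, hy⟩, Finset.mem_univ _, Subtype.ext (Subtype.ext rfl)⟩)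
  rwa [Finset.sum_image hinj.injOn] at key

/-- A fixed member trivial on `W₂` is principal. -/
theorem Side.eq_one_of_fixed (h : Side M W₁ W₂ N K₀ u) {φ : SDual M N K₀} (hf : IsFixedDual W₁ φ)
    (h2 : ∀ x : ↥(N.subgroupOf M), ((x : M) : G) ∈ W₂ → φ.1 x = 1) : φ = sdual1 M N K₀ := by
  haveI := Fintype.ofFinite ↥(N.subgroupOf M)
  haveI := Fintype.ofFinite W₂
  by_contra hne
  have h0 : ∑ x, sfun φ x = 0 := by
    obtain ⟨x₀, hx₀⟩ : ∃ x₀, φ.1 x₀ ≠ 1 := by
      by_contra hall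
      push Not at hall
      exact hne (Subtype.ext (MonoidHom.ext hall))
    have e : (φ.1 x₀ : ℂ) * ∑ x, sfun φ x = ∑ x, sfun φ x := by
      rw [Finset.mul_sum]
      exact Fintype.sum_equiv (Equiv.mulLeft x₀) _ _ fun x => by simp [sfun, map_mul]
    have h1 : (φ.1 x₀ : ℂ) ≠ 1 := fun e' => hx₀ (Units.ext e')
    by_contra h3
    exact h1 (mul_right_cancel₀ h3 (by rw [e, one_mul]))
  have key := h.sum_modEqC (sfun φ) (isIntegral_sfun φ) fun w hw x y e => by
    simp only [sfun, hf w hw x y e]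
  rw [h0, Finset.sum_congr rfl (fun v _ => show sfun φ _ = 1 by
    rw [sfun, h2 _ (by exact v.2), Units.val_one]), Finset.sum_const, Finset.card_univ,
    ← Nat.card_eq_fintype_card, nsmul_eq_mul, mul_one] at key
  have key' : ModEqC (Nat.card W₁) ((0 : ℤ) : ℂ) ((Nat.card W₂ : ℤ) : ℂ) := by exact_mod_cast key
  exact h.q_not_dvd_p (by exact_mod_cast Int.modEq_zero_iff_dvd.1 key'.int.symm)

/-- Restriction to `W₂`. -/
def Side.res (h : Side M W₁ W₂ N K₀ u) (φ : SDual M N K₀) : W₂ →* ℂˣ :=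
  φ.1.comp
    { toFun := fun v => ⟨⟨(v : G), h.N_le (h.W₂_le v.2)⟩, Subgroup.mem_subgroupOf.2 (h.W₂_le v.2)⟩
      map_one' := rfl
      map_mul' := fun _ _ => rfl }

theorem Side.res_injective (h : Side M W₁ W₂ N K₀ u) {φ φ' : SDual M N K₀} (hf : IsFixedDual W₁ φ)
    (hf' : IsFixedDual W₁ φ') (e : h.res φ = h.res φ') : φ = φ' := by
  let χ : SDual M N K₀ := ⟨φ.1 * φ'.1⁻¹, fun x hx => by simp [φ.2 x hx, φ'.2 x hx]⟩
  have hχ : χ = sdual1 M N K₀ := by
    refine h.eq_one_of_fixed (fun w hw x y exy => ?_) fun x hx => ?_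
    · simp [χ, hf w hw x y exy, hf' w hw x y exy]
    · have := DFunLike.congr_fun e ⟨_, hx⟩
      simp only [Side.res, MonoidHom.comp_apply] at this
      simp only [χ, MonoidHom.mul_apply, MonoidHom.inv_apply]
      rw [mul_inv_eq_one]
      exact this
  exact Subtype.ext (mul_inv_eq_one.1 (congrArg Subtype.val hχ))

/-- Every character of `W₂` is the restriction of a fixed member. -/
theorem Side.res_surjective (h : Side M W₁ W₂ N K₀ u) (ψ : W₂ →* ℂˣ) :
    ∃ φ : SDual M N K₀, IsFixedDual W₁ φ ∧ h.res φ = ψ := by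
  haveI := Fintype.ofFinite W₁
  haveI : Fact (Nat.card W₂).Prime := ⟨h.W₂_prime⟩
  haveI : IsCyclic W₂ := isCyclic_of_prime_card rfl
  letI : CommGroup W₂ := IsCyclic.commGroup
  haveI : Finite (W₂ →* ℂˣ) := Finite.of_injective _ (linearCharEquiv (G := W₂)).injective
  -- the image of the fixed members is a subgroup of the dual of `W₂`
  let F : Subgroup (W₂ →* ℂˣ) :=
    { carrier := {ψ | ∃ φ : SDual M N K₀, IsFixedDual W₁ φ ∧ h.res φ = ψ}
      one_mem' := ⟨sdual1 M N K₀, fun _ _ _ _ _ => rfl, rfl⟩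
      mul_mem' := by
        rintro _ _ ⟨a, ha, rfl⟩ ⟨b, hb, rfl⟩
        exact ⟨⟨a.1 * b.1, fun x hx => by simp [a.2 x hx, b.2 x hx]⟩,
          fun w hw x y e => by simp [ha w hw x y e, hb w hw x y e], MonoidHom.ext fun v => rfl⟩
      inv_mem' := by
        rintro _ ⟨a, ha, rfl⟩
        exact ⟨⟨a.1⁻¹, fun x hx => by simp [a.2 x hx]⟩,
          fun w hw x y e => by simp [ha w hw x y e], MonoidHom.ext fun v => rfl⟩ }
  haveI : Fact (Nat.card (W₂ →* ℂˣ)).Prime := ⟨by rw [card_monoidHom_units]; exact h.W₂_prime⟩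
  refine (F.eq_bot_or_eq_top_of_prime_card.resolve_left fun hF => ?_).ge (Subgroup.mem_top ψ)
  obtain ⟨v, hv, hv1⟩ := W₂.bot_or_exists_ne_one.resolve_left fun e =>
    h.W₂_prime.ne_one (by rw [e, Subgroup.card_bot])
  obtain ⟨φ, hφ⟩ := h.exists_apply_ne_one (h.W₂_le hv) fun hK => hv1 (Subgroup.mem_bot.1 (h.W₂_inf ▸ ⟨hv, hK⟩))
  set P : SDual M N K₀ := ⟨∏ w : W₁, (h.conjDual ⟨w, h.W₁_le w.2⟩ φ).1, fun x hx => by
    rw [MonoidHom.finsetProd_apply]
    exact Finset.prod_eq_one fun w _ => (h.conjDual _ φ).2 x hx⟩ with hP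
  have hPfix : IsFixedDual W₁ P := by
    intro w hw x y e
    simp only [hP, MonoidHom.finsetProd_apply]
    refine Fintype.prod_equiv (Equiv.mulLeft (⟨w, hw⟩ : W₁)⁻¹) _ _ fun a => ?_
    refine congrArg φ.1 (Subtype.ext (Subtype.ext ?_))
    show (a : G)⁻¹ * ((y : M) : G) * (a : G) = (w⁻¹ * (a : G))⁻¹ * ((x : M) : G) * (w⁻¹ * (a : G))
    rw [e]; group
  have hres : h.res P = h.res φ ^ Nat.card W₁ := by
    refine MonoidHom.ext fun z => ?_
    simp only [Side.res, hP, MonoidHom.comp_apply, MonoidHom.finsetProd_apply, MonoidHom.pow_apply]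
    rw [Nat.card_eq_fintype_card, ← Finset.card_univ, ← Finset.prod_const]
    refine Finset.prod_congr rfl fun w _ => congrArg φ.1 (Subtype.ext (Subtype.ext ?_))
    show (w : G)⁻¹ * (z : G) * (w : G) = (z : G)
    by_cases hw : (w : G) = 1
    · simp [hw]
    · rw [mul_assoc, Subgroup.mem_centralizer_singleton_iff.1 ((h.centralizer_eq w w.2 hw).ge z.2).2,
        inv_mul_cancel_left]
  have hbot : h.res P = 1 := Subgroup.mem_bot.1 (hF.le (show h.res P ∈ F from ⟨P, hPfix, rfl⟩))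
  have hcop : (Nat.card W₁).Coprime (Nat.card W₂) := (h.W₁_prime.coprime_iff_not_dvd).2 h.q_not_dvd_p
  have h1 : h.res φ = 1 := by
    refine MonoidHom.ext fun z => ?_
    have hq : h.res φ z ^ Nat.card W₁ = 1 := by
      have := DFunLike.congr_fun (hres.symm.trans hbot) z
      rwa [MonoidHom.pow_apply, MonoidHom.one_apply] at this
    have hp : h.res φ z ^ Nat.card W₂ = 1 := by rw [← map_pow, pow_card_eq_one', map_one]
    have := pow_gcd_eq_one.2 ⟨hq, hp⟩
    rwa [hcop.gcd_eq_one, pow_one] at this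
  exact hφ (DFunLike.congr_fun h1 ⟨v, hv⟩)

/-- A column restricted to `W₂`. -/
def colRes (j : Col W₁ W₂) : W₂ →* ℂˣ := j.1.comp (Subgroup.inclusion le_sup_right)

theorem colRes_injective (hcomm : ∀ a ∈ W₁, ∀ b ∈ W₂, a * b = b * a) :
    Function.Injective (colRes (W₁ := W₁) (W₂ := W₂)) := by
  intro j k e
  refine Subtype.ext (MonoidHom.ext fun w => ?_)
  obtain ⟨a, ha, b, hb, hab⟩ := Cfsg.Lib.Coprime.exists_mul_of_mem_sup (N := W₁) (A := W₂)
    ((fun y hy => Subgroup.centralizer_le_normalizer _ (Subgroup.mem_centralizer_iff.2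
      fun a ha => hcomm a ha y hy)) : W₂ ≤ Subgroup.normalizer (W₁ : Set G)) w.2
  have hw : w = ⟨a, Subgroup.mem_sup_left ha⟩ * ⟨b, Subgroup.mem_sup_right hb⟩ := Subtype.ext hab
  rw [hw, map_mul, map_mul, j.2 _ ha, k.2 _ ha]
  exact congrArg _ (DFunLike.congr_fun e ⟨b, hb⟩)

/-- The fixed member belonging to a column. -/
noncomputable def Side.colDual (h : Side M W₁ W₂ N K₀ u) (j : Col W₁ W₂) : SDual M N K₀ :=
  (h.res_surjective (colRes j)).choose

theorem Side.colDual_fixed (h : Side M W₁ W₂ N K₀ u) (j : Col W₁ W₂) : IsFixedDual W₁ (h.colDual j) :=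
  (h.res_surjective (colRes j)).choose_spec.1

theorem Side.res_colDual (h : Side M W₁ W₂ N K₀ u) (j : Col W₁ W₂) : h.res (h.colDual j) = colRes j :=
  (h.res_surjective (colRes j)).choose_spec.2

theorem Side.colDual_apply (h : Side M W₁ W₂ N K₀ u) (j : Col W₁ W₂) (x : ↥(N.subgroupOf M))
    (w : ↥(W₁ ⊔ W₂)) (hx : ((x : M) : G) ∈ W₂) (e : (w : G) = ((x : M) : G)) :
    (h.colDual j).1 x = j.1 w := by
  have := DFunLike.congr_fun (h.res_colDual j) ⟨_, hx⟩
  simp only [Side.res, colRes, MonoidHom.comp_apply] at this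
  refine Eq.trans ?_ (this.trans (congrArg j.1 (Subtype.ext e.symm)))
  rfl

theorem Side.colDual_col0 (h : Side M W₁ W₂ N K₀ u) : h.colDual (col0 W₁ W₂) = sdual1 M N K₀ :=
  h.res_injective (h.colDual_fixed _) (fun _ _ _ _ _ => rfl) (by rw [h.res_colDual]; rfl)

theorem Side.colDual_injective (h : Side M W₁ W₂ N K₀ u) (hcomm : ∀ a ∈ W₁, ∀ b ∈ W₂, a * b = b * a) :
    Function.Injective h.colDual := fun j k e =>
  colRes_injective hcomm (by rw [← h.res_colDual, ← h.res_colDual, e])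

/-- Every fixed member belongs to a column. -/
theorem Side.exists_col (h : Side M W₁ W₂ N K₀ u) (hW : Cfsg.IsSelfNormalizingCyclic W₁ W₂)
    {φ : SDual M N K₀} (hf : IsFixedDual W₁ φ) : ∃ j, h.colDual j = φ := by
  obtain ⟨-, -, hdisj, hcomm, hcyc, -⟩ := id hW
  haveI : Fact (Nat.card W₂).Prime := ⟨h.W₂_prime⟩
  haveI : IsCyclic W₂ := isCyclic_of_prime_card rfl
  letI : CommGroup W₂ := IsCyclic.commGroup
  haveI : Finite (W₂ →* ℂˣ) := Finite.of_injective _ (linearCharEquiv (G := W₂)).injective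
  haveI : Finite (↥(W₁ ⊔ W₂) →* ℂˣ) := finite_hom hcyc
  have hbij : Function.Bijective (colRes (W₁ := W₁) (W₂ := W₂)) :=
    (Nat.bijective_iff_injective_and_card _).2 ⟨colRes_injective hcomm, by
      rw [card_monoidHom_units]; exact card_col hW⟩
  obtain ⟨j, hj⟩ := hbij.2 (h.res φ)
  exact ⟨j, h.res_injective (h.colDual_fixed j) hf (by rw [h.res_colDual, hj])⟩

end Cfsg.Lib.OddOrder
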