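import Cfsg.Agent.Lib.OddOrder.SideColumn

/-!
# The moments of a class function on one side

With `n = [N : K₀]`, `A = ∑ a`: the mean of `χ` over the support of the Dade map is `-A / (q u n)` and that of
`|χ|²` at least `(n ∑ a² - A²) / (q u n)`.  For the members `η i l`, `l` nonprincipal, this gives the bounds
`(n - 1 - u) / (q n)` and `(n - u) / (q n)`.
-/

set_option autoImplicit false
set_option linter.unusedSectionVars false
set_option linter.style.haveILetI false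

namespace Cfsg.Lib.OddOrder

open Cfsg Cfsg.Lib.Char Cfsg.Lib.Char.FT
open scoped ComplexConjugate Classical

universe u'

/-- The average over `G` of a real function cut down to a set. -/
noncomputable def muOn {G : Type u'} [Fintype G] (S : Set G) (f : G → ℝ) : ℝ :=
  (Nat.card G : ℝ)⁻¹ * ∑ g, if g ∈ S then f g else 0

/-- The pair bound. -/
theorem sum_sq_sub_ge {ι : Type*} (s O O' : Finset ι) (a : ι → ℤ) {c : ℤ} (hO : O ⊆ s) (hO' : O' ⊆ s)
    (hc : ∀ x ∈ O, a x = c) (hne : ∀ x ∈ O', a x ≠ c) (hcard : O'.card = O.card) :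
    2 * ((s.card : ℤ) - O.card) * O.card ≤ ∑ x ∈ s, ∑ y ∈ s, (a x - a y) ^ 2 := by
  set f : ι → ι → ℤ := fun x y =>
    if x ∈ O then 0 else if a x = c then (if y ∈ O' then 1 else 0) else (if y ∈ O then 1 else 0)
  have hle : ∀ x y, f x y + f y x ≤ (a x - a y) ^ 2 := by
    have h0 : ∀ x y, f x y ≠ 0 → f y x = 0 ∧ a x ≠ a y ∧ f x y = 1 := by
      intro x y hxy
      simp only [f] at hxy ⊢
      by_cases hx : x ∈ O
      · simp [hx] at hxy
      · rw [if_neg hx] at hxy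
        by_cases hax : a x = c
        · rw [if_pos hax] at hxy
          by_cases hy : y ∈ O'
          · refine ⟨?_, fun e => hne y hy (e ▸ hax), by rw [if_neg hx, if_pos hax, if_pos hy]⟩
            by_cases hyO : y ∈ O
            · rw [if_pos hyO]
            · rw [if_neg hyO, if_neg (hne y hy), if_neg hx]
          · simp [hy] at hxy
        · rw [if_neg hax] at hxy
          by_cases hy : y ∈ O
          · exact ⟨by rw [if_pos hy], fun e => hax (e.trans (hc y hy)), by rw [if_neg hx, if_neg hax, if_pos hy]⟩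
          · simp [hy] at hxy
    intro x y
    by_cases h1 : f x y = 0
    · by_cases h2 : f y x = 0
      · rw [h1, h2, add_zero]; positivity
      · obtain ⟨e1, e2, e3⟩ := h0 y x h2
        rw [e1, e3, zero_add]
        exact (sq_pos_of_ne_zero (sub_ne_zero.2 e2.symm) : (0 : ℤ) < (a x - a y) ^ 2)
    · obtain ⟨e1, e2, e3⟩ := h0 x y h1
      rw [e1, e3, add_zero]
      exact (sq_pos_of_ne_zero (sub_ne_zero.2 e2) : (0 : ℤ) < (a x - a y) ^ 2)
  have hsum : ∑ x ∈ s, ∑ y ∈ s, f x y = ((s.card : ℤ) - O.card) * O.card := by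
    have e : ∀ x ∈ s, ∑ y ∈ s, f x y = if x ∈ O then 0 else (O.card : ℤ) := by
      intro x _
      simp only [f]
      split_ifs with h1 h2
      · simp
      · rw [Finset.sum_boole, Finset.filter_mem_eq_inter, Finset.inter_eq_right.2 hO', hcard]
      · rw [Finset.sum_boole, Finset.filter_mem_eq_inter, Finset.inter_eq_right.2 hO]
    rw [Finset.sum_congr rfl e, Finset.sum_ite, Finset.sum_const_zero, zero_add, Finset.sum_const,
      nsmul_eq_mul, Finset.filter_not, Finset.filter_mem_eq_inter, Finset.inter_eq_right.2 hO,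
      Finset.card_sdiff_of_subset hO, Nat.cast_sub (Finset.card_le_card hO)]
  calc 2 * ((s.card : ℤ) - O.card) * O.card = ∑ x ∈ s, ∑ y ∈ s, (f x y + f y x) := by
        simp only [Finset.sum_add_distrib]
        rw [Finset.sum_comm (f := fun x y => f y x), hsum]
        ring
    _ ≤ _ := Finset.sum_le_sum fun x _ => Finset.sum_le_sum fun y _ => hle x y

theorem sum_sq_sub_eq {ι : Type*} (s : Finset ι) (a : ι → ℤ) :
    ∑ x ∈ s, ∑ y ∈ s, (a x - a y) ^ 2 = 2 * ((s.card : ℤ) * ∑ x ∈ s, a x ^ 2 - (∑ x ∈ s, a x) ^ 2) := by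
  simp only [sub_sq, Finset.sum_add_distrib, Finset.sum_sub_distrib, Finset.sum_const, nsmul_eq_mul,
    ← Finset.mul_sum, ← Finset.sum_mul]
  ring

variable {G : Type u'} [Group G] [Fintype G] {M W₁ W₂ N K₀ : Subgroup G} {u : ℕ} [Fintype M]
  [Fintype ↥(N.subgroupOf M)]

omit [Fintype ↥(N.subgroupOf M)] in
theorem Side.card_M (h : Side M W₁ W₂ N K₀ u) :
    (Nat.card M : ℝ) = Nat.card W₁ * u * Nat.card ↥(N.subgroupOf M) := by
  rw [Nat.card_congr (Subgroup.subgroupOfEquivOfLe h.N_le).toEquiv]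
  exact_mod_cast h.card_eq

omit [Fintype ↥(N.subgroupOf M)] in
theorem Side.u_pos (h : Side M W₁ W₂ N K₀ u) : 0 < u := Nat.pos_of_ne_zero fun e => by
  have := h.card_eq
  rw [e, mul_zero, zero_mul] at this
  exact Nat.card_pos.ne' this

omit [Fintype ↥(N.subgroupOf M)] in
theorem Side.n_pos (h : Side M W₁ W₂ N K₀ u) : 0 < K₀.relIndex N := by
  rw [← h.card_sdual]
  haveI : Nonempty (SDual M N K₀) := ⟨sdual1 M N K₀⟩
  exact Nat.card_pos

/-- The orbit of a nonprincipal fixed member has `u` elements. -/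
theorem Side.card_orbit [Fintype (SDual M N K₀)] (h : Side M W₁ W₂ N K₀ u) {φ : SDual M N K₀}
    (hφ : φ ≠ sdual1 M N K₀) (hf : IsFixedDual W₁ φ) :
    (Finset.univ.filter fun y => ∃ m, h.conjDual m φ = y).card = u := by
  letI : MulAction M (SDual M N K₀) :=
    { smul := fun m φ => h.conjDual m φ
      one_smul := h.conjDual_one
      mul_smul := h.conjDual_mul }
  have e1 : MulAction.stabilizer M φ = (N ⊔ W₁).subgroupOf M :=
    Subgroup.ext fun m => (h.conjDual_eq_self_iff hφ hf m).trans Subgroup.mem_subgroupOf.symm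
  have e2 : Nat.card (MulAction.orbit M φ) = (Finset.univ.filter fun y => ∃ m, h.conjDual m φ = y).card := by
    rw [← Fintype.card_coe, ← Nat.card_eq_fintype_card]
    exact Nat.card_congr (Equiv.subtypeEquivRight fun y => by
      rw [MulAction.mem_orbit_iff, Finset.mem_filter]
      exact ⟨fun ⟨m, e⟩ => ⟨Finset.mem_univ _, m, e⟩, fun ⟨_, m, e⟩ => ⟨m, e⟩⟩)
  have e3 := (MulAction.stabilizer M φ).card_mul_index
  rw [MulAction.index_stabilizer, ← Nat.card_coe_set_eq, e2, e1, h.card_stab] at e3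
  have h4 : Nat.card M = Nat.card W₁ * Nat.card ↥(N.subgroupOf M) * u := by
    rw [h.card_eq, Nat.card_congr (Subgroup.subgroupOfEquivOfLe h.N_le).toEquiv]; ring
  rw [h4] at e3
  exact Nat.eq_of_mul_eq_mul_left (Nat.mul_pos Nat.card_pos Nat.card_pos) e3

theorem dadeIsometry_indicator (h : Side M W₁ W₂ N K₀ u)
    (hA : DadeHypothesis (sideSet N K₀) M (Cfsg.supportR M)) (g : G) :
    dadeIsometry (sideSet N K₀) M (Cfsg.supportR M) (sideInd M N K₀) g =
      if g ∈ hitSet (sideSet N K₀) (Cfsg.supportR M) then 1 else 0 := by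
  split_ifs with hg
  · obtain ⟨a, ha, v, hv, x, e⟩ := hg
    have haM : a ∈ M := h.N_le ha.1
    rw [dadeIsometry_eq hA (isClassFunction_sideInd h hA) (a := (⟨a, haM⟩ : M)) ha hv e]
    exact if_pos ha
  · exact dadeIsometry_eq_zero_of_notMem hg

/-- The exact mean and the lower bound for the mean square. -/
theorem moments [Fintype (SDual M N K₀)] (h : Side M W₁ W₂ N K₀ u)
    (hA : DadeHypothesis (sideSet N K₀) M (Cfsg.supportR M)) {χ : G → ℂ} (hχ : IsClassFunction G χ)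
    {a : SDual M N K₀ → ℤ} (ha : ∀ φ, sideCoef χ φ = a φ) :
    (Nat.card W₁ : ℝ) * u * K₀.relIndex N * muOn (hitSet (sideSet N K₀) (Cfsg.supportR M)) (fun g => (χ g).re) =
        -((∑ φ, a φ : ℤ) : ℝ) ∧
      (K₀.relIndex N : ℝ) * ((∑ φ, a φ ^ 2 : ℤ) : ℝ) - ((∑ φ, a φ : ℤ) : ℝ) ^ 2 ≤
        (Nat.card W₁ : ℝ) * u * K₀.relIndex N *
          muOn (hitSet (sideSet N K₀) (Cfsg.supportR M)) (fun g => ‖χ g‖ ^ 2) := by
  set S := hitSet (sideSet N K₀) (Cfsg.supportR M)
  set n : ℝ := (K₀.relIndex N : ℝ)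
  set A : ℝ := ((∑ φ, a φ : ℤ) : ℝ)
  have hn : 0 < n := Nat.cast_pos.2 h.n_pos
  have hN : (0 : ℝ) < Nat.card ↥(N.subgroupOf M) := Nat.cast_pos.2 Nat.card_pos
  have hF1 : sideFour χ (sdual1 M N K₀) = ((-(A / n) : ℝ) : ℂ) := by
    have e := sideFour_sdual1 h hA hχ
    simp only [ha] at e
    have hne : (K₀.relIndex N : ℂ) ≠ 0 := Nat.cast_ne_zero.2 h.n_pos.ne'
    refine mul_left_cancel₀ hne (e.trans ?_)
    simp only [n, A]
    push_cast
    field_simp
  constructor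
  · have e := inner_sideInd h hA hχ
    rw [hF1] at e
    have e2 : classInner (dadeIsometry (sideSet N K₀) M (Cfsg.supportR M) (sideInd M N K₀)) χ =
        (Nat.card G : ℂ)⁻¹ * ∑ g, if g ∈ S then conj (χ g) else 0 := by
      rw [classInner]
      refine congrArg _ (Finset.sum_congr rfl fun g _ => ?_)
      rw [dadeIsometry_indicator h hA]
      split_ifs <;> simp
    rw [e2] at e
    have e3 := congrArg Complex.re e
    have e4 : ((Nat.card G : ℂ)⁻¹ * ∑ g, if g ∈ S then conj (χ g) else 0).re = muOn S fun g => (χ g).re := by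
      rw [muOn, show (Nat.card G : ℂ)⁻¹ = ((Nat.card G : ℝ)⁻¹ : ℝ) by push_cast; ring, Complex.re_ofReal_mul,
        Complex.re_sum]
      refine congrArg _ (Finset.sum_congr rfl fun g _ => ?_)
      split_ifs <;> simp
    simp only [Complex.mul_re (Nat.cast _), Complex.natCast_re, Complex.natCast_im, zero_mul, sub_zero,
      Complex.ofReal_re] at e3
    rw [e4, h.card_M] at e3
    have e5 : (Nat.card W₁ : ℝ) * u * muOn S (fun g => (χ g).re) = -(A / n) :=
      mul_left_cancel₀ hN.ne' (by linear_combination e3)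
    calc (Nat.card W₁ : ℝ) * u * n * muOn S (fun g => (χ g).re)
        = n * ((Nat.card W₁ : ℝ) * u * muOn S (fun g => (χ g).re)) := by ring
      _ = _ := by rw [e5]; field_simp
  · have h1 := sum_norm_sideFour_le h χ
    have h2 := dadeProj_norm_le hA hχ
    have h3 : muOn S (fun g => ‖χ g‖ ^ 2) = (Nat.card G : ℝ)⁻¹ * ∑ᶠ g ∈ S, ‖χ g‖ ^ 2 := by
      rw [muOn, finsum_mem_eq_toFinset_sum, ← Finset.sum_filter]
      refine congrArg _ (Finset.sum_congr ?_ fun _ _ => rfl)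
      ext g
      simp
    have h4 : ∀ φ, ‖sideFour χ φ‖ ^ 2 = ((a φ : ℝ) - A / n) ^ 2 := fun φ => by
      have e := sideCoef_eq h hA hχ φ
      rw [ha, hF1] at e
      rw [show sideFour χ φ = (((a φ : ℝ) - A / n : ℝ) : ℂ) by push_cast at e ⊢; linear_combination -e,
        Complex.norm_real, Real.norm_eq_abs, sq_abs]
    simp only [h4] at h1
    have h5 : (Nat.card ↥(N.subgroupOf M) : ℝ) * ∑ φ, ((a φ : ℝ) - A / n) ^ 2 ≤
        (Nat.card M : ℝ) * muOn S (fun g => ‖χ g‖ ^ 2) :=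
      h1.trans (mul_le_mul_of_nonneg_left (by rw [h3]; exact h2) (Nat.cast_nonneg _))
    have h6 : ∑ φ, ((a φ : ℝ) - A / n) ^ 2 = ((∑ φ, a φ ^ 2 : ℤ) : ℝ) - A ^ 2 / n := by
      simp only [sub_sq, Finset.sum_add_distrib, Finset.sum_sub_distrib, Finset.sum_const, nsmul_eq_mul,
        ← Finset.mul_sum, ← Finset.sum_mul, Finset.card_univ, ← Nat.card_eq_fintype_card, h.card_sdual]
      simp only [A, n]
      push_cast
      field_simp
      ring
    rw [h6, h.card_M] at h5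
    have h7 : ((∑ φ, a φ ^ 2 : ℤ) : ℝ) - A ^ 2 / n ≤
        (Nat.card W₁ : ℝ) * u * muOn S (fun g => ‖χ g‖ ^ 2) :=
      le_of_mul_le_mul_left (by linarith) hN
    have h8 := mul_le_mul_of_nonneg_left h7 hn.le
    rw [mul_sub, mul_div_cancel₀ _ hn.ne'] at h8
    linarith

/-- The quadratic form in the coefficients. -/
theorem Side.form_ge [Fintype (SDual M N K₀)] (h : Side M W₁ W₂ N K₀ u) {a : SDual M N K₀ → ℤ}
    (h0 : a (sdual1 M N K₀) = 0) (ε : ℤ) :
    (K₀.relIndex N : ℤ) * ∑ φ, a φ ^ 2 - (∑ φ, a φ) ^ 2 + ε * ∑ φ, a φ =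
      (((Finset.univ.erase (sdual1 M N K₀)).card : ℤ) * ∑ φ ∈ Finset.univ.erase (sdual1 M N K₀), a φ ^ 2 -
        (∑ φ ∈ Finset.univ.erase (sdual1 M N K₀), a φ) ^ 2) +
      ∑ φ ∈ Finset.univ.erase (sdual1 M N K₀), (a φ ^ 2 + ε * a φ) := by
  have hcard : ((Finset.univ.erase (sdual1 M N K₀)).card : ℤ) = K₀.relIndex N - 1 := by
    rw [Finset.card_erase_of_mem (Finset.mem_univ _), Finset.card_univ, ← Nat.card_eq_fintype_card, h.card_sdual,
      Nat.cast_sub h.n_pos, Nat.cast_one]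
  rw [hcard, ← Finset.sum_erase Finset.univ (f := a) h0,
    ← Finset.sum_erase Finset.univ (f := fun φ => a φ ^ 2) (a := sdual1 M N K₀) (by simp [h0]),
    Finset.sum_add_distrib, ← Finset.mul_sum]
  ring

theorem int_sq_add_nonneg (x : ℤ) {ε : ℤ} (hε : |ε| ≤ 1) : 0 ≤ x ^ 2 + ε * x := by
  have h1 : |ε * x| ≤ |x| := by
    rw [abs_mul]; exact mul_le_of_le_one_left (abs_nonneg _) hε
  have h2 := grid_abs_le_sq x
  have h3 := neg_le_of_abs_le h1
  omega

/-- For every virtual character the mean of `|χ|² + ε χ` on the support is nonnegative. -/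
theorem sideMu_nonneg (h : Side M W₁ W₂ N K₀ u) (hA : DadeHypothesis (sideSet N K₀) M (Cfsg.supportR M))
    {χ : G → ℂ} (hχ : IsGeneralizedCharacter G χ) {ε : ℤ} (hε : |ε| ≤ 1) :
    0 ≤ muOn (hitSet (sideSet N K₀) (Cfsg.supportR M)) (fun g => ‖χ g‖ ^ 2) +
      (ε : ℝ) * muOn (hitSet (sideSet N K₀) (Cfsg.supportR M)) (fun g => (χ g).re) := by
  haveI := Fintype.ofFinite (SDual M N K₀)
  choose a ha using fun φ => exists_int_sideCoef h hA hχ φ
  have h0 : a (sdual1 M N K₀) = 0 := by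
    have := sideCoef_sdual1 h hA hχ.isClassFunction
    rw [ha] at this
    exact_mod_cast this
  obtain ⟨h1, h2⟩ := moments h hA hχ.isClassFunction ha
  have h3 : (0 : ℤ) ≤ (K₀.relIndex N : ℤ) * ∑ φ, a φ ^ 2 - (∑ φ, a φ) ^ 2 + (-ε) * ∑ φ, a φ := by
    rw [h.form_ge h0]
    refine add_nonneg ?_ (Finset.sum_nonneg fun φ _ => int_sq_add_nonneg _ (by rwa [abs_neg]))
    have h4 : (0 : ℤ) ≤ ∑ x ∈ Finset.univ.erase (sdual1 M N K₀), ∑ y ∈ Finset.univ.erase (sdual1 M N K₀),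
        (a x - a y) ^ 2 := Finset.sum_nonneg fun x _ => Finset.sum_nonneg fun y _ => sq_nonneg _
    rw [sum_sq_sub_eq] at h4
    linarith
  have h3' : (0 : ℝ) ≤ (K₀.relIndex N : ℝ) * ((∑ φ, a φ ^ 2 : ℤ) : ℝ) - ((∑ φ, a φ : ℤ) : ℝ) ^ 2 +
      (-(ε : ℝ)) * ((∑ φ, a φ : ℤ) : ℝ) := by exact_mod_cast h3
  have hpos : (0 : ℝ) < (Nat.card W₁ : ℝ) * u * K₀.relIndex N :=
    mul_pos (mul_pos (Nat.cast_pos.2 Nat.card_pos) (Nat.cast_pos.2 h.u_pos)) (Nat.cast_pos.2 h.n_pos)
  refine (mul_nonneg_iff_of_pos_left hpos).1 ?_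
  linear_combination h3' + h2 + (-(ε : ℝ)) * h1

/-- (S4): the bound for a member off the first axis. -/
theorem sideMu_eta_ge (hodd : Odd (Nat.card G)) (h : Side M W₁ W₂ N K₀ u)
    (hA : DadeHypothesis (sideSet N K₀) M (Cfsg.supportR M))
    (hW : Cfsg.IsSelfNormalizingCyclic W₁ W₂) {χ : (↥(W₁ ⊔ W₂) →* ℂˣ) → (G → ℂ)}
    (hχ : IsCyclicTIFamily W₁ W₂ χ) (i : Row W₁ W₂) {l : Col W₁ W₂} (hl : l ≠ col0 W₁ W₂) {ε : ℤ}
    (hε : |ε| ≤ 1) :
    ((K₀.relIndex N : ℝ) - u - ((ε ^ 2 : ℤ) : ℝ)) / ((Nat.card W₁ : ℝ) * K₀.relIndex N) ≤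
      muOn (hitSet (sideSet N K₀) (Cfsg.supportR M)) (fun g => ‖eta χ i l g‖ ^ 2) +
        (ε : ℝ) * muOn (hitSet (sideSet N K₀) (Cfsg.supportR M)) (fun g => (eta χ i l g).re) := by
  haveI := Fintype.ofFinite (SDual M N K₀)
  have hcomm := hW.2.2.2.1
  obtain ⟨a, ha, hinv, h0, hmod⟩ := exists_sideCoef_eta h hA hW hχ i l
  obtain ⟨h1, h2⟩ := moments h hA (eta_gen hχ i l).isClassFunction ha
  -- a second column
  obtain ⟨k, hk0, hkl⟩ : ∃ k : Col W₁ W₂, k ≠ col0 W₁ W₂ ∧ k ≠ l := by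
    haveI := finite_hom (G := G) hW.2.2.2.2.1
    haveI := Fintype.ofFinite (Col W₁ W₂)
    by_contra hno
    push Not at hno
    have hsub : (Finset.univ : Finset (Col W₁ W₂)) ⊆ {col0 W₁ W₂, l} := fun k _ => by
      by_cases hk : k = col0 W₁ W₂
      · simp [hk]
      · simp [hno k hk]
    have := (Finset.card_le_card hsub).trans Finset.card_le_two
    rw [Finset.card_univ, ← Nat.card_eq_fintype_card, card_col hW] at this
    have := three_le_card_of_odd hodd hW.2.1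
    omega
  have hq3 : 3 ≤ Nat.card W₁ := three_le_card_of_odd hodd hW.1
  set O := Finset.univ.filter fun y => ∃ m, h.conjDual m (h.colDual l) = y
  set O' := Finset.univ.filter fun y => ∃ m, h.conjDual m (h.colDual k) = y
  have hOu : O.card = u := h.card_orbit (h.colDual_ne_one hcomm hl) (h.colDual_fixed l)
  have hO'u : O'.card = u := h.card_orbit (h.colDual_ne_one hcomm hk0) (h.colDual_fixed k)
  set s := Finset.univ.erase (sdual1 M N K₀)
  have hsub : ∀ j : Col W₁ W₂, j ≠ col0 W₁ W₂ →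
      (Finset.univ.filter fun y => ∃ m, h.conjDual m (h.colDual j) = y) ⊆ s := by
    intro j hj y hy
    obtain ⟨-, m, rfl⟩ := Finset.mem_filter.1 hy
    refine Finset.mem_erase.2 ⟨fun e => h.colDual_ne_one hcomm hj ?_, Finset.mem_univ _⟩
    have e' := congrArg (h.conjDual m⁻¹) e
    rw [← h.conjDual_mul, inv_mul_cancel, h.conjDual_one] at e'
    rw [e']
    exact Subtype.ext (MonoidHom.ext fun x => rfl)
  have hcl : a (h.colDual l) ≡ 1 [ZMOD Nat.card W₁] := by simpa [hl] using hmod l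
  have hck : a (h.colDual k) ≡ 0 [ZMOD Nat.card W₁] := by simpa [hl, hkl] using hmod k
  have hne : a (h.colDual k) ≠ a (h.colDual l) := fun e => by
    rw [e] at hck
    have := Int.le_of_dvd one_pos (Int.modEq_iff_dvd.1 (hck.symm.trans hcl))
    omega
  have hpair := sum_sq_sub_ge s O O' a (c := a (h.colDual l)) (hsub l hl) (hsub k hk0)
    (fun x hx => by obtain ⟨-, m, rfl⟩ := Finset.mem_filter.1 hx; exact hinv m _)
    (fun x hx => by obtain ⟨-, m, rfl⟩ := Finset.mem_filter.1 hx; rw [hinv]; exact hne)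
    (by rw [hO'u, hOu])
  rw [sum_sq_sub_eq, hOu] at hpair
  have hscard : (s.card : ℤ) = K₀.relIndex N - 1 := by
    rw [Finset.card_erase_of_mem (Finset.mem_univ _), Finset.card_univ, ← Nat.card_eq_fintype_card, h.card_sdual,
      Nat.cast_sub h.n_pos, Nat.cast_one]
  have hlin : (1 - ε ^ 2) * (u : ℤ) ≤ ∑ φ ∈ s, (a φ ^ 2 + -ε * a φ) := by
    by_cases hz : ε = 0
    · subst hz
      simp only [neg_zero, zero_mul, add_zero]
      have : (O.card : ℤ) ≤ ∑ φ ∈ O, a φ ^ 2 := by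
        calc (O.card : ℤ) = ∑ φ ∈ O, (1 : ℤ) := by simp
          _ ≤ _ := Finset.sum_le_sum fun x hx => by
            obtain ⟨-, m, rfl⟩ := Finset.mem_filter.1 hx
            rw [hinv]
            have hc0 : a (h.colDual l) ≠ 0 := fun e => by
              rw [e] at hcl
              have := Int.le_of_dvd one_pos (Int.modEq_iff_dvd.1 hcl)
              omega
            exact sq_pos_of_ne_zero hc0
      rw [hOu] at this
      have := Finset.sum_le_sum_of_subset_of_nonneg (hsub l hl) (f := fun φ => a φ ^ 2) fun x _ _ => sq_nonneg _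
      simp only [ne_eq, OfNat.ofNat_ne_zero, not_false_eq_true, zero_pow, sub_zero, one_mul]
      linarith
    · have e : ε ^ 2 = 1 := by
        rw [← sq_abs, le_antisymm hε (Int.one_le_abs hz)]; norm_num
      rw [e, sub_self, zero_mul]
      exact Finset.sum_nonneg fun φ _ => int_sq_add_nonneg _ (by rwa [abs_neg])
  have h3 : (u : ℤ) * ((K₀.relIndex N : ℤ) - u - ε ^ 2) ≤
      (K₀.relIndex N : ℤ) * ∑ φ, a φ ^ 2 - (∑ φ, a φ) ^ 2 + (-ε) * ∑ φ, a φ := by
    rw [h.form_ge h0]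
    rw [hscard] at hpair ⊢
    linarith
  have h3' : (u : ℝ) * ((K₀.relIndex N : ℝ) - u - ((ε ^ 2 : ℤ) : ℝ)) ≤
      (K₀.relIndex N : ℝ) * ((∑ φ, a φ ^ 2 : ℤ) : ℝ) - ((∑ φ, a φ : ℤ) : ℝ) ^ 2 +
      (-(ε : ℝ)) * ((∑ φ, a φ : ℤ) : ℝ) := by exact_mod_cast h3
  have hu : (0 : ℝ) < u := Nat.cast_pos.2 h.u_pos
  have hn : (0 : ℝ) < K₀.relIndex N := Nat.cast_pos.2 h.n_pos
  have hq : (0 : ℝ) < Nat.card W₁ := Nat.cast_pos.2 Nat.card_pos
  rw [div_le_iff₀ (by positivity)]
  refine le_of_mul_le_mul_left ?_ hu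
  linear_combination h3' + h2 + (-(ε : ℝ)) * h1

end Cfsg.Lib.OddOrder
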