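import Cfsg.Agent.Lib.OddOrder.Budget
import Cfsg.Agent.Lib.OddOrder.Bridge

/-!
# A region and the two sides: parity

A region missing the TI set and the supports of the sides: the members of the cyclic TI family have integral
values on it, and the bridge of the region meets the bridge of a side with odd product.
-/

set_option autoImplicit false
set_option linter.unusedSectionVars false
set_option linter.style.haveILetI false

namespace Cfsg.Lib.OddOrder

open Cfsg Cfsg.Lib.Char Cfsg.Lib.Char.FT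
open scoped ComplexConjugate Classical

universe u'

variable {G : Type u'} [Group G] [Fintype G] {W₁ W₂ : Subgroup G} {χ : (↥(W₁ ⊔ W₂) →* ℂˣ) → (G → ℂ)}
  {A : Set G} {L : Subgroup G} [Fintype L] {H : G → Subgroup G} {K N₀ : Subgroup L} [K.Normal] [N₀.Normal]
  {τ₁ : (L → ℂ) → (G → ℂ)} {ζ : L → ℂ}

theorem tiSet_mem {w : G} (hw : w ∈ W₁ ⊔ W₂) (h1 : w ∉ W₁) (h2 : w ∉ W₂) (y : G) :
    y * w * y⁻¹ ∈ tiSet W₁ W₂ := fun hoff => by
  have e : y⁻¹ * (y * w * y⁻¹) * y⁻¹⁻¹ = w := by group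
  rcases hoff y⁻¹ (by rwa [e]) with h | h <;> rw [e] at h
  · exact h1 h
  · exact h2 h

/-- The family is orthogonal to the members of a region missing the TI set. -/
theorem inner_eta_member (hodd : Odd (Nat.card G)) (hW : IsSelfNormalizingCyclic W₁ W₂)
    (hχ : IsCyclicTIFamily W₁ W₂ χ) (hτ : RegionExt A L H K N₀ τ₁) (d : RegionData A L H K N₀)
    (hoff : ∀ g ∈ hitSet A H, g ∉ tiSet W₁ W₂) {ξ : L → ℂ} (hξ : ξ ∈ irrBetween K N₀) (i : Row W₁ W₂)
    (j : Col W₁ W₂) : classInner (eta χ i j) (τ₁ ξ) = 0 :=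
  classInner_symm_zero (hτ.inner_eta d (hodd.of_dvd_nat L.card_subgroup_dvd_card) hodd hW hχ
    (fun w h1 h2 hw => hoff _ hw (by simpa using tiSet_mem w.2 h1 h2 1)) hξ i j)

/-- The value of a member on a region bounds the mean of a quadratic expression on any larger set where it
is nonnegative. -/
theorem region_le_muOn (hτ : RegionExt A L H K N₀ τ₁) (d : RegionData A L H K N₀)
    (hζ : ζ ∈ irrBetween K N₀) (hd : ζ 1 = K.index) {R : Set G} (hR : hitSet A H ⊆ R) {F : G → ℂ}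
    (hF : IsClassFunction G F) (horth : ∀ ξ ∈ irrBetween K N₀, classInner F (τ₁ ξ) = 0) {z : ℤ}
    (hz : classInner F (bridge A L H K ζ) = z) {ε : ℤ}
    (hpos : ∀ g ∈ R, 0 ≤ ‖F g‖ ^ 2 + (ε : ℝ) * (F g).re) :
    regionMeas K N₀ * ((z : ℝ) ^ 2 + (ε : ℝ) * z) ≤ muOn R (fun g => ‖F g‖ ^ 2 + (ε : ℝ) * (F g).re) := by
  refine le_trans ?_ (muOn_mono hR hpos)
  rw [muOn_add, muOn_smul]
  have h2 := hτ.regionMu_sq_ge d hζ hd hF horth
  have h1 := congrArg Complex.re (hτ.regionMu_val d hζ hd hF horth)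
  rw [hz, Complex.norm_intCast, sq_abs] at h2
  rw [hz] at h1
  have e2 : muOn (hitSet A H) (fun g => ‖F g‖ ^ 2) = (Nat.card G : ℝ)⁻¹ * ∑ᶠ g ∈ hitSet A H, ‖F g‖ ^ 2 := by
    rw [muOn, finsum_mem_eq_toFinset_sum, ← Finset.sum_filter]
    refine congrArg _ (Finset.sum_congr ?_ fun _ _ => rfl)
    ext g
    simp
  have e1 : muOn (hitSet A H) (fun g => (F g).re) = regionMeas K N₀ * z := by
    rw [← Complex.ofReal_intCast, ← Complex.ofReal_mul, Complex.ofReal_re, regionMu,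
      show (Nat.card G : ℂ)⁻¹ = ((Nat.card G : ℝ)⁻¹ : ℝ) by push_cast; ring, Complex.re_ofReal_mul,
      Complex.re_sum] at h1
    rw [muOn, ← h1]
    refine congrArg _ (Finset.sum_congr rfl fun g _ => ?_)
    split_ifs <;> simp
  rw [e1, e2]
  linarith

variable {M U N K : Subgroup G} {u : ℕ}

/-- The parity of a side and a region. -/
theorem side_parity {KL : Subgroup L} [KL.Normal] {τ : (L → ℂ) → (G → ℂ)} {ζ' : L → ℂ} [Fintype M]
    (hG : Cfsg.IsMinSimpleOddOrder G) (hP : Cfsg.IsTypePWith M W₁ U W₂) (h : Side M W₁ W₂ N K u)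
    (hχ : IsCyclicTIFamily W₁ W₂ χ) (hτ : RegionExt A L H KL N₀ τ) (d : RegionData A L H KL N₀)
    (hζ : ζ' ∈ irrBetween KL N₀) (hd : ζ' 1 = KL.index)
    (hoff : ∀ g ∈ hitSet A H, g ∉ tiSet W₁ W₂)
    (hoffS : ∀ g ∈ hitSet A H, g ∉ hitSet (sideSet N K) (Cfsg.supportR M))
    {j : Col W₁ W₂} (hj : j ≠ col0 W₁ W₂) :
    ∃ c b : ℤ, classInner (eta χ (row0 W₁ W₂) j) (bridge A L H KL ζ') = b ∧ (2 : ℤ) ∣ c + b - 1 ∧
      (c : ℝ) ^ 2 * ((N₀.relIndex KL : ℝ) - 1) / KL.index ≤ 2 + ((u : ℝ) - 1) / Nat.card W₁ := by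
  have hW := hP.selfNormalizing
  have hM := h.coatom
  have hφ := h.colLift_colHom j
  set φ := h.colHom j
  set T := bridgeT M N W₁ φ
  set η := eta χ (row0 W₁ W₂) j
  have hTgen : IsGeneralizedCharacter G T := bridgeT_gen hG hM hP h hφ
  have hηgen : IsGeneralizedCharacter G η := eta_gen hχ _ _
  have hLodd : Odd (Nat.card L) := hG.1.of_dvd_nat L.card_subgroup_dvd_card
  have hvan : ∀ g ∈ hitSet A H, T g = 0 := by
    intro g hg
    refine bridgeT_eq_zero hG hM h hφ fun ht => ?_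
    rcases mem_tildeOf_bridgeSupp hW (FT.sup_le_of_typeP hP) ht with ⟨a, ha, r, hr, y, rfl⟩ | ⟨y, w, hw, h1, h2, rfl⟩
    · exact hoffS _ hg ⟨a, ha, r, hr, y⁻¹, by group⟩
    · exact hoff _ hg (tiSet_mem hw h1 h2 y)
  obtain ⟨c, hc⟩ := hTgen.exists_int_classInner (hτ.gen hζ)
  obtain ⟨b, hb⟩ := d.exists_val_int hζ hd hηgen
  refine ⟨c, b, hb, ?_, ?_⟩
  · set XL := bridge A L H KL ζ' + τ ζ'
    have hXS := bridgeX_real hG hM hP h hχ hφ hj
    have hm : classInner (bridgeX M N W₁ W₂ χ φ j) XL = ((c + b : ℤ) : ℂ) := by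
      rw [show classInner (bridgeX M N W₁ W₂ χ φ j) XL = classInner (T + η) (bridge A L H KL ζ' + τ ζ') from rfl,
        classInner_add_left, classInner_add_right, classInner_add_right, hc, hb,
        inner_eta_member hG.1 hW hχ hτ d hoff hζ, show classInner T (bridge A L H KL ζ') = 0 from
          inner_dade_eq_zero_of_vanish hvan _]
      push_cast
      ring
    have h1 : classInner XL (fun _ => 1) = ((1 : ℤ) : ℂ) := by
      rw [show classInner XL (fun _ => (1 : ℂ)) = classInner (bridge A L H KL ζ' + τ ζ') (fun _ => 1) from rfl,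
        classInner_add_left, d.inner_bridge_one hζ hd, hτ.inner_one d hLodd hζ]
      simp
    have := parity hG.1 (hTgen.add hηgen) ((d.bridge_gen hζ hd).add (hτ.gen hζ)) hXS.1
      (hτ.bridge_real d hLodd hζ) (m := c + b) (a := 1) (b := 1) hm (by rw [Int.cast_one]; exact hXS.2) h1
    simpa using this
  · have hb1 := hτ.coef_bound d hζ hd hvan hc
    refine hb1.trans (le_of_eq ?_)
    rw [show classInner T T = _ from bridgeT_norm hG hM hP h hφ hj]
    have e : (2 + ((u : ℂ) - 1) / (Nat.card W₁ : ℂ)) = ((2 + ((u : ℝ) - 1) / (Nat.card W₁ : ℝ) : ℝ) : ℂ) := by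
      push_cast; ring
    rw [e, Complex.ofReal_re]

end Cfsg.Lib.OddOrder
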