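import Cfsg.Agent.Lib.OddOrder.TIMean
import Cfsg.Agent.Lib.OddOrder.Budget

/-!
# The facts on the TI set used by the budgets
-/

set_option autoImplicit false

namespace Cfsg.Lib.OddOrder

open Cfsg Cfsg.Lib.Char Cfsg.Lib.Char.FT

universe u'

variable {G : Type u'} [Group G] [Fintype G] {S T W₁ W₂ U V Ns Ks Nt Kt : Subgroup G} {u v : ℕ}
  {χ : (↥(W₁ ⊔ W₂) →* ℂˣ) → (G → ℂ)}

/-- The standing data give the facts. -/
theorem tiFacts (c : PairCtx S T W₁ W₂ U V Ns Ks Nt Kt u v χ) : TIFacts S T W₁ W₂ Ns Ks Nt Kt χ where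
  swap := famSwap_family c.family
  split := muOn_split c
  sq := muOn_ti_sq c.typeS.selfNormalizing c.family
  re_z i j hi hj := muOn_ti_re_z c.typeS.selfNormalizing c.family hi hj
  re_a i hi := by rw [muOn_ti_re_a c.typeS.selfNormalizing c.family hi, neg_div]
  re_b j hj := by rw [muOn_ti_re_b c.typeS.selfNormalizing c.family hj, neg_div]

end Cfsg.Lib.OddOrder
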