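import Cfsg.Agent.Lib.OddOrder.TypeThree
import Cfsg.Agent.Lib.OddOrder.FinalStep

/-!
# The regions of the members of type III or IV of a full pair

In the form used by the final step: a member `M` of type III or IV gives a region with hit set that of
`M' ∖ M_F`, of index `|W₁ (M)|` and size `|U_M|`, disjoint from the region of a maximal subgroup not conjugate to it.
-/

set_option autoImplicit false
set_option linter.unusedSectionVars false
set_option linter.style.haveILetI false

namespace Cfsg.Lib.OddOrder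

open Cfsg Cfsg.Lib.Char Cfsg.Lib.Char.FT
open Cfsg.Lib.Local.Sigma Cfsg.Lib.Local.Uniq
open scoped Classical commutatorElement

universe u'

variable {G : Type u'} [Group G] [Fintype G] {S T W₁ W₂ U V Ks Kt : Subgroup G} {u v : ℕ}
  {χ : (↥(W₁ ⊔ W₂) →* ℂˣ) → (G → ℂ)}

/-- The hit set of the region of a member of type III or IV. -/
noncomputable def threeHit (M : Subgroup G) : Set G := hitSet (threeSet M) (Cfsg.supportR M)

/-- The region next to `S`. -/
theorem hasRegion_three (hS : SideHyp S W₁ U W₂) (hT : SideHyp T W₂ V W₁)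
    (c : PairCtx S T W₁ W₂ U V (fittingHallOf S) Ks (fittingHallOf T) Kt u v χ)
    (h34 : IsOfTypeIII S ∨ IsOfTypeIV S)
    (hfull : (sideD S U).relIndex U * (Nat.card W₂ - 1) + 1 = Nat.card W₂ ^ Nat.card W₁)
    (hK : ⁅sideN S U, sideN S U⁆ = sideK S U) :
    HasRegion (restSet S T W₁ W₂ (fittingHallOf S) Ks (fittingHallOf T) Kt) (threeHit S) (Nat.card W₁)
      (Nat.card U) := by
  haveI := Fintype.ofFinite S
  obtain ⟨τ₁, ζ, d, hτ, hζ, hd, he, hm⟩ := hS.exists_region_three h34 hfull hK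
  exact ⟨_, S, inferInstance, _, threeK S, threeN S, inferInstance, inferInstance, τ₁, ζ, d, hτ, hζ, hd, rfl,
    hS.three_subset_restSet hT c h34 le_rfl, he, hm⟩

/-- The region next to `T`. -/
theorem hasRegion_three' (hS : SideHyp S W₁ U W₂) (hT : SideHyp T W₂ V W₁)
    (c : PairCtx S T W₁ W₂ U V (fittingHallOf S) Ks (fittingHallOf T) Kt u v χ)
    (h34 : IsOfTypeIII T ∨ IsOfTypeIV T)
    (hfull : (sideD T V).relIndex V * (Nat.card W₁ - 1) + 1 = Nat.card W₁ ^ Nat.card W₂)
    (hK : ⁅sideN T V, sideN T V⁆ = sideK T V) :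
    HasRegion (restSet S T W₁ W₂ (fittingHallOf S) Ks (fittingHallOf T) Kt) (threeHit T) (Nat.card W₂)
      (Nat.card V) := by
  haveI := Fintype.ofFinite T
  obtain ⟨τ₁, ζ, d, hτ, hζ, hd, he, hm⟩ := hT.exists_region_three h34 hfull hK
  exact ⟨_, T, inferInstance, _, threeK T, threeN T, inferInstance, inferInstance, τ₁, ζ, d, hτ, hζ, hd, rfl,
    hS.three_subset_restSet' hT c h34 le_rfl, he, hm⟩

/-- The region of `M` misses that of a maximal subgroup not conjugate to it. -/
theorem threeHit_disjoint {M A U B : Subgroup G} (hM : SideHyp M A U B) (h34 : IsOfTypeIII M ∨ IsOfTypeIV M)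
    {L : Subgroup G} (hL : IsCoatom L) (hne : ∀ g : G, L ≠ cj g M) (g : G)
    (h1 : g ∈ hitSet ((Cfsg.sigmaCore L : Set G) \ {1}) (Cfsg.supportR L)) (h2 : g ∈ threeHit M) : False :=
  hM.three_disjoint_sigma h34 hL hne g h2 h1

/-- `S` is of type II. -/
theorem typeII_of_full_pair (hS : SideHyp S W₁ U W₂) (hT : SideHyp T W₂ V W₁)
    (c : PairCtx S T W₁ W₂ U V (fittingHallOf S) Ks (fittingHallOf T) Kt u v χ)
    (tS : IsOfTypeII S ∨ IsOfTypeIII S ∨ IsOfTypeIV S)
    (hfull : (sideD S U).relIndex U * (Nat.card W₂ - 1) + 1 = Nat.card W₂ ^ Nat.card W₁)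
    (hK : ⁅sideN S U, sideN S U⁆ = sideK S U)
    (hu : u * (Nat.card W₂ - 1) + 1 = Nat.card W₂ ^ Nat.card W₁) (huU : u ≤ Nat.card U)
    (hv : v * (Nat.card W₁ - 1) + 1 = Nat.card W₁ ^ Nat.card W₂)
    (hnS : Ks.relIndex (fittingHallOf S) = Nat.card W₂ ^ Nat.card W₁)
    (hnT : Kt.relIndex (fittingHallOf T) = Nat.card W₁ ^ Nat.card W₂)
    (hlt : Nat.card W₁ < Nat.card W₂) : IsOfTypeII S := by
  refine tS.resolve_right fun h34 => ?_
  haveI := Fintype.ofFinite S
  haveI := Fintype.ofFinite T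
  exact absurd_index_q c hu hv hnS hnT hlt (hasRegion_three hS hT c h34 hfull hK) huU

end Cfsg.Lib.OddOrder
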